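import Mathlib
import Cfsg.Prelude.Def_GeometricClasses
import Cfsg.Agent.Lib.helper24.SfoDefs

/-!
# Piece CNT of block C of S5977 / S5978: counting the vectors of norm one through the fibres
of the real part
-/

set_option autoImplicit false

namespace Cfsg.Agent.Lib.helper2

open Cfsg.Geo Matrix

/-- CNT -/
theorem qfc_count {F : Type*} [Field F] [Fintype F] {ι : Type} [Fintype ι] [DecidableEq ι]
    (Q : (ι → F) → F) (δ : F) [Fact (∀ r : F, r ^ 2 ≠ δ + 0 * r)]
    (d : ℕ) (Φ : (Fin d → QuadraticAlgebra F δ 0) ≃+ (ι → F))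
    (qk : (ι → F) → QuadraticAlgebra F δ 0) (hre : ∀ v, (qk v).re = Q v) (N : ℕ)
    (hN : ∀ z : QuadraticAlgebra F δ 0, z ≠ 0 →
      Cfsg.Agent.Lib.helper24.sfoCount (fun k => qk (Φ k)) z = N) :
    Nat.card {v : ι → F // Q v = 1} = Fintype.card F * N := by
  classical
  have : Finite (QuadraticAlgebra F δ 0) :=
    Finite.of_equiv _ (QuadraticAlgebra.equivProd δ 0).symm
  let e1 : {v : ι → F // Q v = 1} ≃
      Σ b : F, {k : Fin d → QuadraticAlgebra F δ 0 // qk (Φ k) = ⟨1, b⟩} :=
    { toFun := fun v => ⟨(qk v.1).im, ⟨Φ.symm v.1, by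
          rw [AddEquiv.apply_symm_apply]
          ext
          · rw [hre, v.2]
          · rfl⟩⟩
      invFun := fun s => ⟨Φ s.2.1, by rw [← hre, s.2.2]⟩
      left_inv := fun v => by simp
      right_inv := fun s => by
        rcases s with ⟨b, k, hk⟩
        have hb : (qk (Φ k)).im = b := by rw [hk]
        subst hb
        simp }
  rw [Nat.card_congr e1, Nat.card_sigma]
  have hterm : ∀ b : F,
      Nat.card {k : Fin d → QuadraticAlgebra F δ 0 // qk (Φ k) = ⟨1, b⟩} = N := by
    intro b
    have hz : (⟨1, b⟩ : QuadraticAlgebra F δ 0) ≠ 0 := by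
      intro h0
      have := congrArg QuadraticAlgebra.re h0
      simp at this
    exact hN _ hz
  simp only [hterm, Finset.sum_const, Finset.card_univ, smul_eq_mul]

end Cfsg.Agent.Lib.helper2
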