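import Cfsg.Agent.Lib.helper95.B2Defs

/-! S1083 piece A (`ad_rel`): `X4 r t * Lmap c = Lmap (chevB2.xMat F r t *ᵥ c) * X4 r t` for the 8 roots.
(Generated by helper34; file owner namespace Cfsg.Agent.Lib.helper34 -- the theorems live in the project
namespace of helper95 as the S1083 spec asks; auxiliary names are prefixed `helper34_`.) -/

set_option autoImplicit false

namespace Cfsg.Agent.Lib.helper95.B2

open Matrix Cfsg Cfsg.Lie

variable {F : Type*} [Field F]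

theorem helper34_x_ll (r : Fin 8) (t : F) (i' i : Fin 2) :
    chevB2.xMat F r t (Sum.inl i' : Fin 2 ⊕ Fin 8) (Sum.inl i : Fin 2 ⊕ Fin 8) = if i' = i then 1 else 0 := rfl

theorem helper34_x_rl (r : Fin 8) (t : F) (u : Fin 8) (i : Fin 2) :
    chevB2.xMat F r t (Sum.inr u : Fin 2 ⊕ Fin 8) (Sum.inl i : Fin 2 ⊕ Fin 8) =
      if u = r then - (((chevB2.cartanSR.getD i.val #[]).getD r.val 0 : ℤ) : F) * t else 0 := rfl

theorem helper34_x_lr (r : Fin 8) (t : F) (i : Fin 2) (s : Fin 8) :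
    chevB2.xMat F r t (Sum.inl i : Fin 2 ⊕ Fin 8) (Sum.inr s : Fin 2 ⊕ Fin 8) =
      if s = r then 0 else if s.val = chevB2.negIdx.getD r.val 0 then
        (((chevB2.coroot.getD r.val #[]).getD i.val 0 : ℤ) : F) * t else 0 := rfl

theorem helper34_x_rr (r : Fin 8) (t : F) (u : Fin 8) (s : Fin 8) :
    chevB2.xMat F r t (Sum.inr u : Fin 2 ⊕ Fin 8) (Sum.inr s : Fin 2 ⊕ Fin 8) =
      if s = r then (if u = r then 1 else 0) else if s.val = chevB2.negIdx.getD r.val 0 then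
        (if u = s then 1 else if u = r then -(t ^ 2) else 0) else
        (if u = s then 1 else 0) +
             ((chevB2.chainCoeff r.val s.val u.val).map fun km => ((km.2 : ℤ) : F) * t ^ km.1).sum := rfl

set_option maxHeartbeats 4000000 in
theorem helper34_mv0 (t : F) (c : Fin 2 ⊕ Fin 8 → F) :
    chevB2.xMat F (0 : Fin 8) t *ᵥ c =
      Sum.elim ![c (Sum.inl 0) + -(t * c (Sum.inr 7)), c (Sum.inl 1) + -(t * c (Sum.inr 7))]
        ![(2) * t * c (Sum.inl 0) + c (Sum.inr 0) + -(t ^ 2 * c (Sum.inr 7)), c (Sum.inr 1) + t * c (Sum.inr 5), c (Sum.inr 2) + -(t * c (Sum.inr 6)), c (Sum.inr 3), c (Sum.inr 4), c (Sum.inr 5), c (Sum.inr 6), c (Sum.inr 7)] := by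
  refine funext fun (i : Fin 2 ⊕ Fin 8) => ?_
  show (∑ j : Fin 2 ⊕ Fin 8, chevB2.xMat F (0 : Fin 8) t i j * c j) = _
  rw [Fintype.sum_sum_type]
  simp only [Fin.sum_univ_succ, Fin.sum_univ_zero]
  rcases i with i | i <;> fin_cases i <;>
    simp only [helper34_x_ll, helper34_x_rl, helper34_x_lr, helper34_x_rr] <;>
    simp [chevB2, chevB2NegIdx, chevB2Chain, chevB2Chain0,
      ChevalleyDatum.chainCoeff, chevB2Coroot, chevB2CartanSR] <;> ring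

theorem helper34_p0h0 (t : F) (c : chevB2.Idx → F) :
    (chevB2.xMat F (0 : Fin 8) t *ᵥ c) (hI 0) = c (hI 0) + -(t * c (eI 7)) :=
  congrFun (helper34_mv0 t c) (Sum.inl (0 : Fin 2))

theorem helper34_p0h1 (t : F) (c : chevB2.Idx → F) :
    (chevB2.xMat F (0 : Fin 8) t *ᵥ c) (hI 1) = c (hI 1) + -(t * c (eI 7)) :=
  congrFun (helper34_mv0 t c) (Sum.inl (1 : Fin 2))

theorem helper34_p0e0 (t : F) (c : chevB2.Idx → F) :
    (chevB2.xMat F (0 : Fin 8) t *ᵥ c) (eI 0) = (2) * t * c (hI 0) + c (eI 0) + -(t ^ 2 * c (eI 7)) :=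
  congrFun (helper34_mv0 t c) (Sum.inr (0 : Fin 8))

theorem helper34_p0e1 (t : F) (c : chevB2.Idx → F) :
    (chevB2.xMat F (0 : Fin 8) t *ᵥ c) (eI 1) = c (eI 1) + t * c (eI 5) :=
  congrFun (helper34_mv0 t c) (Sum.inr (1 : Fin 8))

theorem helper34_p0e2 (t : F) (c : chevB2.Idx → F) :
    (chevB2.xMat F (0 : Fin 8) t *ᵥ c) (eI 2) = c (eI 2) + -(t * c (eI 6)) :=
  congrFun (helper34_mv0 t c) (Sum.inr (2 : Fin 8))

theorem helper34_p0e3 (t : F) (c : chevB2.Idx → F) :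
    (chevB2.xMat F (0 : Fin 8) t *ᵥ c) (eI 3) = c (eI 3) :=
  congrFun (helper34_mv0 t c) (Sum.inr (3 : Fin 8))

theorem helper34_p0e4 (t : F) (c : chevB2.Idx → F) :
    (chevB2.xMat F (0 : Fin 8) t *ᵥ c) (eI 4) = c (eI 4) :=
  congrFun (helper34_mv0 t c) (Sum.inr (4 : Fin 8))

theorem helper34_p0e5 (t : F) (c : chevB2.Idx → F) :
    (chevB2.xMat F (0 : Fin 8) t *ᵥ c) (eI 5) = c (eI 5) :=
  congrFun (helper34_mv0 t c) (Sum.inr (5 : Fin 8))

theorem helper34_p0e6 (t : F) (c : chevB2.Idx → F) :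
    (chevB2.xMat F (0 : Fin 8) t *ᵥ c) (eI 6) = c (eI 6) :=
  congrFun (helper34_mv0 t c) (Sum.inr (6 : Fin 8))

theorem helper34_p0e7 (t : F) (c : chevB2.Idx → F) :
    (chevB2.xMat F (0 : Fin 8) t *ᵥ c) (eI 7) = c (eI 7) :=
  congrFun (helper34_mv0 t c) (Sum.inr (7 : Fin 8))

set_option maxHeartbeats 4000000 in
theorem helper34_ad0 (t : F) (c : chevB2.Idx → F) :
    X4 0 t * Lmap c = Lmap (chevB2.xMat F (0 : Fin 8) t *ᵥ c) * X4 0 t := by
  simp only [Lmap, helper34_p0h0, helper34_p0h1, helper34_p0e0, helper34_p0e1, helper34_p0e2, helper34_p0e3, helper34_p0e4, helper34_p0e5, helper34_p0e6, helper34_p0e7]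
  ext i j
  fin_cases i <;> fin_cases j <;>
    simp [X4, Matrix.mul_apply, Fin.sum_univ_succ] <;> ring

set_option maxHeartbeats 4000000 in
theorem helper34_mv1 (t : F) (c : Fin 2 ⊕ Fin 8 → F) :
    chevB2.xMat F (1 : Fin 8) t *ᵥ c =
      Sum.elim ![c (Sum.inl 0) + -(t * c (Sum.inr 6)), c (Sum.inl 1) + (-2) * t * c (Sum.inr 6)]
        ![c (Sum.inr 0) + (2) * t * c (Sum.inr 2) + t ^ 2 * c (Sum.inr 4), t * c (Sum.inl 1) + c (Sum.inr 1) + -(t ^ 2 * c (Sum.inr 6)), c (Sum.inr 2) + t * c (Sum.inr 4), c (Sum.inr 3) + (-2) * t * c (Sum.inr 5) + t ^ 2 * c (Sum.inr 7), c (Sum.inr 4), c (Sum.inr 5) + -(t * c (Sum.inr 7)), c (Sum.inr 6), c (Sum.inr 7)] := by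
  refine funext fun (i : Fin 2 ⊕ Fin 8) => ?_
  show (∑ j : Fin 2 ⊕ Fin 8, chevB2.xMat F (1 : Fin 8) t i j * c j) = _
  rw [Fintype.sum_sum_type]
  simp only [Fin.sum_univ_succ, Fin.sum_univ_zero]
  rcases i with i | i <;> fin_cases i <;>
    simp only [helper34_x_ll, helper34_x_rl, helper34_x_lr, helper34_x_rr] <;>
    simp [chevB2, chevB2NegIdx, chevB2Chain, chevB2Chain1,
      ChevalleyDatum.chainCoeff, chevB2Coroot, chevB2CartanSR] <;> ring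

theorem helper34_p1h0 (t : F) (c : chevB2.Idx → F) :
    (chevB2.xMat F (1 : Fin 8) t *ᵥ c) (hI 0) = c (hI 0) + -(t * c (eI 6)) :=
  congrFun (helper34_mv1 t c) (Sum.inl (0 : Fin 2))

theorem helper34_p1h1 (t : F) (c : chevB2.Idx → F) :
    (chevB2.xMat F (1 : Fin 8) t *ᵥ c) (hI 1) = c (hI 1) + (-2) * t * c (eI 6) :=
  congrFun (helper34_mv1 t c) (Sum.inl (1 : Fin 2))

theorem helper34_p1e0 (t : F) (c : chevB2.Idx → F) :
    (chevB2.xMat F (1 : Fin 8) t *ᵥ c) (eI 0) = c (eI 0) + (2) * t * c (eI 2) + t ^ 2 * c (eI 4) :=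
  congrFun (helper34_mv1 t c) (Sum.inr (0 : Fin 8))

theorem helper34_p1e1 (t : F) (c : chevB2.Idx → F) :
    (chevB2.xMat F (1 : Fin 8) t *ᵥ c) (eI 1) = t * c (hI 1) + c (eI 1) + -(t ^ 2 * c (eI 6)) :=
  congrFun (helper34_mv1 t c) (Sum.inr (1 : Fin 8))

theorem helper34_p1e2 (t : F) (c : chevB2.Idx → F) :
    (chevB2.xMat F (1 : Fin 8) t *ᵥ c) (eI 2) = c (eI 2) + t * c (eI 4) :=
  congrFun (helper34_mv1 t c) (Sum.inr (2 : Fin 8))

theorem helper34_p1e3 (t : F) (c : chevB2.Idx → F) :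
    (chevB2.xMat F (1 : Fin 8) t *ᵥ c) (eI 3) = c (eI 3) + (-2) * t * c (eI 5) + t ^ 2 * c (eI 7) :=
  congrFun (helper34_mv1 t c) (Sum.inr (3 : Fin 8))

theorem helper34_p1e4 (t : F) (c : chevB2.Idx → F) :
    (chevB2.xMat F (1 : Fin 8) t *ᵥ c) (eI 4) = c (eI 4) :=
  congrFun (helper34_mv1 t c) (Sum.inr (4 : Fin 8))

theorem helper34_p1e5 (t : F) (c : chevB2.Idx → F) :
    (chevB2.xMat F (1 : Fin 8) t *ᵥ c) (eI 5) = c (eI 5) + -(t * c (eI 7)) :=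
  congrFun (helper34_mv1 t c) (Sum.inr (5 : Fin 8))

theorem helper34_p1e6 (t : F) (c : chevB2.Idx → F) :
    (chevB2.xMat F (1 : Fin 8) t *ᵥ c) (eI 6) = c (eI 6) :=
  congrFun (helper34_mv1 t c) (Sum.inr (6 : Fin 8))

theorem helper34_p1e7 (t : F) (c : chevB2.Idx → F) :
    (chevB2.xMat F (1 : Fin 8) t *ᵥ c) (eI 7) = c (eI 7) :=
  congrFun (helper34_mv1 t c) (Sum.inr (7 : Fin 8))

set_option maxHeartbeats 4000000 in
theorem helper34_ad1 (t : F) (c : chevB2.Idx → F) :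
    X4 1 t * Lmap c = Lmap (chevB2.xMat F (1 : Fin 8) t *ᵥ c) * X4 1 t := by
  simp only [Lmap, helper34_p1h0, helper34_p1h1, helper34_p1e0, helper34_p1e1, helper34_p1e2, helper34_p1e3, helper34_p1e4, helper34_p1e5, helper34_p1e6, helper34_p1e7]
  ext i j
  fin_cases i <;> fin_cases j <;>
    simp [X4, Matrix.mul_apply, Fin.sum_univ_succ] <;> ring

set_option maxHeartbeats 4000000 in
theorem helper34_mv2 (t : F) (c : Fin 2 ⊕ Fin 8 → F) :
    chevB2.xMat F (2 : Fin 8) t *ᵥ c =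
      Sum.elim ![c (Sum.inl 0) + -(t * c (Sum.inr 5)), c (Sum.inl 1)]
        ![c (Sum.inr 0) + (-2) * t * c (Sum.inr 1) + -(t ^ 2 * c (Sum.inr 3)), c (Sum.inr 1) + t * c (Sum.inr 3), (2) * t * c (Sum.inl 0) + -(t * c (Sum.inl 1)) + c (Sum.inr 2) + -(t ^ 2 * c (Sum.inr 5)), c (Sum.inr 3), c (Sum.inr 4) + (-2) * t * c (Sum.inr 6) + -(t ^ 2 * c (Sum.inr 7)), c (Sum.inr 5), c (Sum.inr 6) + t * c (Sum.inr 7), c (Sum.inr 7)] := by
  refine funext fun (i : Fin 2 ⊕ Fin 8) => ?_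
  show (∑ j : Fin 2 ⊕ Fin 8, chevB2.xMat F (2 : Fin 8) t i j * c j) = _
  rw [Fintype.sum_sum_type]
  simp only [Fin.sum_univ_succ, Fin.sum_univ_zero]
  rcases i with i | i <;> fin_cases i <;>
    simp only [helper34_x_ll, helper34_x_rl, helper34_x_lr, helper34_x_rr] <;>
    simp [chevB2, chevB2NegIdx, chevB2Chain, chevB2Chain2,
      ChevalleyDatum.chainCoeff, chevB2Coroot, chevB2CartanSR] <;> ring

theorem helper34_p2h0 (t : F) (c : chevB2.Idx → F) :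
    (chevB2.xMat F (2 : Fin 8) t *ᵥ c) (hI 0) = c (hI 0) + -(t * c (eI 5)) :=
  congrFun (helper34_mv2 t c) (Sum.inl (0 : Fin 2))

theorem helper34_p2h1 (t : F) (c : chevB2.Idx → F) :
    (chevB2.xMat F (2 : Fin 8) t *ᵥ c) (hI 1) = c (hI 1) :=
  congrFun (helper34_mv2 t c) (Sum.inl (1 : Fin 2))

theorem helper34_p2e0 (t : F) (c : chevB2.Idx → F) :
    (chevB2.xMat F (2 : Fin 8) t *ᵥ c) (eI 0) = c (eI 0) + (-2) * t * c (eI 1) + -(t ^ 2 * c (eI 3)) :=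
  congrFun (helper34_mv2 t c) (Sum.inr (0 : Fin 8))

theorem helper34_p2e1 (t : F) (c : chevB2.Idx → F) :
    (chevB2.xMat F (2 : Fin 8) t *ᵥ c) (eI 1) = c (eI 1) + t * c (eI 3) :=
  congrFun (helper34_mv2 t c) (Sum.inr (1 : Fin 8))

theorem helper34_p2e2 (t : F) (c : chevB2.Idx → F) :
    (chevB2.xMat F (2 : Fin 8) t *ᵥ c) (eI 2) = (2) * t * c (hI 0) + -(t * c (hI 1)) + c (eI 2) + -(t ^ 2 * c (eI 5)) :=
  congrFun (helper34_mv2 t c) (Sum.inr (2 : Fin 8))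

theorem helper34_p2e3 (t : F) (c : chevB2.Idx → F) :
    (chevB2.xMat F (2 : Fin 8) t *ᵥ c) (eI 3) = c (eI 3) :=
  congrFun (helper34_mv2 t c) (Sum.inr (3 : Fin 8))

theorem helper34_p2e4 (t : F) (c : chevB2.Idx → F) :
    (chevB2.xMat F (2 : Fin 8) t *ᵥ c) (eI 4) = c (eI 4) + (-2) * t * c (eI 6) + -(t ^ 2 * c (eI 7)) :=
  congrFun (helper34_mv2 t c) (Sum.inr (4 : Fin 8))

theorem helper34_p2e5 (t : F) (c : chevB2.Idx → F) :
    (chevB2.xMat F (2 : Fin 8) t *ᵥ c) (eI 5) = c (eI 5) :=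
  congrFun (helper34_mv2 t c) (Sum.inr (5 : Fin 8))

theorem helper34_p2e6 (t : F) (c : chevB2.Idx → F) :
    (chevB2.xMat F (2 : Fin 8) t *ᵥ c) (eI 6) = c (eI 6) + t * c (eI 7) :=
  congrFun (helper34_mv2 t c) (Sum.inr (6 : Fin 8))

theorem helper34_p2e7 (t : F) (c : chevB2.Idx → F) :
    (chevB2.xMat F (2 : Fin 8) t *ᵥ c) (eI 7) = c (eI 7) :=
  congrFun (helper34_mv2 t c) (Sum.inr (7 : Fin 8))

set_option maxHeartbeats 4000000 in
theorem helper34_ad2 (t : F) (c : chevB2.Idx → F) :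
    X4 2 t * Lmap c = Lmap (chevB2.xMat F (2 : Fin 8) t *ᵥ c) * X4 2 t := by
  simp only [Lmap, helper34_p2h0, helper34_p2h1, helper34_p2e0, helper34_p2e1, helper34_p2e2, helper34_p2e3, helper34_p2e4, helper34_p2e5, helper34_p2e6, helper34_p2e7]
  ext i j
  fin_cases i <;> fin_cases j <;>
    simp [X4, Matrix.mul_apply, Fin.sum_univ_succ] <;> ring

set_option maxHeartbeats 4000000 in
theorem helper34_mv3 (t : F) (c : Fin 2 ⊕ Fin 8 → F) :
    chevB2.xMat F (3 : Fin 8) t *ᵥ c =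
      Sum.elim ![c (Sum.inl 0), c (Sum.inl 1) + -(t * c (Sum.inr 4))]
        ![c (Sum.inr 0), c (Sum.inr 1) + -(t * c (Sum.inr 2)), c (Sum.inr 2), (-2) * t * c (Sum.inl 0) + (2) * t * c (Sum.inl 1) + c (Sum.inr 3) + -(t ^ 2 * c (Sum.inr 4)), c (Sum.inr 4), c (Sum.inr 5) + t * c (Sum.inr 6), c (Sum.inr 6), c (Sum.inr 7)] := by
  refine funext fun (i : Fin 2 ⊕ Fin 8) => ?_
  show (∑ j : Fin 2 ⊕ Fin 8, chevB2.xMat F (3 : Fin 8) t i j * c j) = _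
  rw [Fintype.sum_sum_type]
  simp only [Fin.sum_univ_succ, Fin.sum_univ_zero]
  rcases i with i | i <;> fin_cases i <;>
    simp only [helper34_x_ll, helper34_x_rl, helper34_x_lr, helper34_x_rr] <;>
    simp [chevB2, chevB2NegIdx, chevB2Chain, chevB2Chain3,
      ChevalleyDatum.chainCoeff, chevB2Coroot, chevB2CartanSR] <;> ring

theorem helper34_p3h0 (t : F) (c : chevB2.Idx → F) :
    (chevB2.xMat F (3 : Fin 8) t *ᵥ c) (hI 0) = c (hI 0) :=
  congrFun (helper34_mv3 t c) (Sum.inl (0 : Fin 2))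

theorem helper34_p3h1 (t : F) (c : chevB2.Idx → F) :
    (chevB2.xMat F (3 : Fin 8) t *ᵥ c) (hI 1) = c (hI 1) + -(t * c (eI 4)) :=
  congrFun (helper34_mv3 t c) (Sum.inl (1 : Fin 2))

theorem helper34_p3e0 (t : F) (c : chevB2.Idx → F) :
    (chevB2.xMat F (3 : Fin 8) t *ᵥ c) (eI 0) = c (eI 0) :=
  congrFun (helper34_mv3 t c) (Sum.inr (0 : Fin 8))

theorem helper34_p3e1 (t : F) (c : chevB2.Idx → F) :
    (chevB2.xMat F (3 : Fin 8) t *ᵥ c) (eI 1) = c (eI 1) + -(t * c (eI 2)) :=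
  congrFun (helper34_mv3 t c) (Sum.inr (1 : Fin 8))

theorem helper34_p3e2 (t : F) (c : chevB2.Idx → F) :
    (chevB2.xMat F (3 : Fin 8) t *ᵥ c) (eI 2) = c (eI 2) :=
  congrFun (helper34_mv3 t c) (Sum.inr (2 : Fin 8))

theorem helper34_p3e3 (t : F) (c : chevB2.Idx → F) :
    (chevB2.xMat F (3 : Fin 8) t *ᵥ c) (eI 3) = (-2) * t * c (hI 0) + (2) * t * c (hI 1) + c (eI 3) + -(t ^ 2 * c (eI 4)) :=
  congrFun (helper34_mv3 t c) (Sum.inr (3 : Fin 8))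

theorem helper34_p3e4 (t : F) (c : chevB2.Idx → F) :
    (chevB2.xMat F (3 : Fin 8) t *ᵥ c) (eI 4) = c (eI 4) :=
  congrFun (helper34_mv3 t c) (Sum.inr (4 : Fin 8))

theorem helper34_p3e5 (t : F) (c : chevB2.Idx → F) :
    (chevB2.xMat F (3 : Fin 8) t *ᵥ c) (eI 5) = c (eI 5) + t * c (eI 6) :=
  congrFun (helper34_mv3 t c) (Sum.inr (5 : Fin 8))

theorem helper34_p3e6 (t : F) (c : chevB2.Idx → F) :
    (chevB2.xMat F (3 : Fin 8) t *ᵥ c) (eI 6) = c (eI 6) :=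
  congrFun (helper34_mv3 t c) (Sum.inr (6 : Fin 8))

theorem helper34_p3e7 (t : F) (c : chevB2.Idx → F) :
    (chevB2.xMat F (3 : Fin 8) t *ᵥ c) (eI 7) = c (eI 7) :=
  congrFun (helper34_mv3 t c) (Sum.inr (7 : Fin 8))

set_option maxHeartbeats 4000000 in
theorem helper34_ad3 (t : F) (c : chevB2.Idx → F) :
    X4 3 t * Lmap c = Lmap (chevB2.xMat F (3 : Fin 8) t *ᵥ c) * X4 3 t := by
  simp only [Lmap, helper34_p3h0, helper34_p3h1, helper34_p3e0, helper34_p3e1, helper34_p3e2, helper34_p3e3, helper34_p3e4, helper34_p3e5, helper34_p3e6, helper34_p3e7]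
  ext i j
  fin_cases i <;> fin_cases j <;>
    simp [X4, Matrix.mul_apply, Fin.sum_univ_succ] <;> ring

set_option maxHeartbeats 4000000 in
theorem helper34_mv4 (t : F) (c : Fin 2 ⊕ Fin 8 → F) :
    chevB2.xMat F (4 : Fin 8) t *ᵥ c =
      Sum.elim ![c (Sum.inl 0), c (Sum.inl 1) + t * c (Sum.inr 3)]
        ![c (Sum.inr 0), c (Sum.inr 1), -(t * c (Sum.inr 1)) + c (Sum.inr 2), c (Sum.inr 3), (2) * t * c (Sum.inl 0) + (-2) * t * c (Sum.inl 1) + -(t ^ 2 * c (Sum.inr 3)) + c (Sum.inr 4), c (Sum.inr 5), t * c (Sum.inr 5) + c (Sum.inr 6), c (Sum.inr 7)] := by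
  refine funext fun (i : Fin 2 ⊕ Fin 8) => ?_
  show (∑ j : Fin 2 ⊕ Fin 8, chevB2.xMat F (4 : Fin 8) t i j * c j) = _
  rw [Fintype.sum_sum_type]
  simp only [Fin.sum_univ_succ, Fin.sum_univ_zero]
  rcases i with i | i <;> fin_cases i <;>
    simp only [helper34_x_ll, helper34_x_rl, helper34_x_lr, helper34_x_rr] <;>
    simp [chevB2, chevB2NegIdx, chevB2Chain, chevB2Chain4,
      ChevalleyDatum.chainCoeff, chevB2Coroot, chevB2CartanSR] <;> ring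

theorem helper34_p4h0 (t : F) (c : chevB2.Idx → F) :
    (chevB2.xMat F (4 : Fin 8) t *ᵥ c) (hI 0) = c (hI 0) :=
  congrFun (helper34_mv4 t c) (Sum.inl (0 : Fin 2))

theorem helper34_p4h1 (t : F) (c : chevB2.Idx → F) :
    (chevB2.xMat F (4 : Fin 8) t *ᵥ c) (hI 1) = c (hI 1) + t * c (eI 3) :=
  congrFun (helper34_mv4 t c) (Sum.inl (1 : Fin 2))

theorem helper34_p4e0 (t : F) (c : chevB2.Idx → F) :
    (chevB2.xMat F (4 : Fin 8) t *ᵥ c) (eI 0) = c (eI 0) :=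
  congrFun (helper34_mv4 t c) (Sum.inr (0 : Fin 8))

theorem helper34_p4e1 (t : F) (c : chevB2.Idx → F) :
    (chevB2.xMat F (4 : Fin 8) t *ᵥ c) (eI 1) = c (eI 1) :=
  congrFun (helper34_mv4 t c) (Sum.inr (1 : Fin 8))

theorem helper34_p4e2 (t : F) (c : chevB2.Idx → F) :
    (chevB2.xMat F (4 : Fin 8) t *ᵥ c) (eI 2) = -(t * c (eI 1)) + c (eI 2) :=
  congrFun (helper34_mv4 t c) (Sum.inr (2 : Fin 8))

theorem helper34_p4e3 (t : F) (c : chevB2.Idx → F) :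
    (chevB2.xMat F (4 : Fin 8) t *ᵥ c) (eI 3) = c (eI 3) :=
  congrFun (helper34_mv4 t c) (Sum.inr (3 : Fin 8))

theorem helper34_p4e4 (t : F) (c : chevB2.Idx → F) :
    (chevB2.xMat F (4 : Fin 8) t *ᵥ c) (eI 4) = (2) * t * c (hI 0) + (-2) * t * c (hI 1) + -(t ^ 2 * c (eI 3)) + c (eI 4) :=
  congrFun (helper34_mv4 t c) (Sum.inr (4 : Fin 8))

theorem helper34_p4e5 (t : F) (c : chevB2.Idx → F) :
    (chevB2.xMat F (4 : Fin 8) t *ᵥ c) (eI 5) = c (eI 5) :=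
  congrFun (helper34_mv4 t c) (Sum.inr (5 : Fin 8))

theorem helper34_p4e6 (t : F) (c : chevB2.Idx → F) :
    (chevB2.xMat F (4 : Fin 8) t *ᵥ c) (eI 6) = t * c (eI 5) + c (eI 6) :=
  congrFun (helper34_mv4 t c) (Sum.inr (6 : Fin 8))

theorem helper34_p4e7 (t : F) (c : chevB2.Idx → F) :
    (chevB2.xMat F (4 : Fin 8) t *ᵥ c) (eI 7) = c (eI 7) :=
  congrFun (helper34_mv4 t c) (Sum.inr (7 : Fin 8))

set_option maxHeartbeats 4000000 in
theorem helper34_ad4 (t : F) (c : chevB2.Idx → F) :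
    X4 4 t * Lmap c = Lmap (chevB2.xMat F (4 : Fin 8) t *ᵥ c) * X4 4 t := by
  simp only [Lmap, helper34_p4h0, helper34_p4h1, helper34_p4e0, helper34_p4e1, helper34_p4e2, helper34_p4e3, helper34_p4e4, helper34_p4e5, helper34_p4e6, helper34_p4e7]
  ext i j
  fin_cases i <;> fin_cases j <;>
    simp [X4, Matrix.mul_apply, Fin.sum_univ_succ] <;> ring

set_option maxHeartbeats 4000000 in
theorem helper34_mv5 (t : F) (c : Fin 2 ⊕ Fin 8 → F) :
    chevB2.xMat F (5 : Fin 8) t *ᵥ c =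
      Sum.elim ![c (Sum.inl 0) + t * c (Sum.inr 2), c (Sum.inl 1)]
        ![c (Sum.inr 0), -(t * c (Sum.inr 0)) + c (Sum.inr 1), c (Sum.inr 2), -(t ^ 2 * c (Sum.inr 0)) + (2) * t * c (Sum.inr 1) + c (Sum.inr 3), c (Sum.inr 4), (-2) * t * c (Sum.inl 0) + t * c (Sum.inl 1) + -(t ^ 2 * c (Sum.inr 2)) + c (Sum.inr 5), -(t * c (Sum.inr 4)) + c (Sum.inr 6), -(t ^ 2 * c (Sum.inr 4)) + (2) * t * c (Sum.inr 6) + c (Sum.inr 7)] := by
  refine funext fun (i : Fin 2 ⊕ Fin 8) => ?_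
  show (∑ j : Fin 2 ⊕ Fin 8, chevB2.xMat F (5 : Fin 8) t i j * c j) = _
  rw [Fintype.sum_sum_type]
  simp only [Fin.sum_univ_succ, Fin.sum_univ_zero]
  rcases i with i | i <;> fin_cases i <;>
    simp only [helper34_x_ll, helper34_x_rl, helper34_x_lr, helper34_x_rr] <;>
    simp [chevB2, chevB2NegIdx, chevB2Chain, chevB2Chain5,
      ChevalleyDatum.chainCoeff, chevB2Coroot, chevB2CartanSR] <;> ring

theorem helper34_p5h0 (t : F) (c : chevB2.Idx → F) :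
    (chevB2.xMat F (5 : Fin 8) t *ᵥ c) (hI 0) = c (hI 0) + t * c (eI 2) :=
  congrFun (helper34_mv5 t c) (Sum.inl (0 : Fin 2))

theorem helper34_p5h1 (t : F) (c : chevB2.Idx → F) :
    (chevB2.xMat F (5 : Fin 8) t *ᵥ c) (hI 1) = c (hI 1) :=
  congrFun (helper34_mv5 t c) (Sum.inl (1 : Fin 2))

theorem helper34_p5e0 (t : F) (c : chevB2.Idx → F) :
    (chevB2.xMat F (5 : Fin 8) t *ᵥ c) (eI 0) = c (eI 0) :=
  congrFun (helper34_mv5 t c) (Sum.inr (0 : Fin 8))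

theorem helper34_p5e1 (t : F) (c : chevB2.Idx → F) :
    (chevB2.xMat F (5 : Fin 8) t *ᵥ c) (eI 1) = -(t * c (eI 0)) + c (eI 1) :=
  congrFun (helper34_mv5 t c) (Sum.inr (1 : Fin 8))

theorem helper34_p5e2 (t : F) (c : chevB2.Idx → F) :
    (chevB2.xMat F (5 : Fin 8) t *ᵥ c) (eI 2) = c (eI 2) :=
  congrFun (helper34_mv5 t c) (Sum.inr (2 : Fin 8))

theorem helper34_p5e3 (t : F) (c : chevB2.Idx → F) :
    (chevB2.xMat F (5 : Fin 8) t *ᵥ c) (eI 3) = -(t ^ 2 * c (eI 0)) + (2) * t * c (eI 1) + c (eI 3) :=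
  congrFun (helper34_mv5 t c) (Sum.inr (3 : Fin 8))

theorem helper34_p5e4 (t : F) (c : chevB2.Idx → F) :
    (chevB2.xMat F (5 : Fin 8) t *ᵥ c) (eI 4) = c (eI 4) :=
  congrFun (helper34_mv5 t c) (Sum.inr (4 : Fin 8))

theorem helper34_p5e5 (t : F) (c : chevB2.Idx → F) :
    (chevB2.xMat F (5 : Fin 8) t *ᵥ c) (eI 5) = (-2) * t * c (hI 0) + t * c (hI 1) + -(t ^ 2 * c (eI 2)) + c (eI 5) :=
  congrFun (helper34_mv5 t c) (Sum.inr (5 : Fin 8))

theorem helper34_p5e6 (t : F) (c : chevB2.Idx → F) :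
    (chevB2.xMat F (5 : Fin 8) t *ᵥ c) (eI 6) = -(t * c (eI 4)) + c (eI 6) :=
  congrFun (helper34_mv5 t c) (Sum.inr (6 : Fin 8))

theorem helper34_p5e7 (t : F) (c : chevB2.Idx → F) :
    (chevB2.xMat F (5 : Fin 8) t *ᵥ c) (eI 7) = -(t ^ 2 * c (eI 4)) + (2) * t * c (eI 6) + c (eI 7) :=
  congrFun (helper34_mv5 t c) (Sum.inr (7 : Fin 8))

set_option maxHeartbeats 4000000 in
theorem helper34_ad5 (t : F) (c : chevB2.Idx → F) :
    X4 5 t * Lmap c = Lmap (chevB2.xMat F (5 : Fin 8) t *ᵥ c) * X4 5 t := by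
  simp only [Lmap, helper34_p5h0, helper34_p5h1, helper34_p5e0, helper34_p5e1, helper34_p5e2, helper34_p5e3, helper34_p5e4, helper34_p5e5, helper34_p5e6, helper34_p5e7]
  ext i j
  fin_cases i <;> fin_cases j <;>
    simp [X4, Matrix.mul_apply, Fin.sum_univ_succ] <;> ring

set_option maxHeartbeats 4000000 in
theorem helper34_mv6 (t : F) (c : Fin 2 ⊕ Fin 8 → F) :
    chevB2.xMat F (6 : Fin 8) t *ᵥ c =
      Sum.elim ![c (Sum.inl 0) + t * c (Sum.inr 1), c (Sum.inl 1) + (2) * t * c (Sum.inr 1)]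
        ![c (Sum.inr 0), c (Sum.inr 1), t * c (Sum.inr 0) + c (Sum.inr 2), c (Sum.inr 3), t ^ 2 * c (Sum.inr 0) + (2) * t * c (Sum.inr 2) + c (Sum.inr 4), -(t * c (Sum.inr 3)) + c (Sum.inr 5), -(t * c (Sum.inl 1)) + -(t ^ 2 * c (Sum.inr 1)) + c (Sum.inr 6), t ^ 2 * c (Sum.inr 3) + (-2) * t * c (Sum.inr 5) + c (Sum.inr 7)] := by
  refine funext fun (i : Fin 2 ⊕ Fin 8) => ?_
  show (∑ j : Fin 2 ⊕ Fin 8, chevB2.xMat F (6 : Fin 8) t i j * c j) = _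
  rw [Fintype.sum_sum_type]
  simp only [Fin.sum_univ_succ, Fin.sum_univ_zero]
  rcases i with i | i <;> fin_cases i <;>
    simp only [helper34_x_ll, helper34_x_rl, helper34_x_lr, helper34_x_rr] <;>
    simp [chevB2, chevB2NegIdx, chevB2Chain, chevB2Chain6,
      ChevalleyDatum.chainCoeff, chevB2Coroot, chevB2CartanSR] <;> ring

theorem helper34_p6h0 (t : F) (c : chevB2.Idx → F) :
    (chevB2.xMat F (6 : Fin 8) t *ᵥ c) (hI 0) = c (hI 0) + t * c (eI 1) :=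
  congrFun (helper34_mv6 t c) (Sum.inl (0 : Fin 2))

theorem helper34_p6h1 (t : F) (c : chevB2.Idx → F) :
    (chevB2.xMat F (6 : Fin 8) t *ᵥ c) (hI 1) = c (hI 1) + (2) * t * c (eI 1) :=
  congrFun (helper34_mv6 t c) (Sum.inl (1 : Fin 2))

theorem helper34_p6e0 (t : F) (c : chevB2.Idx → F) :
    (chevB2.xMat F (6 : Fin 8) t *ᵥ c) (eI 0) = c (eI 0) :=
  congrFun (helper34_mv6 t c) (Sum.inr (0 : Fin 8))

theorem helper34_p6e1 (t : F) (c : chevB2.Idx → F) :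
    (chevB2.xMat F (6 : Fin 8) t *ᵥ c) (eI 1) = c (eI 1) :=
  congrFun (helper34_mv6 t c) (Sum.inr (1 : Fin 8))

theorem helper34_p6e2 (t : F) (c : chevB2.Idx → F) :
    (chevB2.xMat F (6 : Fin 8) t *ᵥ c) (eI 2) = t * c (eI 0) + c (eI 2) :=
  congrFun (helper34_mv6 t c) (Sum.inr (2 : Fin 8))

theorem helper34_p6e3 (t : F) (c : chevB2.Idx → F) :
    (chevB2.xMat F (6 : Fin 8) t *ᵥ c) (eI 3) = c (eI 3) :=
  congrFun (helper34_mv6 t c) (Sum.inr (3 : Fin 8))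

theorem helper34_p6e4 (t : F) (c : chevB2.Idx → F) :
    (chevB2.xMat F (6 : Fin 8) t *ᵥ c) (eI 4) = t ^ 2 * c (eI 0) + (2) * t * c (eI 2) + c (eI 4) :=
  congrFun (helper34_mv6 t c) (Sum.inr (4 : Fin 8))

theorem helper34_p6e5 (t : F) (c : chevB2.Idx → F) :
    (chevB2.xMat F (6 : Fin 8) t *ᵥ c) (eI 5) = -(t * c (eI 3)) + c (eI 5) :=
  congrFun (helper34_mv6 t c) (Sum.inr (5 : Fin 8))

theorem helper34_p6e6 (t : F) (c : chevB2.Idx → F) :
    (chevB2.xMat F (6 : Fin 8) t *ᵥ c) (eI 6) = -(t * c (hI 1)) + -(t ^ 2 * c (eI 1)) + c (eI 6) :=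
  congrFun (helper34_mv6 t c) (Sum.inr (6 : Fin 8))

theorem helper34_p6e7 (t : F) (c : chevB2.Idx → F) :
    (chevB2.xMat F (6 : Fin 8) t *ᵥ c) (eI 7) = t ^ 2 * c (eI 3) + (-2) * t * c (eI 5) + c (eI 7) :=
  congrFun (helper34_mv6 t c) (Sum.inr (7 : Fin 8))

set_option maxHeartbeats 4000000 in
theorem helper34_ad6 (t : F) (c : chevB2.Idx → F) :
    X4 6 t * Lmap c = Lmap (chevB2.xMat F (6 : Fin 8) t *ᵥ c) * X4 6 t := by
  simp only [Lmap, helper34_p6h0, helper34_p6h1, helper34_p6e0, helper34_p6e1, helper34_p6e2, helper34_p6e3, helper34_p6e4, helper34_p6e5, helper34_p6e6, helper34_p6e7]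
  ext i j
  fin_cases i <;> fin_cases j <;>
    simp [X4, Matrix.mul_apply, Fin.sum_univ_succ] <;> ring

set_option maxHeartbeats 4000000 in
theorem helper34_mv7 (t : F) (c : Fin 2 ⊕ Fin 8 → F) :
    chevB2.xMat F (7 : Fin 8) t *ᵥ c =
      Sum.elim ![c (Sum.inl 0) + t * c (Sum.inr 0), c (Sum.inl 1) + t * c (Sum.inr 0)]
        ![c (Sum.inr 0), c (Sum.inr 1), c (Sum.inr 2), c (Sum.inr 3), c (Sum.inr 4), t * c (Sum.inr 1) + c (Sum.inr 5), -(t * c (Sum.inr 2)) + c (Sum.inr 6), (-2) * t * c (Sum.inl 0) + -(t ^ 2 * c (Sum.inr 0)) + c (Sum.inr 7)] := by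
  refine funext fun (i : Fin 2 ⊕ Fin 8) => ?_
  show (∑ j : Fin 2 ⊕ Fin 8, chevB2.xMat F (7 : Fin 8) t i j * c j) = _
  rw [Fintype.sum_sum_type]
  simp only [Fin.sum_univ_succ, Fin.sum_univ_zero]
  rcases i with i | i <;> fin_cases i <;>
    simp only [helper34_x_ll, helper34_x_rl, helper34_x_lr, helper34_x_rr] <;>
    simp [chevB2, chevB2NegIdx, chevB2Chain, chevB2Chain7,
      ChevalleyDatum.chainCoeff, chevB2Coroot, chevB2CartanSR] <;> ring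

theorem helper34_p7h0 (t : F) (c : chevB2.Idx → F) :
    (chevB2.xMat F (7 : Fin 8) t *ᵥ c) (hI 0) = c (hI 0) + t * c (eI 0) :=
  congrFun (helper34_mv7 t c) (Sum.inl (0 : Fin 2))

theorem helper34_p7h1 (t : F) (c : chevB2.Idx → F) :
    (chevB2.xMat F (7 : Fin 8) t *ᵥ c) (hI 1) = c (hI 1) + t * c (eI 0) :=
  congrFun (helper34_mv7 t c) (Sum.inl (1 : Fin 2))

theorem helper34_p7e0 (t : F) (c : chevB2.Idx → F) :
    (chevB2.xMat F (7 : Fin 8) t *ᵥ c) (eI 0) = c (eI 0) :=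
  congrFun (helper34_mv7 t c) (Sum.inr (0 : Fin 8))

theorem helper34_p7e1 (t : F) (c : chevB2.Idx → F) :
    (chevB2.xMat F (7 : Fin 8) t *ᵥ c) (eI 1) = c (eI 1) :=
  congrFun (helper34_mv7 t c) (Sum.inr (1 : Fin 8))

theorem helper34_p7e2 (t : F) (c : chevB2.Idx → F) :
    (chevB2.xMat F (7 : Fin 8) t *ᵥ c) (eI 2) = c (eI 2) :=
  congrFun (helper34_mv7 t c) (Sum.inr (2 : Fin 8))

theorem helper34_p7e3 (t : F) (c : chevB2.Idx → F) :
    (chevB2.xMat F (7 : Fin 8) t *ᵥ c) (eI 3) = c (eI 3) :=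
  congrFun (helper34_mv7 t c) (Sum.inr (3 : Fin 8))

theorem helper34_p7e4 (t : F) (c : chevB2.Idx → F) :
    (chevB2.xMat F (7 : Fin 8) t *ᵥ c) (eI 4) = c (eI 4) :=
  congrFun (helper34_mv7 t c) (Sum.inr (4 : Fin 8))

theorem helper34_p7e5 (t : F) (c : chevB2.Idx → F) :
    (chevB2.xMat F (7 : Fin 8) t *ᵥ c) (eI 5) = t * c (eI 1) + c (eI 5) :=
  congrFun (helper34_mv7 t c) (Sum.inr (5 : Fin 8))

theorem helper34_p7e6 (t : F) (c : chevB2.Idx → F) :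
    (chevB2.xMat F (7 : Fin 8) t *ᵥ c) (eI 6) = -(t * c (eI 2)) + c (eI 6) :=
  congrFun (helper34_mv7 t c) (Sum.inr (6 : Fin 8))

theorem helper34_p7e7 (t : F) (c : chevB2.Idx → F) :
    (chevB2.xMat F (7 : Fin 8) t *ᵥ c) (eI 7) = (-2) * t * c (hI 0) + -(t ^ 2 * c (eI 0)) + c (eI 7) :=
  congrFun (helper34_mv7 t c) (Sum.inr (7 : Fin 8))

set_option maxHeartbeats 4000000 in
theorem helper34_ad7 (t : F) (c : chevB2.Idx → F) :
    X4 7 t * Lmap c = Lmap (chevB2.xMat F (7 : Fin 8) t *ᵥ c) * X4 7 t := by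
  simp only [Lmap, helper34_p7h0, helper34_p7h1, helper34_p7e0, helper34_p7e1, helper34_p7e2, helper34_p7e3, helper34_p7e4, helper34_p7e5, helper34_p7e6, helper34_p7e7]
  ext i j
  fin_cases i <;> fin_cases j <;>
    simp [X4, Matrix.mul_apply, Fin.sum_univ_succ] <;> ring

theorem ad_rel (r : Fin 8) (t : F) (c : chevB2.Idx → F) :
    X4 r t * Lmap c = Lmap (chevB2.xMat F r t *ᵥ c) * X4 r t := by
  fin_cases r
  · exact helper34_ad0 t c
  · exact helper34_ad1 t c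
  · exact helper34_ad2 t c
  · exact helper34_ad3 t c
  · exact helper34_ad4 t c
  · exact helper34_ad5 t c
  · exact helper34_ad6 t c
  · exact helper34_ad7 t c

end Cfsg.Agent.Lib.helper95.B2
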