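import Cfsg.Agent.Lib.helper95.B2Defs

/-! S1083 piece AN (`dg_conj`): the diagonal elements `dg ε 1 c` normalise the root subgroups.
(helper34; file owner namespace Cfsg.Agent.Lib.helper34 -- the theorem lives in the project namespace of
helper95 as the S1083 spec asks; auxiliary names are prefixed `helper34_`.) -/

set_option autoImplicit false

namespace Cfsg.Agent.Lib.helper95.B2

open Matrix Cfsg Cfsg.Lie

variable {F : Type*} [Field F]

set_option maxHeartbeats 4000000 in
theorem helper34_dg_conj_aux (ε c : F) (hε : ε * ε = 1) (hc : c ≠ 0) (r : Fin 8) (t : F) :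
    dg ε 1 c * N5 r t =
      N5 r (![t / c, ε * t, ε * t / c, c * t, t / c, ε * c * t, ε * t, c * t] r) * dg ε 1 c := by
  have hc' : c * c⁻¹ = 1 := mul_inv_cancel₀ hc
  have h2 : ε ^ 2 = 1 := by rw [pow_two]; exact hε
  fin_cases r <;> ext i j <;> fin_cases i <;> fin_cases j <;>
    simp [dg, N5, Matrix.mul_apply, Fin.sum_univ_succ, Matrix.diagonal_apply] <;>
    first
      | done
      | (field_simp; try ring_nf) ; (try simp [h2, hε]) ; (try linear_combination (exp := 1) 0)

theorem dg_conj (ε c : F) (hε : ε * ε = 1) (hc : c ≠ 0) (r : Fin 8) (t : F) :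
    ∃ s : F, dg ε 1 c * N5 r t = N5 r s * dg ε 1 c :=
  ⟨_, helper34_dg_conj_aux ε c hε hc r t⟩

end Cfsg.Agent.Lib.helper95.B2
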