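import Cfsg.Agent.Lib.helper95.D4Defs
import Cfsg.Agent.Lib.helper34.D4MV1

/-! S1082 pieces A6..A11: the adjoint relation `X8 r t * Lmap c = Lmap (chevD4.xMat F r t *ᵥ c) * X8 r t`
for the D4 root elements in `so₈` (helper34, generated from the Prelude tables). -/

set_option autoImplicit false

namespace Cfsg.Agent.Lib.helper34.D4

open Matrix Cfsg Cfsg.Lie Cfsg.Agent.Lib.helper95.D4 Cfsg.Agent.Lib.helper34.ChevD4MV

variable {F : Type*} [Field F]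

theorem a34_p6h0 (t : F) (c : chevD4.Idx → F) :
    (chevD4.xMat F (6 : Fin 24) t *ᵥ c) (hI 0) = c (hI 0) :=
  congrFun (helper34_d4mv6 t c) (Sum.inl (0 : Fin 4))

theorem a34_p6h1 (t : F) (c : chevD4.Idx → F) :
    (chevD4.xMat F (6 : Fin 24) t *ᵥ c) (hI 1) = c (hI 1) + -(t * c (eI 17)) :=
  congrFun (helper34_d4mv6 t c) (Sum.inl (1 : Fin 4))

theorem a34_p6h2 (t : F) (c : chevD4.Idx → F) :
    (chevD4.xMat F (6 : Fin 24) t *ᵥ c) (hI 2) = c (hI 2) + -(t * c (eI 17)) :=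
  congrFun (helper34_d4mv6 t c) (Sum.inl (2 : Fin 4))

theorem a34_p6h3 (t : F) (c : chevD4.Idx → F) :
    (chevD4.xMat F (6 : Fin 24) t *ᵥ c) (hI 3) = c (hI 3) + -(t * c (eI 17)) :=
  congrFun (helper34_d4mv6 t c) (Sum.inl (3 : Fin 4))

theorem a34_p6e0 (t : F) (c : chevD4.Idx → F) :
    (chevD4.xMat F (6 : Fin 24) t *ᵥ c) (eI 0) = c (eI 0) + -(t * c (eI 4)) :=
  congrFun (helper34_d4mv6 t c) (Sum.inr (0 : Fin 24))

theorem a34_p6e1 (t : F) (c : chevD4.Idx → F) :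
    (chevD4.xMat F (6 : Fin 24) t *ᵥ c) (eI 1) = c (eI 1) + -(t * c (eI 5)) :=
  congrFun (helper34_d4mv6 t c) (Sum.inr (1 : Fin 24))

theorem a34_p6e2 (t : F) (c : chevD4.Idx → F) :
    (chevD4.xMat F (6 : Fin 24) t *ᵥ c) (eI 2) = c (eI 2) :=
  congrFun (helper34_d4mv6 t c) (Sum.inr (2 : Fin 24))

theorem a34_p6e3 (t : F) (c : chevD4.Idx → F) :
    (chevD4.xMat F (6 : Fin 24) t *ᵥ c) (eI 3) = c (eI 3) :=
  congrFun (helper34_d4mv6 t c) (Sum.inr (3 : Fin 24))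

theorem a34_p6e4 (t : F) (c : chevD4.Idx → F) :
    (chevD4.xMat F (6 : Fin 24) t *ᵥ c) (eI 4) = c (eI 4) :=
  congrFun (helper34_d4mv6 t c) (Sum.inr (4 : Fin 24))

theorem a34_p6e5 (t : F) (c : chevD4.Idx → F) :
    (chevD4.xMat F (6 : Fin 24) t *ᵥ c) (eI 5) = c (eI 5) :=
  congrFun (helper34_d4mv6 t c) (Sum.inr (5 : Fin 24))

theorem a34_p6e6 (t : F) (c : chevD4.Idx → F) :
    (chevD4.xMat F (6 : Fin 24) t *ᵥ c) (eI 6) = -(t * c (hI 0)) + t * c (hI 2) + t * c (hI 3) + c (eI 6) + -(t ^ 2 * c (eI 17)) :=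
  congrFun (helper34_d4mv6 t c) (Sum.inr (6 : Fin 24))

theorem a34_p6e7 (t : F) (c : chevD4.Idx → F) :
    (chevD4.xMat F (6 : Fin 24) t *ᵥ c) (eI 7) = c (eI 7) + t * c (eI 12) :=
  congrFun (helper34_d4mv6 t c) (Sum.inr (7 : Fin 24))

theorem a34_p6e8 (t : F) (c : chevD4.Idx → F) :
    (chevD4.xMat F (6 : Fin 24) t *ᵥ c) (eI 8) = c (eI 8) + t * c (eI 13) :=
  congrFun (helper34_d4mv6 t c) (Sum.inr (8 : Fin 24))

theorem a34_p6e9 (t : F) (c : chevD4.Idx → F) :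
    (chevD4.xMat F (6 : Fin 24) t *ᵥ c) (eI 9) = c (eI 9) :=
  congrFun (helper34_d4mv6 t c) (Sum.inr (9 : Fin 24))

theorem a34_p6e10 (t : F) (c : chevD4.Idx → F) :
    (chevD4.xMat F (6 : Fin 24) t *ᵥ c) (eI 10) = c (eI 10) + -(t * c (eI 15)) :=
  congrFun (helper34_d4mv6 t c) (Sum.inr (10 : Fin 24))

theorem a34_p6e11 (t : F) (c : chevD4.Idx → F) :
    (chevD4.xMat F (6 : Fin 24) t *ᵥ c) (eI 11) = c (eI 11) + -(t * c (eI 16)) :=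
  congrFun (helper34_d4mv6 t c) (Sum.inr (11 : Fin 24))

theorem a34_p6e12 (t : F) (c : chevD4.Idx → F) :
    (chevD4.xMat F (6 : Fin 24) t *ᵥ c) (eI 12) = c (eI 12) :=
  congrFun (helper34_d4mv6 t c) (Sum.inr (12 : Fin 24))

theorem a34_p6e13 (t : F) (c : chevD4.Idx → F) :
    (chevD4.xMat F (6 : Fin 24) t *ᵥ c) (eI 13) = c (eI 13) :=
  congrFun (helper34_d4mv6 t c) (Sum.inr (13 : Fin 24))

theorem a34_p6e14 (t : F) (c : chevD4.Idx → F) :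
    (chevD4.xMat F (6 : Fin 24) t *ᵥ c) (eI 14) = c (eI 14) :=
  congrFun (helper34_d4mv6 t c) (Sum.inr (14 : Fin 24))

theorem a34_p6e15 (t : F) (c : chevD4.Idx → F) :
    (chevD4.xMat F (6 : Fin 24) t *ᵥ c) (eI 15) = c (eI 15) :=
  congrFun (helper34_d4mv6 t c) (Sum.inr (15 : Fin 24))

theorem a34_p6e16 (t : F) (c : chevD4.Idx → F) :
    (chevD4.xMat F (6 : Fin 24) t *ᵥ c) (eI 16) = c (eI 16) :=
  congrFun (helper34_d4mv6 t c) (Sum.inr (16 : Fin 24))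

theorem a34_p6e17 (t : F) (c : chevD4.Idx → F) :
    (chevD4.xMat F (6 : Fin 24) t *ᵥ c) (eI 17) = c (eI 17) :=
  congrFun (helper34_d4mv6 t c) (Sum.inr (17 : Fin 24))

theorem a34_p6e18 (t : F) (c : chevD4.Idx → F) :
    (chevD4.xMat F (6 : Fin 24) t *ᵥ c) (eI 18) = c (eI 18) + t * c (eI 22) :=
  congrFun (helper34_d4mv6 t c) (Sum.inr (18 : Fin 24))

theorem a34_p6e19 (t : F) (c : chevD4.Idx → F) :
    (chevD4.xMat F (6 : Fin 24) t *ᵥ c) (eI 19) = c (eI 19) + t * c (eI 23) :=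
  congrFun (helper34_d4mv6 t c) (Sum.inr (19 : Fin 24))

theorem a34_p6e20 (t : F) (c : chevD4.Idx → F) :
    (chevD4.xMat F (6 : Fin 24) t *ᵥ c) (eI 20) = c (eI 20) :=
  congrFun (helper34_d4mv6 t c) (Sum.inr (20 : Fin 24))

theorem a34_p6e21 (t : F) (c : chevD4.Idx → F) :
    (chevD4.xMat F (6 : Fin 24) t *ᵥ c) (eI 21) = c (eI 21) :=
  congrFun (helper34_d4mv6 t c) (Sum.inr (21 : Fin 24))

theorem a34_p6e22 (t : F) (c : chevD4.Idx → F) :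
    (chevD4.xMat F (6 : Fin 24) t *ᵥ c) (eI 22) = c (eI 22) :=
  congrFun (helper34_d4mv6 t c) (Sum.inr (22 : Fin 24))

theorem a34_p6e23 (t : F) (c : chevD4.Idx → F) :
    (chevD4.xMat F (6 : Fin 24) t *ᵥ c) (eI 23) = c (eI 23) :=
  congrFun (helper34_d4mv6 t c) (Sum.inr (23 : Fin 24))

set_option maxHeartbeats 40000000 in
theorem ad_rel_6 (t : F) (c : chevD4.Idx → F) :
    X8 6 t * Lmap c = Lmap (chevD4.xMat F (6 : Fin 24) t *ᵥ c) * X8 6 t := by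
  simp only [Lmap, a34_p6h0, a34_p6h1, a34_p6h2, a34_p6h3, a34_p6e0, a34_p6e1, a34_p6e2, a34_p6e3, a34_p6e4, a34_p6e5, a34_p6e6, a34_p6e7, a34_p6e8, a34_p6e9, a34_p6e10, a34_p6e11, a34_p6e12, a34_p6e13, a34_p6e14, a34_p6e15, a34_p6e16, a34_p6e17, a34_p6e18, a34_p6e19, a34_p6e20, a34_p6e21, a34_p6e22, a34_p6e23]
  ext i j
  fin_cases i <;> fin_cases j <;>
    simp [X8, Matrix.mul_apply, Fin.sum_univ_succ] <;> ring

theorem a34_p7h0 (t : F) (c : chevD4.Idx → F) :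
    (chevD4.xMat F (7 : Fin 24) t *ᵥ c) (hI 0) = c (hI 0) :=
  congrFun (helper34_d4mv7 t c) (Sum.inl (0 : Fin 4))

theorem a34_p7h1 (t : F) (c : chevD4.Idx → F) :
    (chevD4.xMat F (7 : Fin 24) t *ᵥ c) (hI 1) = c (hI 1) + -(t * c (eI 16)) :=
  congrFun (helper34_d4mv7 t c) (Sum.inl (1 : Fin 4))

theorem a34_p7h2 (t : F) (c : chevD4.Idx → F) :
    (chevD4.xMat F (7 : Fin 24) t *ᵥ c) (hI 2) = c (hI 2) + -(t * c (eI 16)) :=
  congrFun (helper34_d4mv7 t c) (Sum.inl (2 : Fin 4))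

theorem a34_p7h3 (t : F) (c : chevD4.Idx → F) :
    (chevD4.xMat F (7 : Fin 24) t *ᵥ c) (hI 3) = c (hI 3) :=
  congrFun (helper34_d4mv7 t c) (Sum.inl (3 : Fin 4))

theorem a34_p7e0 (t : F) (c : chevD4.Idx → F) :
    (chevD4.xMat F (7 : Fin 24) t *ᵥ c) (eI 0) = c (eI 0) + t * c (eI 3) :=
  congrFun (helper34_d4mv7 t c) (Sum.inr (0 : Fin 24))

theorem a34_p7e1 (t : F) (c : chevD4.Idx → F) :
    (chevD4.xMat F (7 : Fin 24) t *ᵥ c) (eI 1) = c (eI 1) :=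
  congrFun (helper34_d4mv7 t c) (Sum.inr (1 : Fin 24))

theorem a34_p7e2 (t : F) (c : chevD4.Idx → F) :
    (chevD4.xMat F (7 : Fin 24) t *ᵥ c) (eI 2) = c (eI 2) + -(t * c (eI 5)) :=
  congrFun (helper34_d4mv7 t c) (Sum.inr (2 : Fin 24))

theorem a34_p7e3 (t : F) (c : chevD4.Idx → F) :
    (chevD4.xMat F (7 : Fin 24) t *ᵥ c) (eI 3) = c (eI 3) :=
  congrFun (helper34_d4mv7 t c) (Sum.inr (3 : Fin 24))

theorem a34_p7e4 (t : F) (c : chevD4.Idx → F) :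
    (chevD4.xMat F (7 : Fin 24) t *ᵥ c) (eI 4) = c (eI 4) :=
  congrFun (helper34_d4mv7 t c) (Sum.inr (4 : Fin 24))

theorem a34_p7e5 (t : F) (c : chevD4.Idx → F) :
    (chevD4.xMat F (7 : Fin 24) t *ᵥ c) (eI 5) = c (eI 5) :=
  congrFun (helper34_d4mv7 t c) (Sum.inr (5 : Fin 24))

theorem a34_p7e6 (t : F) (c : chevD4.Idx → F) :
    (chevD4.xMat F (7 : Fin 24) t *ᵥ c) (eI 6) = c (eI 6) + t * c (eI 11) :=
  congrFun (helper34_d4mv7 t c) (Sum.inr (6 : Fin 24))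

theorem a34_p7e7 (t : F) (c : chevD4.Idx → F) :
    (chevD4.xMat F (7 : Fin 24) t *ᵥ c) (eI 7) = -(t * c (hI 0)) + t * c (hI 1) + t * c (hI 2) + -(t * c (hI 3)) + c (eI 7) + -(t ^ 2 * c (eI 16)) :=
  congrFun (helper34_d4mv7 t c) (Sum.inr (7 : Fin 24))

theorem a34_p7e8 (t : F) (c : chevD4.Idx → F) :
    (chevD4.xMat F (7 : Fin 24) t *ᵥ c) (eI 8) = c (eI 8) :=
  congrFun (helper34_d4mv7 t c) (Sum.inr (8 : Fin 24))

theorem a34_p7e9 (t : F) (c : chevD4.Idx → F) :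
    (chevD4.xMat F (7 : Fin 24) t *ᵥ c) (eI 9) = c (eI 9) + t * c (eI 13) :=
  congrFun (helper34_d4mv7 t c) (Sum.inr (9 : Fin 24))

theorem a34_p7e10 (t : F) (c : chevD4.Idx → F) :
    (chevD4.xMat F (7 : Fin 24) t *ᵥ c) (eI 10) = c (eI 10) + -(t * c (eI 14)) :=
  congrFun (helper34_d4mv7 t c) (Sum.inr (10 : Fin 24))

theorem a34_p7e11 (t : F) (c : chevD4.Idx → F) :
    (chevD4.xMat F (7 : Fin 24) t *ᵥ c) (eI 11) = c (eI 11) :=
  congrFun (helper34_d4mv7 t c) (Sum.inr (11 : Fin 24))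

theorem a34_p7e12 (t : F) (c : chevD4.Idx → F) :
    (chevD4.xMat F (7 : Fin 24) t *ᵥ c) (eI 12) = c (eI 12) + -(t * c (eI 17)) :=
  congrFun (helper34_d4mv7 t c) (Sum.inr (12 : Fin 24))

theorem a34_p7e13 (t : F) (c : chevD4.Idx → F) :
    (chevD4.xMat F (7 : Fin 24) t *ᵥ c) (eI 13) = c (eI 13) :=
  congrFun (helper34_d4mv7 t c) (Sum.inr (13 : Fin 24))

theorem a34_p7e14 (t : F) (c : chevD4.Idx → F) :
    (chevD4.xMat F (7 : Fin 24) t *ᵥ c) (eI 14) = c (eI 14) :=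
  congrFun (helper34_d4mv7 t c) (Sum.inr (14 : Fin 24))

theorem a34_p7e15 (t : F) (c : chevD4.Idx → F) :
    (chevD4.xMat F (7 : Fin 24) t *ᵥ c) (eI 15) = c (eI 15) :=
  congrFun (helper34_d4mv7 t c) (Sum.inr (15 : Fin 24))

theorem a34_p7e16 (t : F) (c : chevD4.Idx → F) :
    (chevD4.xMat F (7 : Fin 24) t *ᵥ c) (eI 16) = c (eI 16) :=
  congrFun (helper34_d4mv7 t c) (Sum.inr (16 : Fin 24))

theorem a34_p7e17 (t : F) (c : chevD4.Idx → F) :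
    (chevD4.xMat F (7 : Fin 24) t *ᵥ c) (eI 17) = c (eI 17) :=
  congrFun (helper34_d4mv7 t c) (Sum.inr (17 : Fin 24))

theorem a34_p7e18 (t : F) (c : chevD4.Idx → F) :
    (chevD4.xMat F (7 : Fin 24) t *ᵥ c) (eI 18) = c (eI 18) + t * c (eI 21) :=
  congrFun (helper34_d4mv7 t c) (Sum.inr (18 : Fin 24))

theorem a34_p7e19 (t : F) (c : chevD4.Idx → F) :
    (chevD4.xMat F (7 : Fin 24) t *ᵥ c) (eI 19) = c (eI 19) :=
  congrFun (helper34_d4mv7 t c) (Sum.inr (19 : Fin 24))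

theorem a34_p7e20 (t : F) (c : chevD4.Idx → F) :
    (chevD4.xMat F (7 : Fin 24) t *ᵥ c) (eI 20) = c (eI 20) + -(t * c (eI 23)) :=
  congrFun (helper34_d4mv7 t c) (Sum.inr (20 : Fin 24))

theorem a34_p7e21 (t : F) (c : chevD4.Idx → F) :
    (chevD4.xMat F (7 : Fin 24) t *ᵥ c) (eI 21) = c (eI 21) :=
  congrFun (helper34_d4mv7 t c) (Sum.inr (21 : Fin 24))

theorem a34_p7e22 (t : F) (c : chevD4.Idx → F) :
    (chevD4.xMat F (7 : Fin 24) t *ᵥ c) (eI 22) = c (eI 22) :=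
  congrFun (helper34_d4mv7 t c) (Sum.inr (22 : Fin 24))

theorem a34_p7e23 (t : F) (c : chevD4.Idx → F) :
    (chevD4.xMat F (7 : Fin 24) t *ᵥ c) (eI 23) = c (eI 23) :=
  congrFun (helper34_d4mv7 t c) (Sum.inr (23 : Fin 24))

set_option maxHeartbeats 40000000 in
theorem ad_rel_7 (t : F) (c : chevD4.Idx → F) :
    X8 7 t * Lmap c = Lmap (chevD4.xMat F (7 : Fin 24) t *ᵥ c) * X8 7 t := by
  simp only [Lmap, a34_p7h0, a34_p7h1, a34_p7h2, a34_p7h3, a34_p7e0, a34_p7e1, a34_p7e2, a34_p7e3, a34_p7e4, a34_p7e5, a34_p7e6, a34_p7e7, a34_p7e8, a34_p7e9, a34_p7e10, a34_p7e11, a34_p7e12, a34_p7e13, a34_p7e14, a34_p7e15, a34_p7e16, a34_p7e17, a34_p7e18, a34_p7e19, a34_p7e20, a34_p7e21, a34_p7e22, a34_p7e23]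
  ext i j
  fin_cases i <;> fin_cases j <;>
    simp [X8, Matrix.mul_apply, Fin.sum_univ_succ] <;> ring

theorem a34_p8h0 (t : F) (c : chevD4.Idx → F) :
    (chevD4.xMat F (8 : Fin 24) t *ᵥ c) (hI 0) = c (hI 0) :=
  congrFun (helper34_d4mv8 t c) (Sum.inl (0 : Fin 4))

theorem a34_p8h1 (t : F) (c : chevD4.Idx → F) :
    (chevD4.xMat F (8 : Fin 24) t *ᵥ c) (hI 1) = c (hI 1) + -(t * c (eI 15)) :=
  congrFun (helper34_d4mv8 t c) (Sum.inl (1 : Fin 4))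

theorem a34_p8h2 (t : F) (c : chevD4.Idx → F) :
    (chevD4.xMat F (8 : Fin 24) t *ᵥ c) (hI 2) = c (hI 2) :=
  congrFun (helper34_d4mv8 t c) (Sum.inl (2 : Fin 4))

theorem a34_p8h3 (t : F) (c : chevD4.Idx → F) :
    (chevD4.xMat F (8 : Fin 24) t *ᵥ c) (hI 3) = c (hI 3) + -(t * c (eI 15)) :=
  congrFun (helper34_d4mv8 t c) (Sum.inl (3 : Fin 4))

theorem a34_p8e0 (t : F) (c : chevD4.Idx → F) :
    (chevD4.xMat F (8 : Fin 24) t *ᵥ c) (eI 0) = c (eI 0) + t * c (eI 2) :=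
  congrFun (helper34_d4mv8 t c) (Sum.inr (0 : Fin 24))

theorem a34_p8e1 (t : F) (c : chevD4.Idx → F) :
    (chevD4.xMat F (8 : Fin 24) t *ᵥ c) (eI 1) = c (eI 1) :=
  congrFun (helper34_d4mv8 t c) (Sum.inr (1 : Fin 24))

theorem a34_p8e2 (t : F) (c : chevD4.Idx → F) :
    (chevD4.xMat F (8 : Fin 24) t *ᵥ c) (eI 2) = c (eI 2) :=
  congrFun (helper34_d4mv8 t c) (Sum.inr (2 : Fin 24))

theorem a34_p8e3 (t : F) (c : chevD4.Idx → F) :
    (chevD4.xMat F (8 : Fin 24) t *ᵥ c) (eI 3) = c (eI 3) + -(t * c (eI 5)) :=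
  congrFun (helper34_d4mv8 t c) (Sum.inr (3 : Fin 24))

theorem a34_p8e4 (t : F) (c : chevD4.Idx → F) :
    (chevD4.xMat F (8 : Fin 24) t *ᵥ c) (eI 4) = c (eI 4) :=
  congrFun (helper34_d4mv8 t c) (Sum.inr (4 : Fin 24))

theorem a34_p8e5 (t : F) (c : chevD4.Idx → F) :
    (chevD4.xMat F (8 : Fin 24) t *ᵥ c) (eI 5) = c (eI 5) :=
  congrFun (helper34_d4mv8 t c) (Sum.inr (5 : Fin 24))

theorem a34_p8e6 (t : F) (c : chevD4.Idx → F) :
    (chevD4.xMat F (8 : Fin 24) t *ᵥ c) (eI 6) = c (eI 6) + t * c (eI 10) :=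
  congrFun (helper34_d4mv8 t c) (Sum.inr (6 : Fin 24))

theorem a34_p8e7 (t : F) (c : chevD4.Idx → F) :
    (chevD4.xMat F (8 : Fin 24) t *ᵥ c) (eI 7) = c (eI 7) :=
  congrFun (helper34_d4mv8 t c) (Sum.inr (7 : Fin 24))

theorem a34_p8e8 (t : F) (c : chevD4.Idx → F) :
    (chevD4.xMat F (8 : Fin 24) t *ᵥ c) (eI 8) = -(t * c (hI 0)) + t * c (hI 1) + -(t * c (hI 2)) + t * c (hI 3) + c (eI 8) + -(t ^ 2 * c (eI 15)) :=
  congrFun (helper34_d4mv8 t c) (Sum.inr (8 : Fin 24))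

theorem a34_p8e9 (t : F) (c : chevD4.Idx → F) :
    (chevD4.xMat F (8 : Fin 24) t *ᵥ c) (eI 9) = c (eI 9) + t * c (eI 12) :=
  congrFun (helper34_d4mv8 t c) (Sum.inr (9 : Fin 24))

theorem a34_p8e10 (t : F) (c : chevD4.Idx → F) :
    (chevD4.xMat F (8 : Fin 24) t *ᵥ c) (eI 10) = c (eI 10) :=
  congrFun (helper34_d4mv8 t c) (Sum.inr (10 : Fin 24))

theorem a34_p8e11 (t : F) (c : chevD4.Idx → F) :
    (chevD4.xMat F (8 : Fin 24) t *ᵥ c) (eI 11) = c (eI 11) + -(t * c (eI 14)) :=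
  congrFun (helper34_d4mv8 t c) (Sum.inr (11 : Fin 24))

theorem a34_p8e12 (t : F) (c : chevD4.Idx → F) :
    (chevD4.xMat F (8 : Fin 24) t *ᵥ c) (eI 12) = c (eI 12) :=
  congrFun (helper34_d4mv8 t c) (Sum.inr (12 : Fin 24))

theorem a34_p8e13 (t : F) (c : chevD4.Idx → F) :
    (chevD4.xMat F (8 : Fin 24) t *ᵥ c) (eI 13) = c (eI 13) + -(t * c (eI 17)) :=
  congrFun (helper34_d4mv8 t c) (Sum.inr (13 : Fin 24))

theorem a34_p8e14 (t : F) (c : chevD4.Idx → F) :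
    (chevD4.xMat F (8 : Fin 24) t *ᵥ c) (eI 14) = c (eI 14) :=
  congrFun (helper34_d4mv8 t c) (Sum.inr (14 : Fin 24))

theorem a34_p8e15 (t : F) (c : chevD4.Idx → F) :
    (chevD4.xMat F (8 : Fin 24) t *ᵥ c) (eI 15) = c (eI 15) :=
  congrFun (helper34_d4mv8 t c) (Sum.inr (15 : Fin 24))

theorem a34_p8e16 (t : F) (c : chevD4.Idx → F) :
    (chevD4.xMat F (8 : Fin 24) t *ᵥ c) (eI 16) = c (eI 16) :=
  congrFun (helper34_d4mv8 t c) (Sum.inr (16 : Fin 24))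

theorem a34_p8e17 (t : F) (c : chevD4.Idx → F) :
    (chevD4.xMat F (8 : Fin 24) t *ᵥ c) (eI 17) = c (eI 17) :=
  congrFun (helper34_d4mv8 t c) (Sum.inr (17 : Fin 24))

theorem a34_p8e18 (t : F) (c : chevD4.Idx → F) :
    (chevD4.xMat F (8 : Fin 24) t *ᵥ c) (eI 18) = c (eI 18) + t * c (eI 20) :=
  congrFun (helper34_d4mv8 t c) (Sum.inr (18 : Fin 24))

theorem a34_p8e19 (t : F) (c : chevD4.Idx → F) :
    (chevD4.xMat F (8 : Fin 24) t *ᵥ c) (eI 19) = c (eI 19) :=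
  congrFun (helper34_d4mv8 t c) (Sum.inr (19 : Fin 24))

theorem a34_p8e20 (t : F) (c : chevD4.Idx → F) :
    (chevD4.xMat F (8 : Fin 24) t *ᵥ c) (eI 20) = c (eI 20) :=
  congrFun (helper34_d4mv8 t c) (Sum.inr (20 : Fin 24))

theorem a34_p8e21 (t : F) (c : chevD4.Idx → F) :
    (chevD4.xMat F (8 : Fin 24) t *ᵥ c) (eI 21) = c (eI 21) + -(t * c (eI 23)) :=
  congrFun (helper34_d4mv8 t c) (Sum.inr (21 : Fin 24))

theorem a34_p8e22 (t : F) (c : chevD4.Idx → F) :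
    (chevD4.xMat F (8 : Fin 24) t *ᵥ c) (eI 22) = c (eI 22) :=
  congrFun (helper34_d4mv8 t c) (Sum.inr (22 : Fin 24))

theorem a34_p8e23 (t : F) (c : chevD4.Idx → F) :
    (chevD4.xMat F (8 : Fin 24) t *ᵥ c) (eI 23) = c (eI 23) :=
  congrFun (helper34_d4mv8 t c) (Sum.inr (23 : Fin 24))

set_option maxHeartbeats 40000000 in
theorem ad_rel_8 (t : F) (c : chevD4.Idx → F) :
    X8 8 t * Lmap c = Lmap (chevD4.xMat F (8 : Fin 24) t *ᵥ c) * X8 8 t := by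
  simp only [Lmap, a34_p8h0, a34_p8h1, a34_p8h2, a34_p8h3, a34_p8e0, a34_p8e1, a34_p8e2, a34_p8e3, a34_p8e4, a34_p8e5, a34_p8e6, a34_p8e7, a34_p8e8, a34_p8e9, a34_p8e10, a34_p8e11, a34_p8e12, a34_p8e13, a34_p8e14, a34_p8e15, a34_p8e16, a34_p8e17, a34_p8e18, a34_p8e19, a34_p8e20, a34_p8e21, a34_p8e22, a34_p8e23]
  ext i j
  fin_cases i <;> fin_cases j <;>
    simp [X8, Matrix.mul_apply, Fin.sum_univ_succ] <;> ring

theorem a34_p9h0 (t : F) (c : chevD4.Idx → F) :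
    (chevD4.xMat F (9 : Fin 24) t *ᵥ c) (hI 0) = c (hI 0) :=
  congrFun (helper34_d4mv9 t c) (Sum.inl (0 : Fin 4))

theorem a34_p9h1 (t : F) (c : chevD4.Idx → F) :
    (chevD4.xMat F (9 : Fin 24) t *ᵥ c) (hI 1) = c (hI 1) + -(t * c (eI 14)) :=
  congrFun (helper34_d4mv9 t c) (Sum.inl (1 : Fin 4))

theorem a34_p9h2 (t : F) (c : chevD4.Idx → F) :
    (chevD4.xMat F (9 : Fin 24) t *ᵥ c) (hI 2) = c (hI 2) :=
  congrFun (helper34_d4mv9 t c) (Sum.inl (2 : Fin 4))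

theorem a34_p9h3 (t : F) (c : chevD4.Idx → F) :
    (chevD4.xMat F (9 : Fin 24) t *ᵥ c) (hI 3) = c (hI 3) :=
  congrFun (helper34_d4mv9 t c) (Sum.inl (3 : Fin 4))

theorem a34_p9e0 (t : F) (c : chevD4.Idx → F) :
    (chevD4.xMat F (9 : Fin 24) t *ᵥ c) (eI 0) = c (eI 0) + -(t * c (eI 1)) :=
  congrFun (helper34_d4mv9 t c) (Sum.inr (0 : Fin 24))

theorem a34_p9e1 (t : F) (c : chevD4.Idx → F) :
    (chevD4.xMat F (9 : Fin 24) t *ᵥ c) (eI 1) = c (eI 1) :=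
  congrFun (helper34_d4mv9 t c) (Sum.inr (1 : Fin 24))

theorem a34_p9e2 (t : F) (c : chevD4.Idx → F) :
    (chevD4.xMat F (9 : Fin 24) t *ᵥ c) (eI 2) = c (eI 2) :=
  congrFun (helper34_d4mv9 t c) (Sum.inr (2 : Fin 24))

theorem a34_p9e3 (t : F) (c : chevD4.Idx → F) :
    (chevD4.xMat F (9 : Fin 24) t *ᵥ c) (eI 3) = c (eI 3) :=
  congrFun (helper34_d4mv9 t c) (Sum.inr (3 : Fin 24))

theorem a34_p9e4 (t : F) (c : chevD4.Idx → F) :
    (chevD4.xMat F (9 : Fin 24) t *ᵥ c) (eI 4) = c (eI 4) + -(t * c (eI 5)) :=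
  congrFun (helper34_d4mv9 t c) (Sum.inr (4 : Fin 24))

theorem a34_p9e5 (t : F) (c : chevD4.Idx → F) :
    (chevD4.xMat F (9 : Fin 24) t *ᵥ c) (eI 5) = c (eI 5) :=
  congrFun (helper34_d4mv9 t c) (Sum.inr (5 : Fin 24))

theorem a34_p9e6 (t : F) (c : chevD4.Idx → F) :
    (chevD4.xMat F (9 : Fin 24) t *ᵥ c) (eI 6) = c (eI 6) :=
  congrFun (helper34_d4mv9 t c) (Sum.inr (6 : Fin 24))

theorem a34_p9e7 (t : F) (c : chevD4.Idx → F) :
    (chevD4.xMat F (9 : Fin 24) t *ᵥ c) (eI 7) = c (eI 7) + t * c (eI 10) :=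
  congrFun (helper34_d4mv9 t c) (Sum.inr (7 : Fin 24))

theorem a34_p9e8 (t : F) (c : chevD4.Idx → F) :
    (chevD4.xMat F (9 : Fin 24) t *ᵥ c) (eI 8) = c (eI 8) + t * c (eI 11) :=
  congrFun (helper34_d4mv9 t c) (Sum.inr (8 : Fin 24))

theorem a34_p9e9 (t : F) (c : chevD4.Idx → F) :
    (chevD4.xMat F (9 : Fin 24) t *ᵥ c) (eI 9) = -(t * c (hI 0)) + (2) * t * c (hI 1) + -(t * c (hI 2)) + -(t * c (hI 3)) + c (eI 9) + -(t ^ 2 * c (eI 14)) :=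
  congrFun (helper34_d4mv9 t c) (Sum.inr (9 : Fin 24))

theorem a34_p9e10 (t : F) (c : chevD4.Idx → F) :
    (chevD4.xMat F (9 : Fin 24) t *ᵥ c) (eI 10) = c (eI 10) :=
  congrFun (helper34_d4mv9 t c) (Sum.inr (10 : Fin 24))

theorem a34_p9e11 (t : F) (c : chevD4.Idx → F) :
    (chevD4.xMat F (9 : Fin 24) t *ᵥ c) (eI 11) = c (eI 11) :=
  congrFun (helper34_d4mv9 t c) (Sum.inr (11 : Fin 24))

theorem a34_p9e12 (t : F) (c : chevD4.Idx → F) :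
    (chevD4.xMat F (9 : Fin 24) t *ᵥ c) (eI 12) = c (eI 12) + -(t * c (eI 15)) :=
  congrFun (helper34_d4mv9 t c) (Sum.inr (12 : Fin 24))

theorem a34_p9e13 (t : F) (c : chevD4.Idx → F) :
    (chevD4.xMat F (9 : Fin 24) t *ᵥ c) (eI 13) = c (eI 13) + -(t * c (eI 16)) :=
  congrFun (helper34_d4mv9 t c) (Sum.inr (13 : Fin 24))

theorem a34_p9e14 (t : F) (c : chevD4.Idx → F) :
    (chevD4.xMat F (9 : Fin 24) t *ᵥ c) (eI 14) = c (eI 14) :=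
  congrFun (helper34_d4mv9 t c) (Sum.inr (14 : Fin 24))

theorem a34_p9e15 (t : F) (c : chevD4.Idx → F) :
    (chevD4.xMat F (9 : Fin 24) t *ᵥ c) (eI 15) = c (eI 15) :=
  congrFun (helper34_d4mv9 t c) (Sum.inr (15 : Fin 24))

theorem a34_p9e16 (t : F) (c : chevD4.Idx → F) :
    (chevD4.xMat F (9 : Fin 24) t *ᵥ c) (eI 16) = c (eI 16) :=
  congrFun (helper34_d4mv9 t c) (Sum.inr (16 : Fin 24))

theorem a34_p9e17 (t : F) (c : chevD4.Idx → F) :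
    (chevD4.xMat F (9 : Fin 24) t *ᵥ c) (eI 17) = c (eI 17) :=
  congrFun (helper34_d4mv9 t c) (Sum.inr (17 : Fin 24))

theorem a34_p9e18 (t : F) (c : chevD4.Idx → F) :
    (chevD4.xMat F (9 : Fin 24) t *ᵥ c) (eI 18) = c (eI 18) + t * c (eI 19) :=
  congrFun (helper34_d4mv9 t c) (Sum.inr (18 : Fin 24))

theorem a34_p9e19 (t : F) (c : chevD4.Idx → F) :
    (chevD4.xMat F (9 : Fin 24) t *ᵥ c) (eI 19) = c (eI 19) :=
  congrFun (helper34_d4mv9 t c) (Sum.inr (19 : Fin 24))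

theorem a34_p9e20 (t : F) (c : chevD4.Idx → F) :
    (chevD4.xMat F (9 : Fin 24) t *ᵥ c) (eI 20) = c (eI 20) :=
  congrFun (helper34_d4mv9 t c) (Sum.inr (20 : Fin 24))

theorem a34_p9e21 (t : F) (c : chevD4.Idx → F) :
    (chevD4.xMat F (9 : Fin 24) t *ᵥ c) (eI 21) = c (eI 21) :=
  congrFun (helper34_d4mv9 t c) (Sum.inr (21 : Fin 24))

theorem a34_p9e22 (t : F) (c : chevD4.Idx → F) :
    (chevD4.xMat F (9 : Fin 24) t *ᵥ c) (eI 22) = c (eI 22) + t * c (eI 23) :=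
  congrFun (helper34_d4mv9 t c) (Sum.inr (22 : Fin 24))

theorem a34_p9e23 (t : F) (c : chevD4.Idx → F) :
    (chevD4.xMat F (9 : Fin 24) t *ᵥ c) (eI 23) = c (eI 23) :=
  congrFun (helper34_d4mv9 t c) (Sum.inr (23 : Fin 24))

set_option maxHeartbeats 40000000 in
theorem ad_rel_9 (t : F) (c : chevD4.Idx → F) :
    X8 9 t * Lmap c = Lmap (chevD4.xMat F (9 : Fin 24) t *ᵥ c) * X8 9 t := by
  simp only [Lmap, a34_p9h0, a34_p9h1, a34_p9h2, a34_p9h3, a34_p9e0, a34_p9e1, a34_p9e2, a34_p9e3, a34_p9e4, a34_p9e5, a34_p9e6, a34_p9e7, a34_p9e8, a34_p9e9, a34_p9e10, a34_p9e11, a34_p9e12, a34_p9e13, a34_p9e14, a34_p9e15, a34_p9e16, a34_p9e17, a34_p9e18, a34_p9e19, a34_p9e20, a34_p9e21, a34_p9e22, a34_p9e23]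
  ext i j
  fin_cases i <;> fin_cases j <;>
    simp [X8, Matrix.mul_apply, Fin.sum_univ_succ] <;> ring

theorem a34_p10h0 (t : F) (c : chevD4.Idx → F) :
    (chevD4.xMat F (10 : Fin 24) t *ᵥ c) (hI 0) = c (hI 0) :=
  congrFun (helper34_d4mv10 t c) (Sum.inl (0 : Fin 4))

theorem a34_p10h1 (t : F) (c : chevD4.Idx → F) :
    (chevD4.xMat F (10 : Fin 24) t *ᵥ c) (hI 1) = c (hI 1) :=
  congrFun (helper34_d4mv10 t c) (Sum.inl (1 : Fin 4))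

theorem a34_p10h2 (t : F) (c : chevD4.Idx → F) :
    (chevD4.xMat F (10 : Fin 24) t *ᵥ c) (hI 2) = c (hI 2) + -(t * c (eI 13)) :=
  congrFun (helper34_d4mv10 t c) (Sum.inl (2 : Fin 4))

theorem a34_p10h3 (t : F) (c : chevD4.Idx → F) :
    (chevD4.xMat F (10 : Fin 24) t *ᵥ c) (hI 3) = c (hI 3) :=
  congrFun (helper34_d4mv10 t c) (Sum.inl (3 : Fin 4))

theorem a34_p10e0 (t : F) (c : chevD4.Idx → F) :
    (chevD4.xMat F (10 : Fin 24) t *ᵥ c) (eI 0) = c (eI 0) :=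
  congrFun (helper34_d4mv10 t c) (Sum.inr (0 : Fin 24))

theorem a34_p10e1 (t : F) (c : chevD4.Idx → F) :
    (chevD4.xMat F (10 : Fin 24) t *ᵥ c) (eI 1) = c (eI 1) + -(t * c (eI 3)) :=
  congrFun (helper34_d4mv10 t c) (Sum.inr (1 : Fin 24))

theorem a34_p10e2 (t : F) (c : chevD4.Idx → F) :
    (chevD4.xMat F (10 : Fin 24) t *ᵥ c) (eI 2) = c (eI 2) + -(t * c (eI 4)) :=
  congrFun (helper34_d4mv10 t c) (Sum.inr (2 : Fin 24))

theorem a34_p10e3 (t : F) (c : chevD4.Idx → F) :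
    (chevD4.xMat F (10 : Fin 24) t *ᵥ c) (eI 3) = c (eI 3) :=
  congrFun (helper34_d4mv10 t c) (Sum.inr (3 : Fin 24))

theorem a34_p10e4 (t : F) (c : chevD4.Idx → F) :
    (chevD4.xMat F (10 : Fin 24) t *ᵥ c) (eI 4) = c (eI 4) :=
  congrFun (helper34_d4mv10 t c) (Sum.inr (4 : Fin 24))

theorem a34_p10e5 (t : F) (c : chevD4.Idx → F) :
    (chevD4.xMat F (10 : Fin 24) t *ᵥ c) (eI 5) = c (eI 5) :=
  congrFun (helper34_d4mv10 t c) (Sum.inr (5 : Fin 24))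

theorem a34_p10e6 (t : F) (c : chevD4.Idx → F) :
    (chevD4.xMat F (10 : Fin 24) t *ᵥ c) (eI 6) = c (eI 6) + -(t * c (eI 8)) :=
  congrFun (helper34_d4mv10 t c) (Sum.inr (6 : Fin 24))

theorem a34_p10e7 (t : F) (c : chevD4.Idx → F) :
    (chevD4.xMat F (10 : Fin 24) t *ᵥ c) (eI 7) = c (eI 7) + -(t * c (eI 9)) :=
  congrFun (helper34_d4mv10 t c) (Sum.inr (7 : Fin 24))

theorem a34_p10e8 (t : F) (c : chevD4.Idx → F) :
    (chevD4.xMat F (10 : Fin 24) t *ᵥ c) (eI 8) = c (eI 8) :=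
  congrFun (helper34_d4mv10 t c) (Sum.inr (8 : Fin 24))

theorem a34_p10e9 (t : F) (c : chevD4.Idx → F) :
    (chevD4.xMat F (10 : Fin 24) t *ᵥ c) (eI 9) = c (eI 9) :=
  congrFun (helper34_d4mv10 t c) (Sum.inr (9 : Fin 24))

theorem a34_p10e10 (t : F) (c : chevD4.Idx → F) :
    (chevD4.xMat F (10 : Fin 24) t *ᵥ c) (eI 10) = -(t * c (hI 1)) + (2) * t * c (hI 2) + c (eI 10) + -(t ^ 2 * c (eI 13)) :=
  congrFun (helper34_d4mv10 t c) (Sum.inr (10 : Fin 24))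

theorem a34_p10e11 (t : F) (c : chevD4.Idx → F) :
    (chevD4.xMat F (10 : Fin 24) t *ᵥ c) (eI 11) = c (eI 11) :=
  congrFun (helper34_d4mv10 t c) (Sum.inr (11 : Fin 24))

theorem a34_p10e12 (t : F) (c : chevD4.Idx → F) :
    (chevD4.xMat F (10 : Fin 24) t *ᵥ c) (eI 12) = c (eI 12) :=
  congrFun (helper34_d4mv10 t c) (Sum.inr (12 : Fin 24))

theorem a34_p10e13 (t : F) (c : chevD4.Idx → F) :
    (chevD4.xMat F (10 : Fin 24) t *ᵥ c) (eI 13) = c (eI 13) :=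
  congrFun (helper34_d4mv10 t c) (Sum.inr (13 : Fin 24))

theorem a34_p10e14 (t : F) (c : chevD4.Idx → F) :
    (chevD4.xMat F (10 : Fin 24) t *ᵥ c) (eI 14) = c (eI 14) + t * c (eI 16) :=
  congrFun (helper34_d4mv10 t c) (Sum.inr (14 : Fin 24))

theorem a34_p10e15 (t : F) (c : chevD4.Idx → F) :
    (chevD4.xMat F (10 : Fin 24) t *ᵥ c) (eI 15) = c (eI 15) + t * c (eI 17) :=
  congrFun (helper34_d4mv10 t c) (Sum.inr (15 : Fin 24))

theorem a34_p10e16 (t : F) (c : chevD4.Idx → F) :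
    (chevD4.xMat F (10 : Fin 24) t *ᵥ c) (eI 16) = c (eI 16) :=
  congrFun (helper34_d4mv10 t c) (Sum.inr (16 : Fin 24))

theorem a34_p10e17 (t : F) (c : chevD4.Idx → F) :
    (chevD4.xMat F (10 : Fin 24) t *ᵥ c) (eI 17) = c (eI 17) :=
  congrFun (helper34_d4mv10 t c) (Sum.inr (17 : Fin 24))

theorem a34_p10e18 (t : F) (c : chevD4.Idx → F) :
    (chevD4.xMat F (10 : Fin 24) t *ᵥ c) (eI 18) = c (eI 18) :=
  congrFun (helper34_d4mv10 t c) (Sum.inr (18 : Fin 24))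

theorem a34_p10e19 (t : F) (c : chevD4.Idx → F) :
    (chevD4.xMat F (10 : Fin 24) t *ᵥ c) (eI 19) = c (eI 19) + t * c (eI 21) :=
  congrFun (helper34_d4mv10 t c) (Sum.inr (19 : Fin 24))

theorem a34_p10e20 (t : F) (c : chevD4.Idx → F) :
    (chevD4.xMat F (10 : Fin 24) t *ᵥ c) (eI 20) = c (eI 20) + t * c (eI 22) :=
  congrFun (helper34_d4mv10 t c) (Sum.inr (20 : Fin 24))

theorem a34_p10e21 (t : F) (c : chevD4.Idx → F) :
    (chevD4.xMat F (10 : Fin 24) t *ᵥ c) (eI 21) = c (eI 21) :=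
  congrFun (helper34_d4mv10 t c) (Sum.inr (21 : Fin 24))

theorem a34_p10e22 (t : F) (c : chevD4.Idx → F) :
    (chevD4.xMat F (10 : Fin 24) t *ᵥ c) (eI 22) = c (eI 22) :=
  congrFun (helper34_d4mv10 t c) (Sum.inr (22 : Fin 24))

theorem a34_p10e23 (t : F) (c : chevD4.Idx → F) :
    (chevD4.xMat F (10 : Fin 24) t *ᵥ c) (eI 23) = c (eI 23) :=
  congrFun (helper34_d4mv10 t c) (Sum.inr (23 : Fin 24))

set_option maxHeartbeats 40000000 in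
theorem ad_rel_10 (t : F) (c : chevD4.Idx → F) :
    X8 10 t * Lmap c = Lmap (chevD4.xMat F (10 : Fin 24) t *ᵥ c) * X8 10 t := by
  simp only [Lmap, a34_p10h0, a34_p10h1, a34_p10h2, a34_p10h3, a34_p10e0, a34_p10e1, a34_p10e2, a34_p10e3, a34_p10e4, a34_p10e5, a34_p10e6, a34_p10e7, a34_p10e8, a34_p10e9, a34_p10e10, a34_p10e11, a34_p10e12, a34_p10e13, a34_p10e14, a34_p10e15, a34_p10e16, a34_p10e17, a34_p10e18, a34_p10e19, a34_p10e20, a34_p10e21, a34_p10e22, a34_p10e23]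
  ext i j
  fin_cases i <;> fin_cases j <;>
    simp [X8, Matrix.mul_apply, Fin.sum_univ_succ] <;> ring

theorem a34_p11h0 (t : F) (c : chevD4.Idx → F) :
    (chevD4.xMat F (11 : Fin 24) t *ᵥ c) (hI 0) = c (hI 0) :=
  congrFun (helper34_d4mv11 t c) (Sum.inl (0 : Fin 4))

theorem a34_p11h1 (t : F) (c : chevD4.Idx → F) :
    (chevD4.xMat F (11 : Fin 24) t *ᵥ c) (hI 1) = c (hI 1) :=
  congrFun (helper34_d4mv11 t c) (Sum.inl (1 : Fin 4))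

theorem a34_p11h2 (t : F) (c : chevD4.Idx → F) :
    (chevD4.xMat F (11 : Fin 24) t *ᵥ c) (hI 2) = c (hI 2) :=
  congrFun (helper34_d4mv11 t c) (Sum.inl (2 : Fin 4))

theorem a34_p11h3 (t : F) (c : chevD4.Idx → F) :
    (chevD4.xMat F (11 : Fin 24) t *ᵥ c) (hI 3) = c (hI 3) + -(t * c (eI 12)) :=
  congrFun (helper34_d4mv11 t c) (Sum.inl (3 : Fin 4))

theorem a34_p11e0 (t : F) (c : chevD4.Idx → F) :
    (chevD4.xMat F (11 : Fin 24) t *ᵥ c) (eI 0) = c (eI 0) :=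
  congrFun (helper34_d4mv11 t c) (Sum.inr (0 : Fin 24))

theorem a34_p11e1 (t : F) (c : chevD4.Idx → F) :
    (chevD4.xMat F (11 : Fin 24) t *ᵥ c) (eI 1) = c (eI 1) + -(t * c (eI 2)) :=
  congrFun (helper34_d4mv11 t c) (Sum.inr (1 : Fin 24))

theorem a34_p11e2 (t : F) (c : chevD4.Idx → F) :
    (chevD4.xMat F (11 : Fin 24) t *ᵥ c) (eI 2) = c (eI 2) :=
  congrFun (helper34_d4mv11 t c) (Sum.inr (2 : Fin 24))

theorem a34_p11e3 (t : F) (c : chevD4.Idx → F) :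
    (chevD4.xMat F (11 : Fin 24) t *ᵥ c) (eI 3) = c (eI 3) + -(t * c (eI 4)) :=
  congrFun (helper34_d4mv11 t c) (Sum.inr (3 : Fin 24))

theorem a34_p11e4 (t : F) (c : chevD4.Idx → F) :
    (chevD4.xMat F (11 : Fin 24) t *ᵥ c) (eI 4) = c (eI 4) :=
  congrFun (helper34_d4mv11 t c) (Sum.inr (4 : Fin 24))

theorem a34_p11e5 (t : F) (c : chevD4.Idx → F) :
    (chevD4.xMat F (11 : Fin 24) t *ᵥ c) (eI 5) = c (eI 5) :=
  congrFun (helper34_d4mv11 t c) (Sum.inr (5 : Fin 24))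

theorem a34_p11e6 (t : F) (c : chevD4.Idx → F) :
    (chevD4.xMat F (11 : Fin 24) t *ᵥ c) (eI 6) = c (eI 6) + -(t * c (eI 7)) :=
  congrFun (helper34_d4mv11 t c) (Sum.inr (6 : Fin 24))

theorem a34_p11e7 (t : F) (c : chevD4.Idx → F) :
    (chevD4.xMat F (11 : Fin 24) t *ᵥ c) (eI 7) = c (eI 7) :=
  congrFun (helper34_d4mv11 t c) (Sum.inr (7 : Fin 24))

theorem a34_p11e8 (t : F) (c : chevD4.Idx → F) :
    (chevD4.xMat F (11 : Fin 24) t *ᵥ c) (eI 8) = c (eI 8) + -(t * c (eI 9)) :=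
  congrFun (helper34_d4mv11 t c) (Sum.inr (8 : Fin 24))

theorem a34_p11e9 (t : F) (c : chevD4.Idx → F) :
    (chevD4.xMat F (11 : Fin 24) t *ᵥ c) (eI 9) = c (eI 9) :=
  congrFun (helper34_d4mv11 t c) (Sum.inr (9 : Fin 24))

theorem a34_p11e10 (t : F) (c : chevD4.Idx → F) :
    (chevD4.xMat F (11 : Fin 24) t *ᵥ c) (eI 10) = c (eI 10) :=
  congrFun (helper34_d4mv11 t c) (Sum.inr (10 : Fin 24))

theorem a34_p11e11 (t : F) (c : chevD4.Idx → F) :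
    (chevD4.xMat F (11 : Fin 24) t *ᵥ c) (eI 11) = -(t * c (hI 1)) + (2) * t * c (hI 3) + c (eI 11) + -(t ^ 2 * c (eI 12)) :=
  congrFun (helper34_d4mv11 t c) (Sum.inr (11 : Fin 24))

theorem a34_p11e12 (t : F) (c : chevD4.Idx → F) :
    (chevD4.xMat F (11 : Fin 24) t *ᵥ c) (eI 12) = c (eI 12) :=
  congrFun (helper34_d4mv11 t c) (Sum.inr (12 : Fin 24))

theorem a34_p11e13 (t : F) (c : chevD4.Idx → F) :
    (chevD4.xMat F (11 : Fin 24) t *ᵥ c) (eI 13) = c (eI 13) :=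
  congrFun (helper34_d4mv11 t c) (Sum.inr (13 : Fin 24))

theorem a34_p11e14 (t : F) (c : chevD4.Idx → F) :
    (chevD4.xMat F (11 : Fin 24) t *ᵥ c) (eI 14) = c (eI 14) + t * c (eI 15) :=
  congrFun (helper34_d4mv11 t c) (Sum.inr (14 : Fin 24))

theorem a34_p11e15 (t : F) (c : chevD4.Idx → F) :
    (chevD4.xMat F (11 : Fin 24) t *ᵥ c) (eI 15) = c (eI 15) :=
  congrFun (helper34_d4mv11 t c) (Sum.inr (15 : Fin 24))

theorem a34_p11e16 (t : F) (c : chevD4.Idx → F) :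
    (chevD4.xMat F (11 : Fin 24) t *ᵥ c) (eI 16) = c (eI 16) + t * c (eI 17) :=
  congrFun (helper34_d4mv11 t c) (Sum.inr (16 : Fin 24))

theorem a34_p11e17 (t : F) (c : chevD4.Idx → F) :
    (chevD4.xMat F (11 : Fin 24) t *ᵥ c) (eI 17) = c (eI 17) :=
  congrFun (helper34_d4mv11 t c) (Sum.inr (17 : Fin 24))

theorem a34_p11e18 (t : F) (c : chevD4.Idx → F) :
    (chevD4.xMat F (11 : Fin 24) t *ᵥ c) (eI 18) = c (eI 18) :=
  congrFun (helper34_d4mv11 t c) (Sum.inr (18 : Fin 24))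

theorem a34_p11e19 (t : F) (c : chevD4.Idx → F) :
    (chevD4.xMat F (11 : Fin 24) t *ᵥ c) (eI 19) = c (eI 19) + t * c (eI 20) :=
  congrFun (helper34_d4mv11 t c) (Sum.inr (19 : Fin 24))

theorem a34_p11e20 (t : F) (c : chevD4.Idx → F) :
    (chevD4.xMat F (11 : Fin 24) t *ᵥ c) (eI 20) = c (eI 20) :=
  congrFun (helper34_d4mv11 t c) (Sum.inr (20 : Fin 24))

theorem a34_p11e21 (t : F) (c : chevD4.Idx → F) :
    (chevD4.xMat F (11 : Fin 24) t *ᵥ c) (eI 21) = c (eI 21) + t * c (eI 22) :=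
  congrFun (helper34_d4mv11 t c) (Sum.inr (21 : Fin 24))

theorem a34_p11e22 (t : F) (c : chevD4.Idx → F) :
    (chevD4.xMat F (11 : Fin 24) t *ᵥ c) (eI 22) = c (eI 22) :=
  congrFun (helper34_d4mv11 t c) (Sum.inr (22 : Fin 24))

theorem a34_p11e23 (t : F) (c : chevD4.Idx → F) :
    (chevD4.xMat F (11 : Fin 24) t *ᵥ c) (eI 23) = c (eI 23) :=
  congrFun (helper34_d4mv11 t c) (Sum.inr (23 : Fin 24))

set_option maxHeartbeats 40000000 in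
theorem ad_rel_11 (t : F) (c : chevD4.Idx → F) :
    X8 11 t * Lmap c = Lmap (chevD4.xMat F (11 : Fin 24) t *ᵥ c) * X8 11 t := by
  simp only [Lmap, a34_p11h0, a34_p11h1, a34_p11h2, a34_p11h3, a34_p11e0, a34_p11e1, a34_p11e2, a34_p11e3, a34_p11e4, a34_p11e5, a34_p11e6, a34_p11e7, a34_p11e8, a34_p11e9, a34_p11e10, a34_p11e11, a34_p11e12, a34_p11e13, a34_p11e14, a34_p11e15, a34_p11e16, a34_p11e17, a34_p11e18, a34_p11e19, a34_p11e20, a34_p11e21, a34_p11e22, a34_p11e23]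
  ext i j
  fin_cases i <;> fin_cases j <;>
    simp [X8, Matrix.mul_apply, Fin.sum_univ_succ] <;> ring

end Cfsg.Agent.Lib.helper34.D4
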