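import Cfsg.Agent.Lib.helper34.D4MVBase

/-! Explicit form of the root elements `chevD4.xMat F r t` applied to a coordinate vector
(generated by helper34 from the Prelude tables; used for the adjoint relation of S1082). -/

set_option autoImplicit false

namespace Cfsg.Agent.Lib.helper34.ChevD4MV

open Matrix Cfsg Cfsg.Lie

variable {F : Type*} [Field F]

set_option maxHeartbeats 40000000 in
theorem helper34_d4mv12 (t : F) (c : Fin 4 ⊕ Fin 24 → F) :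
    chevD4.xMat F (12 : Fin 24) t *ᵥ c =
      Sum.elim ![c (Sum.inl 0), c (Sum.inl 1), c (Sum.inl 2), c (Sum.inl 3) + t * c (Sum.inr 11)]
        ![c (Sum.inr 0), c (Sum.inr 1), -(t * c (Sum.inr 1)) + c (Sum.inr 2), c (Sum.inr 3), -(t * c (Sum.inr 3)) + c (Sum.inr 4), c (Sum.inr 5), c (Sum.inr 6), -(t * c (Sum.inr 6)) + c (Sum.inr 7), c (Sum.inr 8), -(t * c (Sum.inr 8)) + c (Sum.inr 9), c (Sum.inr 10), c (Sum.inr 11), t * c (Sum.inl 1) + (-2) * t * c (Sum.inl 3) + -(t ^ 2 * c (Sum.inr 11)) + c (Sum.inr 12), c (Sum.inr 13), c (Sum.inr 14), t * c (Sum.inr 14) + c (Sum.inr 15), c (Sum.inr 16), t * c (Sum.inr 16) + c (Sum.inr 17), c (Sum.inr 18), c (Sum.inr 19), t * c (Sum.inr 19) + c (Sum.inr 20), c (Sum.inr 21), t * c (Sum.inr 21) + c (Sum.inr 22), c (Sum.inr 23)] := by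
  refine funext fun (i : Fin 4 ⊕ Fin 24) => ?_
  show (∑ j : Fin 4 ⊕ Fin 24, chevD4.xMat F (12 : Fin 24) t i j * c j) = _
  rw [Fintype.sum_sum_type]
  simp only [Fin.sum_univ_succ, Fin.sum_univ_zero]
  rcases i with i | i <;> fin_cases i <;>
    simp only [helper34_d4x_ll, helper34_d4x_rl, helper34_d4x_lr, helper34_d4x_rr] <;>
    simp [chevD4, chevD4NegIdx, chevD4Chain, chevD4Chain12,
      ChevalleyDatum.chainCoeff, chevD4Coroot, chevD4CartanSR] <;> ring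

set_option maxHeartbeats 40000000 in
theorem helper34_d4mv13 (t : F) (c : Fin 4 ⊕ Fin 24 → F) :
    chevD4.xMat F (13 : Fin 24) t *ᵥ c =
      Sum.elim ![c (Sum.inl 0), c (Sum.inl 1), c (Sum.inl 2) + t * c (Sum.inr 10), c (Sum.inl 3)]
        ![c (Sum.inr 0), c (Sum.inr 1), c (Sum.inr 2), -(t * c (Sum.inr 1)) + c (Sum.inr 3), -(t * c (Sum.inr 2)) + c (Sum.inr 4), c (Sum.inr 5), c (Sum.inr 6), c (Sum.inr 7), -(t * c (Sum.inr 6)) + c (Sum.inr 8), -(t * c (Sum.inr 7)) + c (Sum.inr 9), c (Sum.inr 10), c (Sum.inr 11), c (Sum.inr 12), t * c (Sum.inl 1) + (-2) * t * c (Sum.inl 2) + -(t ^ 2 * c (Sum.inr 10)) + c (Sum.inr 13), c (Sum.inr 14), c (Sum.inr 15), t * c (Sum.inr 14) + c (Sum.inr 16), t * c (Sum.inr 15) + c (Sum.inr 17), c (Sum.inr 18), c (Sum.inr 19), c (Sum.inr 20), t * c (Sum.inr 19) + c (Sum.inr 21), t * c (Sum.inr 20) + c (Sum.inr 22), c (Sum.inr 23)] := by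
  refine funext fun (i : Fin 4 ⊕ Fin 24) => ?_
  show (∑ j : Fin 4 ⊕ Fin 24, chevD4.xMat F (13 : Fin 24) t i j * c j) = _
  rw [Fintype.sum_sum_type]
  simp only [Fin.sum_univ_succ, Fin.sum_univ_zero]
  rcases i with i | i <;> fin_cases i <;>
    simp only [helper34_d4x_ll, helper34_d4x_rl, helper34_d4x_lr, helper34_d4x_rr] <;>
    simp [chevD4, chevD4NegIdx, chevD4Chain, chevD4Chain13,
      ChevalleyDatum.chainCoeff, chevD4Coroot, chevD4CartanSR] <;> ring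

set_option maxHeartbeats 40000000 in
theorem helper34_d4mv14 (t : F) (c : Fin 4 ⊕ Fin 24 → F) :
    chevD4.xMat F (14 : Fin 24) t *ᵥ c =
      Sum.elim ![c (Sum.inl 0), c (Sum.inl 1) + t * c (Sum.inr 9), c (Sum.inl 2), c (Sum.inl 3)]
        ![c (Sum.inr 0), -(t * c (Sum.inr 0)) + c (Sum.inr 1), c (Sum.inr 2), c (Sum.inr 3), c (Sum.inr 4), -(t * c (Sum.inr 4)) + c (Sum.inr 5), c (Sum.inr 6), c (Sum.inr 7), c (Sum.inr 8), c (Sum.inr 9), t * c (Sum.inr 7) + c (Sum.inr 10), t * c (Sum.inr 8) + c (Sum.inr 11), c (Sum.inr 12), c (Sum.inr 13), t * c (Sum.inl 0) + (-2) * t * c (Sum.inl 1) + t * c (Sum.inl 2) + t * c (Sum.inl 3) + -(t ^ 2 * c (Sum.inr 9)) + c (Sum.inr 14), -(t * c (Sum.inr 12)) + c (Sum.inr 15), -(t * c (Sum.inr 13)) + c (Sum.inr 16), c (Sum.inr 17), c (Sum.inr 18), t * c (Sum.inr 18) + c (Sum.inr 19), c (Sum.inr 20), c (Sum.inr 21), c (Sum.inr 22), t * c (Sum.inr 22) + c (Sum.inr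 23)] := by
  refine funext fun (i : Fin 4 ⊕ Fin 24) => ?_
  show (∑ j : Fin 4 ⊕ Fin 24, chevD4.xMat F (14 : Fin 24) t i j * c j) = _
  rw [Fintype.sum_sum_type]
  simp only [Fin.sum_univ_succ, Fin.sum_univ_zero]
  rcases i with i | i <;> fin_cases i <;>
    simp only [helper34_d4x_ll, helper34_d4x_rl, helper34_d4x_lr, helper34_d4x_rr] <;>
    simp [chevD4, chevD4NegIdx, chevD4Chain, chevD4Chain14,
      ChevalleyDatum.chainCoeff, chevD4Coroot, chevD4CartanSR] <;> ring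

set_option maxHeartbeats 40000000 in
theorem helper34_d4mv15 (t : F) (c : Fin 4 ⊕ Fin 24 → F) :
    chevD4.xMat F (15 : Fin 24) t *ᵥ c =
      Sum.elim ![c (Sum.inl 0), c (Sum.inl 1) + t * c (Sum.inr 8), c (Sum.inl 2), c (Sum.inl 3) + t * c (Sum.inr 8)]
        ![c (Sum.inr 0), c (Sum.inr 1), t * c (Sum.inr 0) + c (Sum.inr 2), c (Sum.inr 3), c (Sum.inr 4), -(t * c (Sum.inr 3)) + c (Sum.inr 5), c (Sum.inr 6), c (Sum.inr 7), c (Sum.inr 8), c (Sum.inr 9), t * c (Sum.inr 6) + c (Sum.inr 10), c (Sum.inr 11), t * c (Sum.inr 9) + c (Sum.inr 12), c (Sum.inr 13), -(t * c (Sum.inr 11)) + c (Sum.inr 14), t * c (Sum.inl 0) + -(t * c (Sum.inl 1)) + t * c (Sum.inl 2) + -(t * c (Sum.inl 3)) + -(t ^ 2 * c (Sum.inr 8)) + c (Sum.inr 15), c (Sum.inr 16), -(t * c (Sum.inr 13)) + c (Sum.inr 17), c (Sum.inr 18), c (Sum.inr 19), t * c (Sum.inr 18) + c (Sum.inr 20), c (Sum.inr 21), c (Sum.inr 22), -(t * c (Sum.inr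 21)) + c (Sum.inr 23)] := by
  refine funext fun (i : Fin 4 ⊕ Fin 24) => ?_
  show (∑ j : Fin 4 ⊕ Fin 24, chevD4.xMat F (15 : Fin 24) t i j * c j) = _
  rw [Fintype.sum_sum_type]
  simp only [Fin.sum_univ_succ, Fin.sum_univ_zero]
  rcases i with i | i <;> fin_cases i <;>
    simp only [helper34_d4x_ll, helper34_d4x_rl, helper34_d4x_lr, helper34_d4x_rr] <;>
    simp [chevD4, chevD4NegIdx, chevD4Chain, chevD4Chain15,
      ChevalleyDatum.chainCoeff, chevD4Coroot, chevD4CartanSR] <;> ring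

set_option maxHeartbeats 40000000 in
theorem helper34_d4mv16 (t : F) (c : Fin 4 ⊕ Fin 24 → F) :
    chevD4.xMat F (16 : Fin 24) t *ᵥ c =
      Sum.elim ![c (Sum.inl 0), c (Sum.inl 1) + t * c (Sum.inr 7), c (Sum.inl 2) + t * c (Sum.inr 7), c (Sum.inl 3)]
        ![c (Sum.inr 0), c (Sum.inr 1), c (Sum.inr 2), t * c (Sum.inr 0) + c (Sum.inr 3), c (Sum.inr 4), -(t * c (Sum.inr 2)) + c (Sum.inr 5), c (Sum.inr 6), c (Sum.inr 7), c (Sum.inr 8), c (Sum.inr 9), c (Sum.inr 10), t * c (Sum.inr 6) + c (Sum.inr 11), c (Sum.inr 12), t * c (Sum.inr 9) + c (Sum.inr 13), -(t * c (Sum.inr 10)) + c (Sum.inr 14), c (Sum.inr 15), t * c (Sum.inl 0) + -(t * c (Sum.inl 1)) + -(t * c (Sum.inl 2)) + t * c (Sum.inl 3) + -(t ^ 2 * c (Sum.inr 7)) + c (Sum.inr 16), -(t * c (Sum.inr 12)) + c (Sum.inr 17), c (Sum.inr 18), c (Sum.inr 19), c (Sum.inr 20), t * c (Sum.inr 18) + c (Sum.inr 21), c (Sum.inr 22), -(t * c (Sum.inr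 20)) + c (Sum.inr 23)] := by
  refine funext fun (i : Fin 4 ⊕ Fin 24) => ?_
  show (∑ j : Fin 4 ⊕ Fin 24, chevD4.xMat F (16 : Fin 24) t i j * c j) = _
  rw [Fintype.sum_sum_type]
  simp only [Fin.sum_univ_succ, Fin.sum_univ_zero]
  rcases i with i | i <;> fin_cases i <;>
    simp only [helper34_d4x_ll, helper34_d4x_rl, helper34_d4x_lr, helper34_d4x_rr] <;>
    simp [chevD4, chevD4NegIdx, chevD4Chain, chevD4Chain16,
      ChevalleyDatum.chainCoeff, chevD4Coroot, chevD4CartanSR] <;> ring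

set_option maxHeartbeats 40000000 in
theorem helper34_d4mv17 (t : F) (c : Fin 4 ⊕ Fin 24 → F) :
    chevD4.xMat F (17 : Fin 24) t *ᵥ c =
      Sum.elim ![c (Sum.inl 0), c (Sum.inl 1) + t * c (Sum.inr 6), c (Sum.inl 2) + t * c (Sum.inr 6), c (Sum.inl 3) + t * c (Sum.inr 6)]
        ![c (Sum.inr 0), c (Sum.inr 1), c (Sum.inr 2), c (Sum.inr 3), -(t * c (Sum.inr 0)) + c (Sum.inr 4), -(t * c (Sum.inr 1)) + c (Sum.inr 5), c (Sum.inr 6), c (Sum.inr 7), c (Sum.inr 8), c (Sum.inr 9), c (Sum.inr 10), c (Sum.inr 11), t * c (Sum.inr 7) + c (Sum.inr 12), t * c (Sum.inr 8) + c (Sum.inr 13), c (Sum.inr 14), -(t * c (Sum.inr 10)) + c (Sum.inr 15), -(t * c (Sum.inr 11)) + c (Sum.inr 16), t * c (Sum.inl 0) + -(t * c (Sum.inl 2)) + -(t * c (Sum.inl 3)) + -(t ^ 2 * c (Sum.inr 6)) + c (Sum.inr 17), c (Sum.inr 18), c (Sum.inr 19), c (Sum.inr 20), c (Sum.inr 21), t * c (Sum.inr 18) + c (Sum.inr 22), t * c (Sum.inr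 19) + c (Sum.inr 23)] := by
  refine funext fun (i : Fin 4 ⊕ Fin 24) => ?_
  show (∑ j : Fin 4 ⊕ Fin 24, chevD4.xMat F (17 : Fin 24) t i j * c j) = _
  rw [Fintype.sum_sum_type]
  simp only [Fin.sum_univ_succ, Fin.sum_univ_zero]
  rcases i with i | i <;> fin_cases i <;>
    simp only [helper34_d4x_ll, helper34_d4x_rl, helper34_d4x_lr, helper34_d4x_rr] <;>
    simp [chevD4, chevD4NegIdx, chevD4Chain, chevD4Chain17,
      ChevalleyDatum.chainCoeff, chevD4Coroot, chevD4CartanSR] <;> ring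

end Cfsg.Agent.Lib.helper34.ChevD4MV
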