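import Cfsg.Agent.Lib.helper95.D4Defs
import Cfsg.Agent.Lib.helper34.D4MV2

/-! S1082 pieces A12..A17: the adjoint relation `X8 r t * Lmap c = Lmap (chevD4.xMat F r t *ᵥ c) * X8 r t`
for the D4 root elements in `so₈` (helper34, generated from the Prelude tables). -/

set_option autoImplicit false

namespace Cfsg.Agent.Lib.helper34.D4

open Matrix Cfsg Cfsg.Lie Cfsg.Agent.Lib.helper95.D4 Cfsg.Agent.Lib.helper34.ChevD4MV

variable {F : Type*} [Field F]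

theorem a34_p12h0 (t : F) (c : chevD4.Idx → F) :
    (chevD4.xMat F (12 : Fin 24) t *ᵥ c) (hI 0) = c (hI 0) :=
  congrFun (helper34_d4mv12 t c) (Sum.inl (0 : Fin 4))

theorem a34_p12h1 (t : F) (c : chevD4.Idx → F) :
    (chevD4.xMat F (12 : Fin 24) t *ᵥ c) (hI 1) = c (hI 1) :=
  congrFun (helper34_d4mv12 t c) (Sum.inl (1 : Fin 4))

theorem a34_p12h2 (t : F) (c : chevD4.Idx → F) :
    (chevD4.xMat F (12 : Fin 24) t *ᵥ c) (hI 2) = c (hI 2) :=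
  congrFun (helper34_d4mv12 t c) (Sum.inl (2 : Fin 4))

theorem a34_p12h3 (t : F) (c : chevD4.Idx → F) :
    (chevD4.xMat F (12 : Fin 24) t *ᵥ c) (hI 3) = c (hI 3) + t * c (eI 11) :=
  congrFun (helper34_d4mv12 t c) (Sum.inl (3 : Fin 4))

theorem a34_p12e0 (t : F) (c : chevD4.Idx → F) :
    (chevD4.xMat F (12 : Fin 24) t *ᵥ c) (eI 0) = c (eI 0) :=
  congrFun (helper34_d4mv12 t c) (Sum.inr (0 : Fin 24))

theorem a34_p12e1 (t : F) (c : chevD4.Idx → F) :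
    (chevD4.xMat F (12 : Fin 24) t *ᵥ c) (eI 1) = c (eI 1) :=
  congrFun (helper34_d4mv12 t c) (Sum.inr (1 : Fin 24))

theorem a34_p12e2 (t : F) (c : chevD4.Idx → F) :
    (chevD4.xMat F (12 : Fin 24) t *ᵥ c) (eI 2) = -(t * c (eI 1)) + c (eI 2) :=
  congrFun (helper34_d4mv12 t c) (Sum.inr (2 : Fin 24))

theorem a34_p12e3 (t : F) (c : chevD4.Idx → F) :
    (chevD4.xMat F (12 : Fin 24) t *ᵥ c) (eI 3) = c (eI 3) :=
  congrFun (helper34_d4mv12 t c) (Sum.inr (3 : Fin 24))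

theorem a34_p12e4 (t : F) (c : chevD4.Idx → F) :
    (chevD4.xMat F (12 : Fin 24) t *ᵥ c) (eI 4) = -(t * c (eI 3)) + c (eI 4) :=
  congrFun (helper34_d4mv12 t c) (Sum.inr (4 : Fin 24))

theorem a34_p12e5 (t : F) (c : chevD4.Idx → F) :
    (chevD4.xMat F (12 : Fin 24) t *ᵥ c) (eI 5) = c (eI 5) :=
  congrFun (helper34_d4mv12 t c) (Sum.inr (5 : Fin 24))

theorem a34_p12e6 (t : F) (c : chevD4.Idx → F) :
    (chevD4.xMat F (12 : Fin 24) t *ᵥ c) (eI 6) = c (eI 6) :=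
  congrFun (helper34_d4mv12 t c) (Sum.inr (6 : Fin 24))

theorem a34_p12e7 (t : F) (c : chevD4.Idx → F) :
    (chevD4.xMat F (12 : Fin 24) t *ᵥ c) (eI 7) = -(t * c (eI 6)) + c (eI 7) :=
  congrFun (helper34_d4mv12 t c) (Sum.inr (7 : Fin 24))

theorem a34_p12e8 (t : F) (c : chevD4.Idx → F) :
    (chevD4.xMat F (12 : Fin 24) t *ᵥ c) (eI 8) = c (eI 8) :=
  congrFun (helper34_d4mv12 t c) (Sum.inr (8 : Fin 24))

theorem a34_p12e9 (t : F) (c : chevD4.Idx → F) :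
    (chevD4.xMat F (12 : Fin 24) t *ᵥ c) (eI 9) = -(t * c (eI 8)) + c (eI 9) :=
  congrFun (helper34_d4mv12 t c) (Sum.inr (9 : Fin 24))

theorem a34_p12e10 (t : F) (c : chevD4.Idx → F) :
    (chevD4.xMat F (12 : Fin 24) t *ᵥ c) (eI 10) = c (eI 10) :=
  congrFun (helper34_d4mv12 t c) (Sum.inr (10 : Fin 24))

theorem a34_p12e11 (t : F) (c : chevD4.Idx → F) :
    (chevD4.xMat F (12 : Fin 24) t *ᵥ c) (eI 11) = c (eI 11) :=
  congrFun (helper34_d4mv12 t c) (Sum.inr (11 : Fin 24))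

theorem a34_p12e12 (t : F) (c : chevD4.Idx → F) :
    (chevD4.xMat F (12 : Fin 24) t *ᵥ c) (eI 12) = t * c (hI 1) + (-2) * t * c (hI 3) + -(t ^ 2 * c (eI 11)) + c (eI 12) :=
  congrFun (helper34_d4mv12 t c) (Sum.inr (12 : Fin 24))

theorem a34_p12e13 (t : F) (c : chevD4.Idx → F) :
    (chevD4.xMat F (12 : Fin 24) t *ᵥ c) (eI 13) = c (eI 13) :=
  congrFun (helper34_d4mv12 t c) (Sum.inr (13 : Fin 24))

theorem a34_p12e14 (t : F) (c : chevD4.Idx → F) :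
    (chevD4.xMat F (12 : Fin 24) t *ᵥ c) (eI 14) = c (eI 14) :=
  congrFun (helper34_d4mv12 t c) (Sum.inr (14 : Fin 24))

theorem a34_p12e15 (t : F) (c : chevD4.Idx → F) :
    (chevD4.xMat F (12 : Fin 24) t *ᵥ c) (eI 15) = t * c (eI 14) + c (eI 15) :=
  congrFun (helper34_d4mv12 t c) (Sum.inr (15 : Fin 24))

theorem a34_p12e16 (t : F) (c : chevD4.Idx → F) :
    (chevD4.xMat F (12 : Fin 24) t *ᵥ c) (eI 16) = c (eI 16) :=
  congrFun (helper34_d4mv12 t c) (Sum.inr (16 : Fin 24))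

theorem a34_p12e17 (t : F) (c : chevD4.Idx → F) :
    (chevD4.xMat F (12 : Fin 24) t *ᵥ c) (eI 17) = t * c (eI 16) + c (eI 17) :=
  congrFun (helper34_d4mv12 t c) (Sum.inr (17 : Fin 24))

theorem a34_p12e18 (t : F) (c : chevD4.Idx → F) :
    (chevD4.xMat F (12 : Fin 24) t *ᵥ c) (eI 18) = c (eI 18) :=
  congrFun (helper34_d4mv12 t c) (Sum.inr (18 : Fin 24))

theorem a34_p12e19 (t : F) (c : chevD4.Idx → F) :
    (chevD4.xMat F (12 : Fin 24) t *ᵥ c) (eI 19) = c (eI 19) :=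
  congrFun (helper34_d4mv12 t c) (Sum.inr (19 : Fin 24))

theorem a34_p12e20 (t : F) (c : chevD4.Idx → F) :
    (chevD4.xMat F (12 : Fin 24) t *ᵥ c) (eI 20) = t * c (eI 19) + c (eI 20) :=
  congrFun (helper34_d4mv12 t c) (Sum.inr (20 : Fin 24))

theorem a34_p12e21 (t : F) (c : chevD4.Idx → F) :
    (chevD4.xMat F (12 : Fin 24) t *ᵥ c) (eI 21) = c (eI 21) :=
  congrFun (helper34_d4mv12 t c) (Sum.inr (21 : Fin 24))

theorem a34_p12e22 (t : F) (c : chevD4.Idx → F) :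
    (chevD4.xMat F (12 : Fin 24) t *ᵥ c) (eI 22) = t * c (eI 21) + c (eI 22) :=
  congrFun (helper34_d4mv12 t c) (Sum.inr (22 : Fin 24))

theorem a34_p12e23 (t : F) (c : chevD4.Idx → F) :
    (chevD4.xMat F (12 : Fin 24) t *ᵥ c) (eI 23) = c (eI 23) :=
  congrFun (helper34_d4mv12 t c) (Sum.inr (23 : Fin 24))

set_option maxHeartbeats 40000000 in
theorem ad_rel_12 (t : F) (c : chevD4.Idx → F) :
    X8 12 t * Lmap c = Lmap (chevD4.xMat F (12 : Fin 24) t *ᵥ c) * X8 12 t := by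
  simp only [Lmap, a34_p12h0, a34_p12h1, a34_p12h2, a34_p12h3, a34_p12e0, a34_p12e1, a34_p12e2, a34_p12e3, a34_p12e4, a34_p12e5, a34_p12e6, a34_p12e7, a34_p12e8, a34_p12e9, a34_p12e10, a34_p12e11, a34_p12e12, a34_p12e13, a34_p12e14, a34_p12e15, a34_p12e16, a34_p12e17, a34_p12e18, a34_p12e19, a34_p12e20, a34_p12e21, a34_p12e22, a34_p12e23]
  ext i j
  fin_cases i <;> fin_cases j <;>
    simp [X8, Matrix.mul_apply, Fin.sum_univ_succ] <;> ring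

theorem a34_p13h0 (t : F) (c : chevD4.Idx → F) :
    (chevD4.xMat F (13 : Fin 24) t *ᵥ c) (hI 0) = c (hI 0) :=
  congrFun (helper34_d4mv13 t c) (Sum.inl (0 : Fin 4))

theorem a34_p13h1 (t : F) (c : chevD4.Idx → F) :
    (chevD4.xMat F (13 : Fin 24) t *ᵥ c) (hI 1) = c (hI 1) :=
  congrFun (helper34_d4mv13 t c) (Sum.inl (1 : Fin 4))

theorem a34_p13h2 (t : F) (c : chevD4.Idx → F) :
    (chevD4.xMat F (13 : Fin 24) t *ᵥ c) (hI 2) = c (hI 2) + t * c (eI 10) :=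
  congrFun (helper34_d4mv13 t c) (Sum.inl (2 : Fin 4))

theorem a34_p13h3 (t : F) (c : chevD4.Idx → F) :
    (chevD4.xMat F (13 : Fin 24) t *ᵥ c) (hI 3) = c (hI 3) :=
  congrFun (helper34_d4mv13 t c) (Sum.inl (3 : Fin 4))

theorem a34_p13e0 (t : F) (c : chevD4.Idx → F) :
    (chevD4.xMat F (13 : Fin 24) t *ᵥ c) (eI 0) = c (eI 0) :=
  congrFun (helper34_d4mv13 t c) (Sum.inr (0 : Fin 24))

theorem a34_p13e1 (t : F) (c : chevD4.Idx → F) :
    (chevD4.xMat F (13 : Fin 24) t *ᵥ c) (eI 1) = c (eI 1) :=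
  congrFun (helper34_d4mv13 t c) (Sum.inr (1 : Fin 24))

theorem a34_p13e2 (t : F) (c : chevD4.Idx → F) :
    (chevD4.xMat F (13 : Fin 24) t *ᵥ c) (eI 2) = c (eI 2) :=
  congrFun (helper34_d4mv13 t c) (Sum.inr (2 : Fin 24))

theorem a34_p13e3 (t : F) (c : chevD4.Idx → F) :
    (chevD4.xMat F (13 : Fin 24) t *ᵥ c) (eI 3) = -(t * c (eI 1)) + c (eI 3) :=
  congrFun (helper34_d4mv13 t c) (Sum.inr (3 : Fin 24))

theorem a34_p13e4 (t : F) (c : chevD4.Idx → F) :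
    (chevD4.xMat F (13 : Fin 24) t *ᵥ c) (eI 4) = -(t * c (eI 2)) + c (eI 4) :=
  congrFun (helper34_d4mv13 t c) (Sum.inr (4 : Fin 24))

theorem a34_p13e5 (t : F) (c : chevD4.Idx → F) :
    (chevD4.xMat F (13 : Fin 24) t *ᵥ c) (eI 5) = c (eI 5) :=
  congrFun (helper34_d4mv13 t c) (Sum.inr (5 : Fin 24))

theorem a34_p13e6 (t : F) (c : chevD4.Idx → F) :
    (chevD4.xMat F (13 : Fin 24) t *ᵥ c) (eI 6) = c (eI 6) :=
  congrFun (helper34_d4mv13 t c) (Sum.inr (6 : Fin 24))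

theorem a34_p13e7 (t : F) (c : chevD4.Idx → F) :
    (chevD4.xMat F (13 : Fin 24) t *ᵥ c) (eI 7) = c (eI 7) :=
  congrFun (helper34_d4mv13 t c) (Sum.inr (7 : Fin 24))

theorem a34_p13e8 (t : F) (c : chevD4.Idx → F) :
    (chevD4.xMat F (13 : Fin 24) t *ᵥ c) (eI 8) = -(t * c (eI 6)) + c (eI 8) :=
  congrFun (helper34_d4mv13 t c) (Sum.inr (8 : Fin 24))

theorem a34_p13e9 (t : F) (c : chevD4.Idx → F) :
    (chevD4.xMat F (13 : Fin 24) t *ᵥ c) (eI 9) = -(t * c (eI 7)) + c (eI 9) :=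
  congrFun (helper34_d4mv13 t c) (Sum.inr (9 : Fin 24))

theorem a34_p13e10 (t : F) (c : chevD4.Idx → F) :
    (chevD4.xMat F (13 : Fin 24) t *ᵥ c) (eI 10) = c (eI 10) :=
  congrFun (helper34_d4mv13 t c) (Sum.inr (10 : Fin 24))

theorem a34_p13e11 (t : F) (c : chevD4.Idx → F) :
    (chevD4.xMat F (13 : Fin 24) t *ᵥ c) (eI 11) = c (eI 11) :=
  congrFun (helper34_d4mv13 t c) (Sum.inr (11 : Fin 24))

theorem a34_p13e12 (t : F) (c : chevD4.Idx → F) :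
    (chevD4.xMat F (13 : Fin 24) t *ᵥ c) (eI 12) = c (eI 12) :=
  congrFun (helper34_d4mv13 t c) (Sum.inr (12 : Fin 24))

theorem a34_p13e13 (t : F) (c : chevD4.Idx → F) :
    (chevD4.xMat F (13 : Fin 24) t *ᵥ c) (eI 13) = t * c (hI 1) + (-2) * t * c (hI 2) + -(t ^ 2 * c (eI 10)) + c (eI 13) :=
  congrFun (helper34_d4mv13 t c) (Sum.inr (13 : Fin 24))

theorem a34_p13e14 (t : F) (c : chevD4.Idx → F) :
    (chevD4.xMat F (13 : Fin 24) t *ᵥ c) (eI 14) = c (eI 14) :=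
  congrFun (helper34_d4mv13 t c) (Sum.inr (14 : Fin 24))

theorem a34_p13e15 (t : F) (c : chevD4.Idx → F) :
    (chevD4.xMat F (13 : Fin 24) t *ᵥ c) (eI 15) = c (eI 15) :=
  congrFun (helper34_d4mv13 t c) (Sum.inr (15 : Fin 24))

theorem a34_p13e16 (t : F) (c : chevD4.Idx → F) :
    (chevD4.xMat F (13 : Fin 24) t *ᵥ c) (eI 16) = t * c (eI 14) + c (eI 16) :=
  congrFun (helper34_d4mv13 t c) (Sum.inr (16 : Fin 24))

theorem a34_p13e17 (t : F) (c : chevD4.Idx → F) :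
    (chevD4.xMat F (13 : Fin 24) t *ᵥ c) (eI 17) = t * c (eI 15) + c (eI 17) :=
  congrFun (helper34_d4mv13 t c) (Sum.inr (17 : Fin 24))

theorem a34_p13e18 (t : F) (c : chevD4.Idx → F) :
    (chevD4.xMat F (13 : Fin 24) t *ᵥ c) (eI 18) = c (eI 18) :=
  congrFun (helper34_d4mv13 t c) (Sum.inr (18 : Fin 24))

theorem a34_p13e19 (t : F) (c : chevD4.Idx → F) :
    (chevD4.xMat F (13 : Fin 24) t *ᵥ c) (eI 19) = c (eI 19) :=
  congrFun (helper34_d4mv13 t c) (Sum.inr (19 : Fin 24))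

theorem a34_p13e20 (t : F) (c : chevD4.Idx → F) :
    (chevD4.xMat F (13 : Fin 24) t *ᵥ c) (eI 20) = c (eI 20) :=
  congrFun (helper34_d4mv13 t c) (Sum.inr (20 : Fin 24))

theorem a34_p13e21 (t : F) (c : chevD4.Idx → F) :
    (chevD4.xMat F (13 : Fin 24) t *ᵥ c) (eI 21) = t * c (eI 19) + c (eI 21) :=
  congrFun (helper34_d4mv13 t c) (Sum.inr (21 : Fin 24))

theorem a34_p13e22 (t : F) (c : chevD4.Idx → F) :
    (chevD4.xMat F (13 : Fin 24) t *ᵥ c) (eI 22) = t * c (eI 20) + c (eI 22) :=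
  congrFun (helper34_d4mv13 t c) (Sum.inr (22 : Fin 24))

theorem a34_p13e23 (t : F) (c : chevD4.Idx → F) :
    (chevD4.xMat F (13 : Fin 24) t *ᵥ c) (eI 23) = c (eI 23) :=
  congrFun (helper34_d4mv13 t c) (Sum.inr (23 : Fin 24))

set_option maxHeartbeats 40000000 in
theorem ad_rel_13 (t : F) (c : chevD4.Idx → F) :
    X8 13 t * Lmap c = Lmap (chevD4.xMat F (13 : Fin 24) t *ᵥ c) * X8 13 t := by
  simp only [Lmap, a34_p13h0, a34_p13h1, a34_p13h2, a34_p13h3, a34_p13e0, a34_p13e1, a34_p13e2, a34_p13e3, a34_p13e4, a34_p13e5, a34_p13e6, a34_p13e7, a34_p13e8, a34_p13e9, a34_p13e10, a34_p13e11, a34_p13e12, a34_p13e13, a34_p13e14, a34_p13e15, a34_p13e16, a34_p13e17, a34_p13e18, a34_p13e19, a34_p13e20, a34_p13e21, a34_p13e22, a34_p13e23]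
  ext i j
  fin_cases i <;> fin_cases j <;>
    simp [X8, Matrix.mul_apply, Fin.sum_univ_succ] <;> ring

theorem a34_p14h0 (t : F) (c : chevD4.Idx → F) :
    (chevD4.xMat F (14 : Fin 24) t *ᵥ c) (hI 0) = c (hI 0) :=
  congrFun (helper34_d4mv14 t c) (Sum.inl (0 : Fin 4))

theorem a34_p14h1 (t : F) (c : chevD4.Idx → F) :
    (chevD4.xMat F (14 : Fin 24) t *ᵥ c) (hI 1) = c (hI 1) + t * c (eI 9) :=
  congrFun (helper34_d4mv14 t c) (Sum.inl (1 : Fin 4))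

theorem a34_p14h2 (t : F) (c : chevD4.Idx → F) :
    (chevD4.xMat F (14 : Fin 24) t *ᵥ c) (hI 2) = c (hI 2) :=
  congrFun (helper34_d4mv14 t c) (Sum.inl (2 : Fin 4))

theorem a34_p14h3 (t : F) (c : chevD4.Idx → F) :
    (chevD4.xMat F (14 : Fin 24) t *ᵥ c) (hI 3) = c (hI 3) :=
  congrFun (helper34_d4mv14 t c) (Sum.inl (3 : Fin 4))

theorem a34_p14e0 (t : F) (c : chevD4.Idx → F) :
    (chevD4.xMat F (14 : Fin 24) t *ᵥ c) (eI 0) = c (eI 0) :=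
  congrFun (helper34_d4mv14 t c) (Sum.inr (0 : Fin 24))

theorem a34_p14e1 (t : F) (c : chevD4.Idx → F) :
    (chevD4.xMat F (14 : Fin 24) t *ᵥ c) (eI 1) = -(t * c (eI 0)) + c (eI 1) :=
  congrFun (helper34_d4mv14 t c) (Sum.inr (1 : Fin 24))

theorem a34_p14e2 (t : F) (c : chevD4.Idx → F) :
    (chevD4.xMat F (14 : Fin 24) t *ᵥ c) (eI 2) = c (eI 2) :=
  congrFun (helper34_d4mv14 t c) (Sum.inr (2 : Fin 24))

theorem a34_p14e3 (t : F) (c : chevD4.Idx → F) :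
    (chevD4.xMat F (14 : Fin 24) t *ᵥ c) (eI 3) = c (eI 3) :=
  congrFun (helper34_d4mv14 t c) (Sum.inr (3 : Fin 24))

theorem a34_p14e4 (t : F) (c : chevD4.Idx → F) :
    (chevD4.xMat F (14 : Fin 24) t *ᵥ c) (eI 4) = c (eI 4) :=
  congrFun (helper34_d4mv14 t c) (Sum.inr (4 : Fin 24))

theorem a34_p14e5 (t : F) (c : chevD4.Idx → F) :
    (chevD4.xMat F (14 : Fin 24) t *ᵥ c) (eI 5) = -(t * c (eI 4)) + c (eI 5) :=
  congrFun (helper34_d4mv14 t c) (Sum.inr (5 : Fin 24))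

theorem a34_p14e6 (t : F) (c : chevD4.Idx → F) :
    (chevD4.xMat F (14 : Fin 24) t *ᵥ c) (eI 6) = c (eI 6) :=
  congrFun (helper34_d4mv14 t c) (Sum.inr (6 : Fin 24))

theorem a34_p14e7 (t : F) (c : chevD4.Idx → F) :
    (chevD4.xMat F (14 : Fin 24) t *ᵥ c) (eI 7) = c (eI 7) :=
  congrFun (helper34_d4mv14 t c) (Sum.inr (7 : Fin 24))

theorem a34_p14e8 (t : F) (c : chevD4.Idx → F) :
    (chevD4.xMat F (14 : Fin 24) t *ᵥ c) (eI 8) = c (eI 8) :=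
  congrFun (helper34_d4mv14 t c) (Sum.inr (8 : Fin 24))

theorem a34_p14e9 (t : F) (c : chevD4.Idx → F) :
    (chevD4.xMat F (14 : Fin 24) t *ᵥ c) (eI 9) = c (eI 9) :=
  congrFun (helper34_d4mv14 t c) (Sum.inr (9 : Fin 24))

theorem a34_p14e10 (t : F) (c : chevD4.Idx → F) :
    (chevD4.xMat F (14 : Fin 24) t *ᵥ c) (eI 10) = t * c (eI 7) + c (eI 10) :=
  congrFun (helper34_d4mv14 t c) (Sum.inr (10 : Fin 24))

theorem a34_p14e11 (t : F) (c : chevD4.Idx → F) :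
    (chevD4.xMat F (14 : Fin 24) t *ᵥ c) (eI 11) = t * c (eI 8) + c (eI 11) :=
  congrFun (helper34_d4mv14 t c) (Sum.inr (11 : Fin 24))

theorem a34_p14e12 (t : F) (c : chevD4.Idx → F) :
    (chevD4.xMat F (14 : Fin 24) t *ᵥ c) (eI 12) = c (eI 12) :=
  congrFun (helper34_d4mv14 t c) (Sum.inr (12 : Fin 24))

theorem a34_p14e13 (t : F) (c : chevD4.Idx → F) :
    (chevD4.xMat F (14 : Fin 24) t *ᵥ c) (eI 13) = c (eI 13) :=
  congrFun (helper34_d4mv14 t c) (Sum.inr (13 : Fin 24))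

theorem a34_p14e14 (t : F) (c : chevD4.Idx → F) :
    (chevD4.xMat F (14 : Fin 24) t *ᵥ c) (eI 14) = t * c (hI 0) + (-2) * t * c (hI 1) + t * c (hI 2) + t * c (hI 3) + -(t ^ 2 * c (eI 9)) + c (eI 14) :=
  congrFun (helper34_d4mv14 t c) (Sum.inr (14 : Fin 24))

theorem a34_p14e15 (t : F) (c : chevD4.Idx → F) :
    (chevD4.xMat F (14 : Fin 24) t *ᵥ c) (eI 15) = -(t * c (eI 12)) + c (eI 15) :=
  congrFun (helper34_d4mv14 t c) (Sum.inr (15 : Fin 24))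

theorem a34_p14e16 (t : F) (c : chevD4.Idx → F) :
    (chevD4.xMat F (14 : Fin 24) t *ᵥ c) (eI 16) = -(t * c (eI 13)) + c (eI 16) :=
  congrFun (helper34_d4mv14 t c) (Sum.inr (16 : Fin 24))

theorem a34_p14e17 (t : F) (c : chevD4.Idx → F) :
    (chevD4.xMat F (14 : Fin 24) t *ᵥ c) (eI 17) = c (eI 17) :=
  congrFun (helper34_d4mv14 t c) (Sum.inr (17 : Fin 24))

theorem a34_p14e18 (t : F) (c : chevD4.Idx → F) :
    (chevD4.xMat F (14 : Fin 24) t *ᵥ c) (eI 18) = c (eI 18) :=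
  congrFun (helper34_d4mv14 t c) (Sum.inr (18 : Fin 24))

theorem a34_p14e19 (t : F) (c : chevD4.Idx → F) :
    (chevD4.xMat F (14 : Fin 24) t *ᵥ c) (eI 19) = t * c (eI 18) + c (eI 19) :=
  congrFun (helper34_d4mv14 t c) (Sum.inr (19 : Fin 24))

theorem a34_p14e20 (t : F) (c : chevD4.Idx → F) :
    (chevD4.xMat F (14 : Fin 24) t *ᵥ c) (eI 20) = c (eI 20) :=
  congrFun (helper34_d4mv14 t c) (Sum.inr (20 : Fin 24))

theorem a34_p14e21 (t : F) (c : chevD4.Idx → F) :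
    (chevD4.xMat F (14 : Fin 24) t *ᵥ c) (eI 21) = c (eI 21) :=
  congrFun (helper34_d4mv14 t c) (Sum.inr (21 : Fin 24))

theorem a34_p14e22 (t : F) (c : chevD4.Idx → F) :
    (chevD4.xMat F (14 : Fin 24) t *ᵥ c) (eI 22) = c (eI 22) :=
  congrFun (helper34_d4mv14 t c) (Sum.inr (22 : Fin 24))

theorem a34_p14e23 (t : F) (c : chevD4.Idx → F) :
    (chevD4.xMat F (14 : Fin 24) t *ᵥ c) (eI 23) = t * c (eI 22) + c (eI 23) :=
  congrFun (helper34_d4mv14 t c) (Sum.inr (23 : Fin 24))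

set_option maxHeartbeats 40000000 in
theorem ad_rel_14 (t : F) (c : chevD4.Idx → F) :
    X8 14 t * Lmap c = Lmap (chevD4.xMat F (14 : Fin 24) t *ᵥ c) * X8 14 t := by
  simp only [Lmap, a34_p14h0, a34_p14h1, a34_p14h2, a34_p14h3, a34_p14e0, a34_p14e1, a34_p14e2, a34_p14e3, a34_p14e4, a34_p14e5, a34_p14e6, a34_p14e7, a34_p14e8, a34_p14e9, a34_p14e10, a34_p14e11, a34_p14e12, a34_p14e13, a34_p14e14, a34_p14e15, a34_p14e16, a34_p14e17, a34_p14e18, a34_p14e19, a34_p14e20, a34_p14e21, a34_p14e22, a34_p14e23]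
  ext i j
  fin_cases i <;> fin_cases j <;>
    simp [X8, Matrix.mul_apply, Fin.sum_univ_succ] <;> ring

theorem a34_p15h0 (t : F) (c : chevD4.Idx → F) :
    (chevD4.xMat F (15 : Fin 24) t *ᵥ c) (hI 0) = c (hI 0) :=
  congrFun (helper34_d4mv15 t c) (Sum.inl (0 : Fin 4))

theorem a34_p15h1 (t : F) (c : chevD4.Idx → F) :
    (chevD4.xMat F (15 : Fin 24) t *ᵥ c) (hI 1) = c (hI 1) + t * c (eI 8) :=
  congrFun (helper34_d4mv15 t c) (Sum.inl (1 : Fin 4))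

theorem a34_p15h2 (t : F) (c : chevD4.Idx → F) :
    (chevD4.xMat F (15 : Fin 24) t *ᵥ c) (hI 2) = c (hI 2) :=
  congrFun (helper34_d4mv15 t c) (Sum.inl (2 : Fin 4))

theorem a34_p15h3 (t : F) (c : chevD4.Idx → F) :
    (chevD4.xMat F (15 : Fin 24) t *ᵥ c) (hI 3) = c (hI 3) + t * c (eI 8) :=
  congrFun (helper34_d4mv15 t c) (Sum.inl (3 : Fin 4))

theorem a34_p15e0 (t : F) (c : chevD4.Idx → F) :
    (chevD4.xMat F (15 : Fin 24) t *ᵥ c) (eI 0) = c (eI 0) :=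
  congrFun (helper34_d4mv15 t c) (Sum.inr (0 : Fin 24))

theorem a34_p15e1 (t : F) (c : chevD4.Idx → F) :
    (chevD4.xMat F (15 : Fin 24) t *ᵥ c) (eI 1) = c (eI 1) :=
  congrFun (helper34_d4mv15 t c) (Sum.inr (1 : Fin 24))

theorem a34_p15e2 (t : F) (c : chevD4.Idx → F) :
    (chevD4.xMat F (15 : Fin 24) t *ᵥ c) (eI 2) = t * c (eI 0) + c (eI 2) :=
  congrFun (helper34_d4mv15 t c) (Sum.inr (2 : Fin 24))

theorem a34_p15e3 (t : F) (c : chevD4.Idx → F) :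
    (chevD4.xMat F (15 : Fin 24) t *ᵥ c) (eI 3) = c (eI 3) :=
  congrFun (helper34_d4mv15 t c) (Sum.inr (3 : Fin 24))

theorem a34_p15e4 (t : F) (c : chevD4.Idx → F) :
    (chevD4.xMat F (15 : Fin 24) t *ᵥ c) (eI 4) = c (eI 4) :=
  congrFun (helper34_d4mv15 t c) (Sum.inr (4 : Fin 24))

theorem a34_p15e5 (t : F) (c : chevD4.Idx → F) :
    (chevD4.xMat F (15 : Fin 24) t *ᵥ c) (eI 5) = -(t * c (eI 3)) + c (eI 5) :=
  congrFun (helper34_d4mv15 t c) (Sum.inr (5 : Fin 24))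

theorem a34_p15e6 (t : F) (c : chevD4.Idx → F) :
    (chevD4.xMat F (15 : Fin 24) t *ᵥ c) (eI 6) = c (eI 6) :=
  congrFun (helper34_d4mv15 t c) (Sum.inr (6 : Fin 24))

theorem a34_p15e7 (t : F) (c : chevD4.Idx → F) :
    (chevD4.xMat F (15 : Fin 24) t *ᵥ c) (eI 7) = c (eI 7) :=
  congrFun (helper34_d4mv15 t c) (Sum.inr (7 : Fin 24))

theorem a34_p15e8 (t : F) (c : chevD4.Idx → F) :
    (chevD4.xMat F (15 : Fin 24) t *ᵥ c) (eI 8) = c (eI 8) :=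
  congrFun (helper34_d4mv15 t c) (Sum.inr (8 : Fin 24))

theorem a34_p15e9 (t : F) (c : chevD4.Idx → F) :
    (chevD4.xMat F (15 : Fin 24) t *ᵥ c) (eI 9) = c (eI 9) :=
  congrFun (helper34_d4mv15 t c) (Sum.inr (9 : Fin 24))

theorem a34_p15e10 (t : F) (c : chevD4.Idx → F) :
    (chevD4.xMat F (15 : Fin 24) t *ᵥ c) (eI 10) = t * c (eI 6) + c (eI 10) :=
  congrFun (helper34_d4mv15 t c) (Sum.inr (10 : Fin 24))

theorem a34_p15e11 (t : F) (c : chevD4.Idx → F) :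
    (chevD4.xMat F (15 : Fin 24) t *ᵥ c) (eI 11) = c (eI 11) :=
  congrFun (helper34_d4mv15 t c) (Sum.inr (11 : Fin 24))

theorem a34_p15e12 (t : F) (c : chevD4.Idx → F) :
    (chevD4.xMat F (15 : Fin 24) t *ᵥ c) (eI 12) = t * c (eI 9) + c (eI 12) :=
  congrFun (helper34_d4mv15 t c) (Sum.inr (12 : Fin 24))

theorem a34_p15e13 (t : F) (c : chevD4.Idx → F) :
    (chevD4.xMat F (15 : Fin 24) t *ᵥ c) (eI 13) = c (eI 13) :=
  congrFun (helper34_d4mv15 t c) (Sum.inr (13 : Fin 24))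

theorem a34_p15e14 (t : F) (c : chevD4.Idx → F) :
    (chevD4.xMat F (15 : Fin 24) t *ᵥ c) (eI 14) = -(t * c (eI 11)) + c (eI 14) :=
  congrFun (helper34_d4mv15 t c) (Sum.inr (14 : Fin 24))

theorem a34_p15e15 (t : F) (c : chevD4.Idx → F) :
    (chevD4.xMat F (15 : Fin 24) t *ᵥ c) (eI 15) = t * c (hI 0) + -(t * c (hI 1)) + t * c (hI 2) + -(t * c (hI 3)) + -(t ^ 2 * c (eI 8)) + c (eI 15) :=
  congrFun (helper34_d4mv15 t c) (Sum.inr (15 : Fin 24))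

theorem a34_p15e16 (t : F) (c : chevD4.Idx → F) :
    (chevD4.xMat F (15 : Fin 24) t *ᵥ c) (eI 16) = c (eI 16) :=
  congrFun (helper34_d4mv15 t c) (Sum.inr (16 : Fin 24))

theorem a34_p15e17 (t : F) (c : chevD4.Idx → F) :
    (chevD4.xMat F (15 : Fin 24) t *ᵥ c) (eI 17) = -(t * c (eI 13)) + c (eI 17) :=
  congrFun (helper34_d4mv15 t c) (Sum.inr (17 : Fin 24))

theorem a34_p15e18 (t : F) (c : chevD4.Idx → F) :
    (chevD4.xMat F (15 : Fin 24) t *ᵥ c) (eI 18) = c (eI 18) :=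
  congrFun (helper34_d4mv15 t c) (Sum.inr (18 : Fin 24))

theorem a34_p15e19 (t : F) (c : chevD4.Idx → F) :
    (chevD4.xMat F (15 : Fin 24) t *ᵥ c) (eI 19) = c (eI 19) :=
  congrFun (helper34_d4mv15 t c) (Sum.inr (19 : Fin 24))

theorem a34_p15e20 (t : F) (c : chevD4.Idx → F) :
    (chevD4.xMat F (15 : Fin 24) t *ᵥ c) (eI 20) = t * c (eI 18) + c (eI 20) :=
  congrFun (helper34_d4mv15 t c) (Sum.inr (20 : Fin 24))

theorem a34_p15e21 (t : F) (c : chevD4.Idx → F) :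
    (chevD4.xMat F (15 : Fin 24) t *ᵥ c) (eI 21) = c (eI 21) :=
  congrFun (helper34_d4mv15 t c) (Sum.inr (21 : Fin 24))

theorem a34_p15e22 (t : F) (c : chevD4.Idx → F) :
    (chevD4.xMat F (15 : Fin 24) t *ᵥ c) (eI 22) = c (eI 22) :=
  congrFun (helper34_d4mv15 t c) (Sum.inr (22 : Fin 24))

theorem a34_p15e23 (t : F) (c : chevD4.Idx → F) :
    (chevD4.xMat F (15 : Fin 24) t *ᵥ c) (eI 23) = -(t * c (eI 21)) + c (eI 23) :=
  congrFun (helper34_d4mv15 t c) (Sum.inr (23 : Fin 24))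

set_option maxHeartbeats 40000000 in
theorem ad_rel_15 (t : F) (c : chevD4.Idx → F) :
    X8 15 t * Lmap c = Lmap (chevD4.xMat F (15 : Fin 24) t *ᵥ c) * X8 15 t := by
  simp only [Lmap, a34_p15h0, a34_p15h1, a34_p15h2, a34_p15h3, a34_p15e0, a34_p15e1, a34_p15e2, a34_p15e3, a34_p15e4, a34_p15e5, a34_p15e6, a34_p15e7, a34_p15e8, a34_p15e9, a34_p15e10, a34_p15e11, a34_p15e12, a34_p15e13, a34_p15e14, a34_p15e15, a34_p15e16, a34_p15e17, a34_p15e18, a34_p15e19, a34_p15e20, a34_p15e21, a34_p15e22, a34_p15e23]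
  ext i j
  fin_cases i <;> fin_cases j <;>
    simp [X8, Matrix.mul_apply, Fin.sum_univ_succ] <;> ring

theorem a34_p16h0 (t : F) (c : chevD4.Idx → F) :
    (chevD4.xMat F (16 : Fin 24) t *ᵥ c) (hI 0) = c (hI 0) :=
  congrFun (helper34_d4mv16 t c) (Sum.inl (0 : Fin 4))

theorem a34_p16h1 (t : F) (c : chevD4.Idx → F) :
    (chevD4.xMat F (16 : Fin 24) t *ᵥ c) (hI 1) = c (hI 1) + t * c (eI 7) :=
  congrFun (helper34_d4mv16 t c) (Sum.inl (1 : Fin 4))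

theorem a34_p16h2 (t : F) (c : chevD4.Idx → F) :
    (chevD4.xMat F (16 : Fin 24) t *ᵥ c) (hI 2) = c (hI 2) + t * c (eI 7) :=
  congrFun (helper34_d4mv16 t c) (Sum.inl (2 : Fin 4))

theorem a34_p16h3 (t : F) (c : chevD4.Idx → F) :
    (chevD4.xMat F (16 : Fin 24) t *ᵥ c) (hI 3) = c (hI 3) :=
  congrFun (helper34_d4mv16 t c) (Sum.inl (3 : Fin 4))

theorem a34_p16e0 (t : F) (c : chevD4.Idx → F) :
    (chevD4.xMat F (16 : Fin 24) t *ᵥ c) (eI 0) = c (eI 0) :=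
  congrFun (helper34_d4mv16 t c) (Sum.inr (0 : Fin 24))

theorem a34_p16e1 (t : F) (c : chevD4.Idx → F) :
    (chevD4.xMat F (16 : Fin 24) t *ᵥ c) (eI 1) = c (eI 1) :=
  congrFun (helper34_d4mv16 t c) (Sum.inr (1 : Fin 24))

theorem a34_p16e2 (t : F) (c : chevD4.Idx → F) :
    (chevD4.xMat F (16 : Fin 24) t *ᵥ c) (eI 2) = c (eI 2) :=
  congrFun (helper34_d4mv16 t c) (Sum.inr (2 : Fin 24))

theorem a34_p16e3 (t : F) (c : chevD4.Idx → F) :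
    (chevD4.xMat F (16 : Fin 24) t *ᵥ c) (eI 3) = t * c (eI 0) + c (eI 3) :=
  congrFun (helper34_d4mv16 t c) (Sum.inr (3 : Fin 24))

theorem a34_p16e4 (t : F) (c : chevD4.Idx → F) :
    (chevD4.xMat F (16 : Fin 24) t *ᵥ c) (eI 4) = c (eI 4) :=
  congrFun (helper34_d4mv16 t c) (Sum.inr (4 : Fin 24))

theorem a34_p16e5 (t : F) (c : chevD4.Idx → F) :
    (chevD4.xMat F (16 : Fin 24) t *ᵥ c) (eI 5) = -(t * c (eI 2)) + c (eI 5) :=
  congrFun (helper34_d4mv16 t c) (Sum.inr (5 : Fin 24))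

theorem a34_p16e6 (t : F) (c : chevD4.Idx → F) :
    (chevD4.xMat F (16 : Fin 24) t *ᵥ c) (eI 6) = c (eI 6) :=
  congrFun (helper34_d4mv16 t c) (Sum.inr (6 : Fin 24))

theorem a34_p16e7 (t : F) (c : chevD4.Idx → F) :
    (chevD4.xMat F (16 : Fin 24) t *ᵥ c) (eI 7) = c (eI 7) :=
  congrFun (helper34_d4mv16 t c) (Sum.inr (7 : Fin 24))

theorem a34_p16e8 (t : F) (c : chevD4.Idx → F) :
    (chevD4.xMat F (16 : Fin 24) t *ᵥ c) (eI 8) = c (eI 8) :=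
  congrFun (helper34_d4mv16 t c) (Sum.inr (8 : Fin 24))

theorem a34_p16e9 (t : F) (c : chevD4.Idx → F) :
    (chevD4.xMat F (16 : Fin 24) t *ᵥ c) (eI 9) = c (eI 9) :=
  congrFun (helper34_d4mv16 t c) (Sum.inr (9 : Fin 24))

theorem a34_p16e10 (t : F) (c : chevD4.Idx → F) :
    (chevD4.xMat F (16 : Fin 24) t *ᵥ c) (eI 10) = c (eI 10) :=
  congrFun (helper34_d4mv16 t c) (Sum.inr (10 : Fin 24))

theorem a34_p16e11 (t : F) (c : chevD4.Idx → F) :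
    (chevD4.xMat F (16 : Fin 24) t *ᵥ c) (eI 11) = t * c (eI 6) + c (eI 11) :=
  congrFun (helper34_d4mv16 t c) (Sum.inr (11 : Fin 24))

theorem a34_p16e12 (t : F) (c : chevD4.Idx → F) :
    (chevD4.xMat F (16 : Fin 24) t *ᵥ c) (eI 12) = c (eI 12) :=
  congrFun (helper34_d4mv16 t c) (Sum.inr (12 : Fin 24))

theorem a34_p16e13 (t : F) (c : chevD4.Idx → F) :
    (chevD4.xMat F (16 : Fin 24) t *ᵥ c) (eI 13) = t * c (eI 9) + c (eI 13) :=
  congrFun (helper34_d4mv16 t c) (Sum.inr (13 : Fin 24))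

theorem a34_p16e14 (t : F) (c : chevD4.Idx → F) :
    (chevD4.xMat F (16 : Fin 24) t *ᵥ c) (eI 14) = -(t * c (eI 10)) + c (eI 14) :=
  congrFun (helper34_d4mv16 t c) (Sum.inr (14 : Fin 24))

theorem a34_p16e15 (t : F) (c : chevD4.Idx → F) :
    (chevD4.xMat F (16 : Fin 24) t *ᵥ c) (eI 15) = c (eI 15) :=
  congrFun (helper34_d4mv16 t c) (Sum.inr (15 : Fin 24))

theorem a34_p16e16 (t : F) (c : chevD4.Idx → F) :
    (chevD4.xMat F (16 : Fin 24) t *ᵥ c) (eI 16) = t * c (hI 0) + -(t * c (hI 1)) + -(t * c (hI 2)) + t * c (hI 3) + -(t ^ 2 * c (eI 7)) + c (eI 16) :=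
  congrFun (helper34_d4mv16 t c) (Sum.inr (16 : Fin 24))

theorem a34_p16e17 (t : F) (c : chevD4.Idx → F) :
    (chevD4.xMat F (16 : Fin 24) t *ᵥ c) (eI 17) = -(t * c (eI 12)) + c (eI 17) :=
  congrFun (helper34_d4mv16 t c) (Sum.inr (17 : Fin 24))

theorem a34_p16e18 (t : F) (c : chevD4.Idx → F) :
    (chevD4.xMat F (16 : Fin 24) t *ᵥ c) (eI 18) = c (eI 18) :=
  congrFun (helper34_d4mv16 t c) (Sum.inr (18 : Fin 24))

theorem a34_p16e19 (t : F) (c : chevD4.Idx → F) :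
    (chevD4.xMat F (16 : Fin 24) t *ᵥ c) (eI 19) = c (eI 19) :=
  congrFun (helper34_d4mv16 t c) (Sum.inr (19 : Fin 24))

theorem a34_p16e20 (t : F) (c : chevD4.Idx → F) :
    (chevD4.xMat F (16 : Fin 24) t *ᵥ c) (eI 20) = c (eI 20) :=
  congrFun (helper34_d4mv16 t c) (Sum.inr (20 : Fin 24))

theorem a34_p16e21 (t : F) (c : chevD4.Idx → F) :
    (chevD4.xMat F (16 : Fin 24) t *ᵥ c) (eI 21) = t * c (eI 18) + c (eI 21) :=
  congrFun (helper34_d4mv16 t c) (Sum.inr (21 : Fin 24))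

theorem a34_p16e22 (t : F) (c : chevD4.Idx → F) :
    (chevD4.xMat F (16 : Fin 24) t *ᵥ c) (eI 22) = c (eI 22) :=
  congrFun (helper34_d4mv16 t c) (Sum.inr (22 : Fin 24))

theorem a34_p16e23 (t : F) (c : chevD4.Idx → F) :
    (chevD4.xMat F (16 : Fin 24) t *ᵥ c) (eI 23) = -(t * c (eI 20)) + c (eI 23) :=
  congrFun (helper34_d4mv16 t c) (Sum.inr (23 : Fin 24))

set_option maxHeartbeats 40000000 in
theorem ad_rel_16 (t : F) (c : chevD4.Idx → F) :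
    X8 16 t * Lmap c = Lmap (chevD4.xMat F (16 : Fin 24) t *ᵥ c) * X8 16 t := by
  simp only [Lmap, a34_p16h0, a34_p16h1, a34_p16h2, a34_p16h3, a34_p16e0, a34_p16e1, a34_p16e2, a34_p16e3, a34_p16e4, a34_p16e5, a34_p16e6, a34_p16e7, a34_p16e8, a34_p16e9, a34_p16e10, a34_p16e11, a34_p16e12, a34_p16e13, a34_p16e14, a34_p16e15, a34_p16e16, a34_p16e17, a34_p16e18, a34_p16e19, a34_p16e20, a34_p16e21, a34_p16e22, a34_p16e23]
  ext i j
  fin_cases i <;> fin_cases j <;>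
    simp [X8, Matrix.mul_apply, Fin.sum_univ_succ] <;> ring

theorem a34_p17h0 (t : F) (c : chevD4.Idx → F) :
    (chevD4.xMat F (17 : Fin 24) t *ᵥ c) (hI 0) = c (hI 0) :=
  congrFun (helper34_d4mv17 t c) (Sum.inl (0 : Fin 4))

theorem a34_p17h1 (t : F) (c : chevD4.Idx → F) :
    (chevD4.xMat F (17 : Fin 24) t *ᵥ c) (hI 1) = c (hI 1) + t * c (eI 6) :=
  congrFun (helper34_d4mv17 t c) (Sum.inl (1 : Fin 4))

theorem a34_p17h2 (t : F) (c : chevD4.Idx → F) :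
    (chevD4.xMat F (17 : Fin 24) t *ᵥ c) (hI 2) = c (hI 2) + t * c (eI 6) :=
  congrFun (helper34_d4mv17 t c) (Sum.inl (2 : Fin 4))

theorem a34_p17h3 (t : F) (c : chevD4.Idx → F) :
    (chevD4.xMat F (17 : Fin 24) t *ᵥ c) (hI 3) = c (hI 3) + t * c (eI 6) :=
  congrFun (helper34_d4mv17 t c) (Sum.inl (3 : Fin 4))

theorem a34_p17e0 (t : F) (c : chevD4.Idx → F) :
    (chevD4.xMat F (17 : Fin 24) t *ᵥ c) (eI 0) = c (eI 0) :=
  congrFun (helper34_d4mv17 t c) (Sum.inr (0 : Fin 24))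

theorem a34_p17e1 (t : F) (c : chevD4.Idx → F) :
    (chevD4.xMat F (17 : Fin 24) t *ᵥ c) (eI 1) = c (eI 1) :=
  congrFun (helper34_d4mv17 t c) (Sum.inr (1 : Fin 24))

theorem a34_p17e2 (t : F) (c : chevD4.Idx → F) :
    (chevD4.xMat F (17 : Fin 24) t *ᵥ c) (eI 2) = c (eI 2) :=
  congrFun (helper34_d4mv17 t c) (Sum.inr (2 : Fin 24))

theorem a34_p17e3 (t : F) (c : chevD4.Idx → F) :
    (chevD4.xMat F (17 : Fin 24) t *ᵥ c) (eI 3) = c (eI 3) :=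
  congrFun (helper34_d4mv17 t c) (Sum.inr (3 : Fin 24))

theorem a34_p17e4 (t : F) (c : chevD4.Idx → F) :
    (chevD4.xMat F (17 : Fin 24) t *ᵥ c) (eI 4) = -(t * c (eI 0)) + c (eI 4) :=
  congrFun (helper34_d4mv17 t c) (Sum.inr (4 : Fin 24))

theorem a34_p17e5 (t : F) (c : chevD4.Idx → F) :
    (chevD4.xMat F (17 : Fin 24) t *ᵥ c) (eI 5) = -(t * c (eI 1)) + c (eI 5) :=
  congrFun (helper34_d4mv17 t c) (Sum.inr (5 : Fin 24))

theorem a34_p17e6 (t : F) (c : chevD4.Idx → F) :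
    (chevD4.xMat F (17 : Fin 24) t *ᵥ c) (eI 6) = c (eI 6) :=
  congrFun (helper34_d4mv17 t c) (Sum.inr (6 : Fin 24))

theorem a34_p17e7 (t : F) (c : chevD4.Idx → F) :
    (chevD4.xMat F (17 : Fin 24) t *ᵥ c) (eI 7) = c (eI 7) :=
  congrFun (helper34_d4mv17 t c) (Sum.inr (7 : Fin 24))

theorem a34_p17e8 (t : F) (c : chevD4.Idx → F) :
    (chevD4.xMat F (17 : Fin 24) t *ᵥ c) (eI 8) = c (eI 8) :=
  congrFun (helper34_d4mv17 t c) (Sum.inr (8 : Fin 24))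

theorem a34_p17e9 (t : F) (c : chevD4.Idx → F) :
    (chevD4.xMat F (17 : Fin 24) t *ᵥ c) (eI 9) = c (eI 9) :=
  congrFun (helper34_d4mv17 t c) (Sum.inr (9 : Fin 24))

theorem a34_p17e10 (t : F) (c : chevD4.Idx → F) :
    (chevD4.xMat F (17 : Fin 24) t *ᵥ c) (eI 10) = c (eI 10) :=
  congrFun (helper34_d4mv17 t c) (Sum.inr (10 : Fin 24))

theorem a34_p17e11 (t : F) (c : chevD4.Idx → F) :
    (chevD4.xMat F (17 : Fin 24) t *ᵥ c) (eI 11) = c (eI 11) :=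
  congrFun (helper34_d4mv17 t c) (Sum.inr (11 : Fin 24))

theorem a34_p17e12 (t : F) (c : chevD4.Idx → F) :
    (chevD4.xMat F (17 : Fin 24) t *ᵥ c) (eI 12) = t * c (eI 7) + c (eI 12) :=
  congrFun (helper34_d4mv17 t c) (Sum.inr (12 : Fin 24))

theorem a34_p17e13 (t : F) (c : chevD4.Idx → F) :
    (chevD4.xMat F (17 : Fin 24) t *ᵥ c) (eI 13) = t * c (eI 8) + c (eI 13) :=
  congrFun (helper34_d4mv17 t c) (Sum.inr (13 : Fin 24))

theorem a34_p17e14 (t : F) (c : chevD4.Idx → F) :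
    (chevD4.xMat F (17 : Fin 24) t *ᵥ c) (eI 14) = c (eI 14) :=
  congrFun (helper34_d4mv17 t c) (Sum.inr (14 : Fin 24))

theorem a34_p17e15 (t : F) (c : chevD4.Idx → F) :
    (chevD4.xMat F (17 : Fin 24) t *ᵥ c) (eI 15) = -(t * c (eI 10)) + c (eI 15) :=
  congrFun (helper34_d4mv17 t c) (Sum.inr (15 : Fin 24))

theorem a34_p17e16 (t : F) (c : chevD4.Idx → F) :
    (chevD4.xMat F (17 : Fin 24) t *ᵥ c) (eI 16) = -(t * c (eI 11)) + c (eI 16) :=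
  congrFun (helper34_d4mv17 t c) (Sum.inr (16 : Fin 24))

theorem a34_p17e17 (t : F) (c : chevD4.Idx → F) :
    (chevD4.xMat F (17 : Fin 24) t *ᵥ c) (eI 17) = t * c (hI 0) + -(t * c (hI 2)) + -(t * c (hI 3)) + -(t ^ 2 * c (eI 6)) + c (eI 17) :=
  congrFun (helper34_d4mv17 t c) (Sum.inr (17 : Fin 24))

theorem a34_p17e18 (t : F) (c : chevD4.Idx → F) :
    (chevD4.xMat F (17 : Fin 24) t *ᵥ c) (eI 18) = c (eI 18) :=
  congrFun (helper34_d4mv17 t c) (Sum.inr (18 : Fin 24))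

theorem a34_p17e19 (t : F) (c : chevD4.Idx → F) :
    (chevD4.xMat F (17 : Fin 24) t *ᵥ c) (eI 19) = c (eI 19) :=
  congrFun (helper34_d4mv17 t c) (Sum.inr (19 : Fin 24))

theorem a34_p17e20 (t : F) (c : chevD4.Idx → F) :
    (chevD4.xMat F (17 : Fin 24) t *ᵥ c) (eI 20) = c (eI 20) :=
  congrFun (helper34_d4mv17 t c) (Sum.inr (20 : Fin 24))

theorem a34_p17e21 (t : F) (c : chevD4.Idx → F) :
    (chevD4.xMat F (17 : Fin 24) t *ᵥ c) (eI 21) = c (eI 21) :=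
  congrFun (helper34_d4mv17 t c) (Sum.inr (21 : Fin 24))

theorem a34_p17e22 (t : F) (c : chevD4.Idx → F) :
    (chevD4.xMat F (17 : Fin 24) t *ᵥ c) (eI 22) = t * c (eI 18) + c (eI 22) :=
  congrFun (helper34_d4mv17 t c) (Sum.inr (22 : Fin 24))

theorem a34_p17e23 (t : F) (c : chevD4.Idx → F) :
    (chevD4.xMat F (17 : Fin 24) t *ᵥ c) (eI 23) = t * c (eI 19) + c (eI 23) :=
  congrFun (helper34_d4mv17 t c) (Sum.inr (23 : Fin 24))

set_option maxHeartbeats 40000000 in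
theorem ad_rel_17 (t : F) (c : chevD4.Idx → F) :
    X8 17 t * Lmap c = Lmap (chevD4.xMat F (17 : Fin 24) t *ᵥ c) * X8 17 t := by
  simp only [Lmap, a34_p17h0, a34_p17h1, a34_p17h2, a34_p17h3, a34_p17e0, a34_p17e1, a34_p17e2, a34_p17e3, a34_p17e4, a34_p17e5, a34_p17e6, a34_p17e7, a34_p17e8, a34_p17e9, a34_p17e10, a34_p17e11, a34_p17e12, a34_p17e13, a34_p17e14, a34_p17e15, a34_p17e16, a34_p17e17, a34_p17e18, a34_p17e19, a34_p17e20, a34_p17e21, a34_p17e22, a34_p17e23]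
  ext i j
  fin_cases i <;> fin_cases j <;>
    simp [X8, Matrix.mul_apply, Fin.sum_univ_succ] <;> ring

end Cfsg.Agent.Lib.helper34.D4
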