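import Cfsg.Agent.Lib.helper34.D4MVBase

/-! Explicit form of the root elements `chevD4.xMat F r t` applied to a coordinate vector
(generated by helper34 from the Prelude tables; used for the adjoint relation of S1082). -/

set_option autoImplicit false

namespace Cfsg.Agent.Lib.helper34.ChevD4MV

open Matrix Cfsg Cfsg.Lie

variable {F : Type*} [Field F]

set_option maxHeartbeats 40000000 in
theorem helper34_d4mv18 (t : F) (c : Fin 4 ⊕ Fin 24 → F) :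
    chevD4.xMat F (18 : Fin 24) t *ᵥ c =
      Sum.elim ![c (Sum.inl 0) + t * c (Sum.inr 5), c (Sum.inl 1), c (Sum.inl 2), c (Sum.inl 3)]
        ![c (Sum.inr 0), c (Sum.inr 1), c (Sum.inr 2), c (Sum.inr 3), c (Sum.inr 4), c (Sum.inr 5), t * c (Sum.inr 1) + c (Sum.inr 6), t * c (Sum.inr 2) + c (Sum.inr 7), t * c (Sum.inr 3) + c (Sum.inr 8), t * c (Sum.inr 4) + c (Sum.inr 9), c (Sum.inr 10), c (Sum.inr 11), c (Sum.inr 12), c (Sum.inr 13), c (Sum.inr 14), c (Sum.inr 15), c (Sum.inr 16), c (Sum.inr 17), (-2) * t * c (Sum.inl 0) + t * c (Sum.inl 1) + -(t ^ 2 * c (Sum.inr 5)) + c (Sum.inr 18), -(t * c (Sum.inr 14)) + c (Sum.inr 19), -(t * c (Sum.inr 15)) + c (Sum.inr 20), -(t * c (Sum.inr 16)) + c (Sum.inr 21), -(t * c (Sum.inr 17)) + c (Sum.inr 22), c (Sum.inr 23)] := by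
  refine funext fun (i : Fin 4 ⊕ Fin 24) => ?_
  show (∑ j : Fin 4 ⊕ Fin 24, chevD4.xMat F (18 : Fin 24) t i j * c j) = _
  rw [Fintype.sum_sum_type]
  simp only [Fin.sum_univ_succ, Fin.sum_univ_zero]
  rcases i with i | i <;> fin_cases i <;>
    simp only [helper34_d4x_ll, helper34_d4x_rl, helper34_d4x_lr, helper34_d4x_rr] <;>
    simp [chevD4, chevD4NegIdx, chevD4Chain, chevD4Chain18,
      ChevalleyDatum.chainCoeff, chevD4Coroot, chevD4CartanSR] <;> ring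

set_option maxHeartbeats 40000000 in
theorem helper34_d4mv19 (t : F) (c : Fin 4 ⊕ Fin 24 → F) :
    chevD4.xMat F (19 : Fin 24) t *ᵥ c =
      Sum.elim ![c (Sum.inl 0) + t * c (Sum.inr 4), c (Sum.inl 1) + t * c (Sum.inr 4), c (Sum.inl 2), c (Sum.inl 3)]
        ![c (Sum.inr 0), c (Sum.inr 1), c (Sum.inr 2), c (Sum.inr 3), c (Sum.inr 4), c (Sum.inr 5), t * c (Sum.inr 0) + c (Sum.inr 6), c (Sum.inr 7), c (Sum.inr 8), c (Sum.inr 9), t * c (Sum.inr 2) + c (Sum.inr 10), t * c (Sum.inr 3) + c (Sum.inr 11), c (Sum.inr 12), c (Sum.inr 13), t * c (Sum.inr 5) + c (Sum.inr 14), c (Sum.inr 15), c (Sum.inr 16), c (Sum.inr 17), -(t * c (Sum.inr 9)) + c (Sum.inr 18), -(t * c (Sum.inl 0)) + -(t * c (Sum.inl 1)) + t * c (Sum.inl 2) + t * c (Sum.inl 3) + -(t ^ 2 * c (Sum.inr 4)) + c (Sum.inr 19), -(t * c (Sum.inr 12)) + c (Sum.inr 20), -(t * c (Sum.inr 13)) + c (Sum.inr 21), c (Sum.inr 22), -(t * c (Sum.inr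 17)) + c (Sum.inr 23)] := by
  refine funext fun (i : Fin 4 ⊕ Fin 24) => ?_
  show (∑ j : Fin 4 ⊕ Fin 24, chevD4.xMat F (19 : Fin 24) t i j * c j) = _
  rw [Fintype.sum_sum_type]
  simp only [Fin.sum_univ_succ, Fin.sum_univ_zero]
  rcases i with i | i <;> fin_cases i <;>
    simp only [helper34_d4x_ll, helper34_d4x_rl, helper34_d4x_lr, helper34_d4x_rr] <;>
    simp [chevD4, chevD4NegIdx, chevD4Chain, chevD4Chain19,
      ChevalleyDatum.chainCoeff, chevD4Coroot, chevD4CartanSR] <;> ring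

set_option maxHeartbeats 40000000 in
theorem helper34_d4mv20 (t : F) (c : Fin 4 ⊕ Fin 24 → F) :
    chevD4.xMat F (20 : Fin 24) t *ᵥ c =
      Sum.elim ![c (Sum.inl 0) + t * c (Sum.inr 3), c (Sum.inl 1) + t * c (Sum.inr 3), c (Sum.inl 2), c (Sum.inl 3) + t * c (Sum.inr 3)]
        ![c (Sum.inr 0), c (Sum.inr 1), c (Sum.inr 2), c (Sum.inr 3), c (Sum.inr 4), c (Sum.inr 5), c (Sum.inr 6), -(t * c (Sum.inr 0)) + c (Sum.inr 7), c (Sum.inr 8), c (Sum.inr 9), t * c (Sum.inr 1) + c (Sum.inr 10), c (Sum.inr 11), t * c (Sum.inr 4) + c (Sum.inr 12), c (Sum.inr 13), c (Sum.inr 14), t * c (Sum.inr 5) + c (Sum.inr 15), c (Sum.inr 16), c (Sum.inr 17), -(t * c (Sum.inr 8)) + c (Sum.inr 18), -(t * c (Sum.inr 11)) + c (Sum.inr 19), -(t * c (Sum.inl 0)) + t * c (Sum.inl 2) + -(t * c (Sum.inl 3)) + -(t ^ 2 * c (Sum.inr 3)) + c (Sum.inr 20), c (Sum.inr 21), -(t * c (Sum.inr 13)) + c (Sum.inr 22), t * c (Sum.inr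 16) + c (Sum.inr 23)] := by
  refine funext fun (i : Fin 4 ⊕ Fin 24) => ?_
  show (∑ j : Fin 4 ⊕ Fin 24, chevD4.xMat F (20 : Fin 24) t i j * c j) = _
  rw [Fintype.sum_sum_type]
  simp only [Fin.sum_univ_succ, Fin.sum_univ_zero]
  rcases i with i | i <;> fin_cases i <;>
    simp only [helper34_d4x_ll, helper34_d4x_rl, helper34_d4x_lr, helper34_d4x_rr] <;>
    simp [chevD4, chevD4NegIdx, chevD4Chain, chevD4Chain20,
      ChevalleyDatum.chainCoeff, chevD4Coroot, chevD4CartanSR] <;> ring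

set_option maxHeartbeats 40000000 in
theorem helper34_d4mv21 (t : F) (c : Fin 4 ⊕ Fin 24 → F) :
    chevD4.xMat F (21 : Fin 24) t *ᵥ c =
      Sum.elim ![c (Sum.inl 0) + t * c (Sum.inr 2), c (Sum.inl 1) + t * c (Sum.inr 2), c (Sum.inl 2) + t * c (Sum.inr 2), c (Sum.inl 3)]
        ![c (Sum.inr 0), c (Sum.inr 1), c (Sum.inr 2), c (Sum.inr 3), c (Sum.inr 4), c (Sum.inr 5), c (Sum.inr 6), c (Sum.inr 7), -(t * c (Sum.inr 0)) + c (Sum.inr 8), c (Sum.inr 9), c (Sum.inr 10), t * c (Sum.inr 1) + c (Sum.inr 11), c (Sum.inr 12), t * c (Sum.inr 4) + c (Sum.inr 13), c (Sum.inr 14), c (Sum.inr 15), t * c (Sum.inr 5) + c (Sum.inr 16), c (Sum.inr 17), -(t * c (Sum.inr 7)) + c (Sum.inr 18), -(t * c (Sum.inr 10)) + c (Sum.inr 19), c (Sum.inr 20), -(t * c (Sum.inl 0)) + -(t * c (Sum.inl 2)) + t * c (Sum.inl 3) + -(t ^ 2 * c (Sum.inr 2)) + c (Sum.inr 21), -(t * c (Sum.inr 12)) + c (Sum.inr 22), t * c (Sum.inr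 15) + c (Sum.inr 23)] := by
  refine funext fun (i : Fin 4 ⊕ Fin 24) => ?_
  show (∑ j : Fin 4 ⊕ Fin 24, chevD4.xMat F (21 : Fin 24) t i j * c j) = _
  rw [Fintype.sum_sum_type]
  simp only [Fin.sum_univ_succ, Fin.sum_univ_zero]
  rcases i with i | i <;> fin_cases i <;>
    simp only [helper34_d4x_ll, helper34_d4x_rl, helper34_d4x_lr, helper34_d4x_rr] <;>
    simp [chevD4, chevD4NegIdx, chevD4Chain, chevD4Chain21,
      ChevalleyDatum.chainCoeff, chevD4Coroot, chevD4CartanSR] <;> ring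

set_option maxHeartbeats 40000000 in
theorem helper34_d4mv22 (t : F) (c : Fin 4 ⊕ Fin 24 → F) :
    chevD4.xMat F (22 : Fin 24) t *ᵥ c =
      Sum.elim ![c (Sum.inl 0) + t * c (Sum.inr 1), c (Sum.inl 1) + t * c (Sum.inr 1), c (Sum.inl 2) + t * c (Sum.inr 1), c (Sum.inl 3) + t * c (Sum.inr 1)]
        ![c (Sum.inr 0), c (Sum.inr 1), c (Sum.inr 2), c (Sum.inr 3), c (Sum.inr 4), c (Sum.inr 5), c (Sum.inr 6), c (Sum.inr 7), c (Sum.inr 8), t * c (Sum.inr 0) + c (Sum.inr 9), c (Sum.inr 10), c (Sum.inr 11), t * c (Sum.inr 2) + c (Sum.inr 12), t * c (Sum.inr 3) + c (Sum.inr 13), c (Sum.inr 14), c (Sum.inr 15), c (Sum.inr 16), t * c (Sum.inr 5) + c (Sum.inr 17), -(t * c (Sum.inr 6)) + c (Sum.inr 18), c (Sum.inr 19), -(t * c (Sum.inr 10)) + c (Sum.inr 20), -(t * c (Sum.inr 11)) + c (Sum.inr 21), -(t * c (Sum.inl 0)) + t * c (Sum.inl 1) + -(t * c (Sum.inl 2)) + -(t * c (Sum.inl 3)) + -(t ^ 2 *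 c (Sum.inr 1)) + c (Sum.inr 22), -(t * c (Sum.inr 14)) + c (Sum.inr 23)] := by
  refine funext fun (i : Fin 4 ⊕ Fin 24) => ?_
  show (∑ j : Fin 4 ⊕ Fin 24, chevD4.xMat F (22 : Fin 24) t i j * c j) = _
  rw [Fintype.sum_sum_type]
  simp only [Fin.sum_univ_succ, Fin.sum_univ_zero]
  rcases i with i | i <;> fin_cases i <;>
    simp only [helper34_d4x_ll, helper34_d4x_rl, helper34_d4x_lr, helper34_d4x_rr] <;>
    simp [chevD4, chevD4NegIdx, chevD4Chain, chevD4Chain22,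
      ChevalleyDatum.chainCoeff, chevD4Coroot, chevD4CartanSR] <;> ring

set_option maxHeartbeats 40000000 in
theorem helper34_d4mv23 (t : F) (c : Fin 4 ⊕ Fin 24 → F) :
    chevD4.xMat F (23 : Fin 24) t *ᵥ c =
      Sum.elim ![c (Sum.inl 0) + t * c (Sum.inr 0), c (Sum.inl 1) + (2) * t * c (Sum.inr 0), c (Sum.inl 2) + t * c (Sum.inr 0), c (Sum.inl 3) + t * c (Sum.inr 0)]
        ![c (Sum.inr 0), c (Sum.inr 1), c (Sum.inr 2), c (Sum.inr 3), c (Sum.inr 4), c (Sum.inr 5), c (Sum.inr 6), c (Sum.inr 7), c (Sum.inr 8), c (Sum.inr 9), c (Sum.inr 10), c (Sum.inr 11), c (Sum.inr 12), c (Sum.inr 13), t * c (Sum.inr 1) + c (Sum.inr 14), -(t * c (Sum.inr 2)) + c (Sum.inr 15), -(t * c (Sum.inr 3)) + c (Sum.inr 16), t * c (Sum.inr 4) + c (Sum.inr 17), c (Sum.inr 18), -(t * c (Sum.inr 6)) + c (Sum.inr 19), t * c (Sum.inr 7) + c (Sum.inr 20), t * c (Sum.inr 8) + c (Sum.inr 21), -(t * c (Sum.inr 9)) +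 c (Sum.inr 22), -(t * c (Sum.inl 1)) + -(t ^ 2 * c (Sum.inr 0)) + c (Sum.inr 23)] := by
  refine funext fun (i : Fin 4 ⊕ Fin 24) => ?_
  show (∑ j : Fin 4 ⊕ Fin 24, chevD4.xMat F (23 : Fin 24) t i j * c j) = _
  rw [Fintype.sum_sum_type]
  simp only [Fin.sum_univ_succ, Fin.sum_univ_zero]
  rcases i with i | i <;> fin_cases i <;>
    simp only [helper34_d4x_ll, helper34_d4x_rl, helper34_d4x_lr, helper34_d4x_rr] <;>
    simp [chevD4, chevD4NegIdx, chevD4Chain, chevD4Chain23,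
      ChevalleyDatum.chainCoeff, chevD4Coroot, chevD4CartanSR] <;> ring

end Cfsg.Agent.Lib.helper34.ChevD4MV
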