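import Cfsg.Agent.Lib.helper95.D4Defs
import Cfsg.Agent.Lib.helper34.D4MV3

/-! S1082 pieces A18..A23: the adjoint relation `X8 r t * Lmap c = Lmap (chevD4.xMat F r t *ᵥ c) * X8 r t`
for the D4 root elements in `so₈` (helper34, generated from the Prelude tables). -/

set_option autoImplicit false

namespace Cfsg.Agent.Lib.helper34.D4

open Matrix Cfsg Cfsg.Lie Cfsg.Agent.Lib.helper95.D4 Cfsg.Agent.Lib.helper34.ChevD4MV

variable {F : Type*} [Field F]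

theorem a34_p18h0 (t : F) (c : chevD4.Idx → F) :
    (chevD4.xMat F (18 : Fin 24) t *ᵥ c) (hI 0) = c (hI 0) + t * c (eI 5) :=
  congrFun (helper34_d4mv18 t c) (Sum.inl (0 : Fin 4))

theorem a34_p18h1 (t : F) (c : chevD4.Idx → F) :
    (chevD4.xMat F (18 : Fin 24) t *ᵥ c) (hI 1) = c (hI 1) :=
  congrFun (helper34_d4mv18 t c) (Sum.inl (1 : Fin 4))

theorem a34_p18h2 (t : F) (c : chevD4.Idx → F) :
    (chevD4.xMat F (18 : Fin 24) t *ᵥ c) (hI 2) = c (hI 2) :=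
  congrFun (helper34_d4mv18 t c) (Sum.inl (2 : Fin 4))

theorem a34_p18h3 (t : F) (c : chevD4.Idx → F) :
    (chevD4.xMat F (18 : Fin 24) t *ᵥ c) (hI 3) = c (hI 3) :=
  congrFun (helper34_d4mv18 t c) (Sum.inl (3 : Fin 4))

theorem a34_p18e0 (t : F) (c : chevD4.Idx → F) :
    (chevD4.xMat F (18 : Fin 24) t *ᵥ c) (eI 0) = c (eI 0) :=
  congrFun (helper34_d4mv18 t c) (Sum.inr (0 : Fin 24))

theorem a34_p18e1 (t : F) (c : chevD4.Idx → F) :
    (chevD4.xMat F (18 : Fin 24) t *ᵥ c) (eI 1) = c (eI 1) :=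
  congrFun (helper34_d4mv18 t c) (Sum.inr (1 : Fin 24))

theorem a34_p18e2 (t : F) (c : chevD4.Idx → F) :
    (chevD4.xMat F (18 : Fin 24) t *ᵥ c) (eI 2) = c (eI 2) :=
  congrFun (helper34_d4mv18 t c) (Sum.inr (2 : Fin 24))

theorem a34_p18e3 (t : F) (c : chevD4.Idx → F) :
    (chevD4.xMat F (18 : Fin 24) t *ᵥ c) (eI 3) = c (eI 3) :=
  congrFun (helper34_d4mv18 t c) (Sum.inr (3 : Fin 24))

theorem a34_p18e4 (t : F) (c : chevD4.Idx → F) :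
    (chevD4.xMat F (18 : Fin 24) t *ᵥ c) (eI 4) = c (eI 4) :=
  congrFun (helper34_d4mv18 t c) (Sum.inr (4 : Fin 24))

theorem a34_p18e5 (t : F) (c : chevD4.Idx → F) :
    (chevD4.xMat F (18 : Fin 24) t *ᵥ c) (eI 5) = c (eI 5) :=
  congrFun (helper34_d4mv18 t c) (Sum.inr (5 : Fin 24))

theorem a34_p18e6 (t : F) (c : chevD4.Idx → F) :
    (chevD4.xMat F (18 : Fin 24) t *ᵥ c) (eI 6) = t * c (eI 1) + c (eI 6) :=
  congrFun (helper34_d4mv18 t c) (Sum.inr (6 : Fin 24))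

theorem a34_p18e7 (t : F) (c : chevD4.Idx → F) :
    (chevD4.xMat F (18 : Fin 24) t *ᵥ c) (eI 7) = t * c (eI 2) + c (eI 7) :=
  congrFun (helper34_d4mv18 t c) (Sum.inr (7 : Fin 24))

theorem a34_p18e8 (t : F) (c : chevD4.Idx → F) :
    (chevD4.xMat F (18 : Fin 24) t *ᵥ c) (eI 8) = t * c (eI 3) + c (eI 8) :=
  congrFun (helper34_d4mv18 t c) (Sum.inr (8 : Fin 24))

theorem a34_p18e9 (t : F) (c : chevD4.Idx → F) :
    (chevD4.xMat F (18 : Fin 24) t *ᵥ c) (eI 9) = t * c (eI 4) + c (eI 9) :=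
  congrFun (helper34_d4mv18 t c) (Sum.inr (9 : Fin 24))

theorem a34_p18e10 (t : F) (c : chevD4.Idx → F) :
    (chevD4.xMat F (18 : Fin 24) t *ᵥ c) (eI 10) = c (eI 10) :=
  congrFun (helper34_d4mv18 t c) (Sum.inr (10 : Fin 24))

theorem a34_p18e11 (t : F) (c : chevD4.Idx → F) :
    (chevD4.xMat F (18 : Fin 24) t *ᵥ c) (eI 11) = c (eI 11) :=
  congrFun (helper34_d4mv18 t c) (Sum.inr (11 : Fin 24))

theorem a34_p18e12 (t : F) (c : chevD4.Idx → F) :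
    (chevD4.xMat F (18 : Fin 24) t *ᵥ c) (eI 12) = c (eI 12) :=
  congrFun (helper34_d4mv18 t c) (Sum.inr (12 : Fin 24))

theorem a34_p18e13 (t : F) (c : chevD4.Idx → F) :
    (chevD4.xMat F (18 : Fin 24) t *ᵥ c) (eI 13) = c (eI 13) :=
  congrFun (helper34_d4mv18 t c) (Sum.inr (13 : Fin 24))

theorem a34_p18e14 (t : F) (c : chevD4.Idx → F) :
    (chevD4.xMat F (18 : Fin 24) t *ᵥ c) (eI 14) = c (eI 14) :=
  congrFun (helper34_d4mv18 t c) (Sum.inr (14 : Fin 24))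

theorem a34_p18e15 (t : F) (c : chevD4.Idx → F) :
    (chevD4.xMat F (18 : Fin 24) t *ᵥ c) (eI 15) = c (eI 15) :=
  congrFun (helper34_d4mv18 t c) (Sum.inr (15 : Fin 24))

theorem a34_p18e16 (t : F) (c : chevD4.Idx → F) :
    (chevD4.xMat F (18 : Fin 24) t *ᵥ c) (eI 16) = c (eI 16) :=
  congrFun (helper34_d4mv18 t c) (Sum.inr (16 : Fin 24))

theorem a34_p18e17 (t : F) (c : chevD4.Idx → F) :
    (chevD4.xMat F (18 : Fin 24) t *ᵥ c) (eI 17) = c (eI 17) :=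
  congrFun (helper34_d4mv18 t c) (Sum.inr (17 : Fin 24))

theorem a34_p18e18 (t : F) (c : chevD4.Idx → F) :
    (chevD4.xMat F (18 : Fin 24) t *ᵥ c) (eI 18) = (-2) * t * c (hI 0) + t * c (hI 1) + -(t ^ 2 * c (eI 5)) + c (eI 18) :=
  congrFun (helper34_d4mv18 t c) (Sum.inr (18 : Fin 24))

theorem a34_p18e19 (t : F) (c : chevD4.Idx → F) :
    (chevD4.xMat F (18 : Fin 24) t *ᵥ c) (eI 19) = -(t * c (eI 14)) + c (eI 19) :=
  congrFun (helper34_d4mv18 t c) (Sum.inr (19 : Fin 24))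

theorem a34_p18e20 (t : F) (c : chevD4.Idx → F) :
    (chevD4.xMat F (18 : Fin 24) t *ᵥ c) (eI 20) = -(t * c (eI 15)) + c (eI 20) :=
  congrFun (helper34_d4mv18 t c) (Sum.inr (20 : Fin 24))

theorem a34_p18e21 (t : F) (c : chevD4.Idx → F) :
    (chevD4.xMat F (18 : Fin 24) t *ᵥ c) (eI 21) = -(t * c (eI 16)) + c (eI 21) :=
  congrFun (helper34_d4mv18 t c) (Sum.inr (21 : Fin 24))

theorem a34_p18e22 (t : F) (c : chevD4.Idx → F) :
    (chevD4.xMat F (18 : Fin 24) t *ᵥ c) (eI 22) = -(t * c (eI 17)) + c (eI 22) :=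
  congrFun (helper34_d4mv18 t c) (Sum.inr (22 : Fin 24))

theorem a34_p18e23 (t : F) (c : chevD4.Idx → F) :
    (chevD4.xMat F (18 : Fin 24) t *ᵥ c) (eI 23) = c (eI 23) :=
  congrFun (helper34_d4mv18 t c) (Sum.inr (23 : Fin 24))

set_option maxHeartbeats 40000000 in
theorem ad_rel_18 (t : F) (c : chevD4.Idx → F) :
    X8 18 t * Lmap c = Lmap (chevD4.xMat F (18 : Fin 24) t *ᵥ c) * X8 18 t := by
  simp only [Lmap, a34_p18h0, a34_p18h1, a34_p18h2, a34_p18h3, a34_p18e0, a34_p18e1, a34_p18e2, a34_p18e3, a34_p18e4, a34_p18e5, a34_p18e6, a34_p18e7, a34_p18e8, a34_p18e9, a34_p18e10, a34_p18e11, a34_p18e12, a34_p18e13, a34_p18e14, a34_p18e15, a34_p18e16, a34_p18e17, a34_p18e18, a34_p18e19, a34_p18e20, a34_p18e21, a34_p18e22, a34_p18e23]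
  ext i j
  fin_cases i <;> fin_cases j <;>
    simp [X8, Matrix.mul_apply, Fin.sum_univ_succ] <;> ring

theorem a34_p19h0 (t : F) (c : chevD4.Idx → F) :
    (chevD4.xMat F (19 : Fin 24) t *ᵥ c) (hI 0) = c (hI 0) + t * c (eI 4) :=
  congrFun (helper34_d4mv19 t c) (Sum.inl (0 : Fin 4))

theorem a34_p19h1 (t : F) (c : chevD4.Idx → F) :
    (chevD4.xMat F (19 : Fin 24) t *ᵥ c) (hI 1) = c (hI 1) + t * c (eI 4) :=
  congrFun (helper34_d4mv19 t c) (Sum.inl (1 : Fin 4))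

theorem a34_p19h2 (t : F) (c : chevD4.Idx → F) :
    (chevD4.xMat F (19 : Fin 24) t *ᵥ c) (hI 2) = c (hI 2) :=
  congrFun (helper34_d4mv19 t c) (Sum.inl (2 : Fin 4))

theorem a34_p19h3 (t : F) (c : chevD4.Idx → F) :
    (chevD4.xMat F (19 : Fin 24) t *ᵥ c) (hI 3) = c (hI 3) :=
  congrFun (helper34_d4mv19 t c) (Sum.inl (3 : Fin 4))

theorem a34_p19e0 (t : F) (c : chevD4.Idx → F) :
    (chevD4.xMat F (19 : Fin 24) t *ᵥ c) (eI 0) = c (eI 0) :=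
  congrFun (helper34_d4mv19 t c) (Sum.inr (0 : Fin 24))

theorem a34_p19e1 (t : F) (c : chevD4.Idx → F) :
    (chevD4.xMat F (19 : Fin 24) t *ᵥ c) (eI 1) = c (eI 1) :=
  congrFun (helper34_d4mv19 t c) (Sum.inr (1 : Fin 24))

theorem a34_p19e2 (t : F) (c : chevD4.Idx → F) :
    (chevD4.xMat F (19 : Fin 24) t *ᵥ c) (eI 2) = c (eI 2) :=
  congrFun (helper34_d4mv19 t c) (Sum.inr (2 : Fin 24))

theorem a34_p19e3 (t : F) (c : chevD4.Idx → F) :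
    (chevD4.xMat F (19 : Fin 24) t *ᵥ c) (eI 3) = c (eI 3) :=
  congrFun (helper34_d4mv19 t c) (Sum.inr (3 : Fin 24))

theorem a34_p19e4 (t : F) (c : chevD4.Idx → F) :
    (chevD4.xMat F (19 : Fin 24) t *ᵥ c) (eI 4) = c (eI 4) :=
  congrFun (helper34_d4mv19 t c) (Sum.inr (4 : Fin 24))

theorem a34_p19e5 (t : F) (c : chevD4.Idx → F) :
    (chevD4.xMat F (19 : Fin 24) t *ᵥ c) (eI 5) = c (eI 5) :=
  congrFun (helper34_d4mv19 t c) (Sum.inr (5 : Fin 24))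

theorem a34_p19e6 (t : F) (c : chevD4.Idx → F) :
    (chevD4.xMat F (19 : Fin 24) t *ᵥ c) (eI 6) = t * c (eI 0) + c (eI 6) :=
  congrFun (helper34_d4mv19 t c) (Sum.inr (6 : Fin 24))

theorem a34_p19e7 (t : F) (c : chevD4.Idx → F) :
    (chevD4.xMat F (19 : Fin 24) t *ᵥ c) (eI 7) = c (eI 7) :=
  congrFun (helper34_d4mv19 t c) (Sum.inr (7 : Fin 24))

theorem a34_p19e8 (t : F) (c : chevD4.Idx → F) :
    (chevD4.xMat F (19 : Fin 24) t *ᵥ c) (eI 8) = c (eI 8) :=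
  congrFun (helper34_d4mv19 t c) (Sum.inr (8 : Fin 24))

theorem a34_p19e9 (t : F) (c : chevD4.Idx → F) :
    (chevD4.xMat F (19 : Fin 24) t *ᵥ c) (eI 9) = c (eI 9) :=
  congrFun (helper34_d4mv19 t c) (Sum.inr (9 : Fin 24))

theorem a34_p19e10 (t : F) (c : chevD4.Idx → F) :
    (chevD4.xMat F (19 : Fin 24) t *ᵥ c) (eI 10) = t * c (eI 2) + c (eI 10) :=
  congrFun (helper34_d4mv19 t c) (Sum.inr (10 : Fin 24))

theorem a34_p19e11 (t : F) (c : chevD4.Idx → F) :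
    (chevD4.xMat F (19 : Fin 24) t *ᵥ c) (eI 11) = t * c (eI 3) + c (eI 11) :=
  congrFun (helper34_d4mv19 t c) (Sum.inr (11 : Fin 24))

theorem a34_p19e12 (t : F) (c : chevD4.Idx → F) :
    (chevD4.xMat F (19 : Fin 24) t *ᵥ c) (eI 12) = c (eI 12) :=
  congrFun (helper34_d4mv19 t c) (Sum.inr (12 : Fin 24))

theorem a34_p19e13 (t : F) (c : chevD4.Idx → F) :
    (chevD4.xMat F (19 : Fin 24) t *ᵥ c) (eI 13) = c (eI 13) :=
  congrFun (helper34_d4mv19 t c) (Sum.inr (13 : Fin 24))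

theorem a34_p19e14 (t : F) (c : chevD4.Idx → F) :
    (chevD4.xMat F (19 : Fin 24) t *ᵥ c) (eI 14) = t * c (eI 5) + c (eI 14) :=
  congrFun (helper34_d4mv19 t c) (Sum.inr (14 : Fin 24))

theorem a34_p19e15 (t : F) (c : chevD4.Idx → F) :
    (chevD4.xMat F (19 : Fin 24) t *ᵥ c) (eI 15) = c (eI 15) :=
  congrFun (helper34_d4mv19 t c) (Sum.inr (15 : Fin 24))

theorem a34_p19e16 (t : F) (c : chevD4.Idx → F) :
    (chevD4.xMat F (19 : Fin 24) t *ᵥ c) (eI 16) = c (eI 16) :=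
  congrFun (helper34_d4mv19 t c) (Sum.inr (16 : Fin 24))

theorem a34_p19e17 (t : F) (c : chevD4.Idx → F) :
    (chevD4.xMat F (19 : Fin 24) t *ᵥ c) (eI 17) = c (eI 17) :=
  congrFun (helper34_d4mv19 t c) (Sum.inr (17 : Fin 24))

theorem a34_p19e18 (t : F) (c : chevD4.Idx → F) :
    (chevD4.xMat F (19 : Fin 24) t *ᵥ c) (eI 18) = -(t * c (eI 9)) + c (eI 18) :=
  congrFun (helper34_d4mv19 t c) (Sum.inr (18 : Fin 24))

theorem a34_p19e19 (t : F) (c : chevD4.Idx → F) :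
    (chevD4.xMat F (19 : Fin 24) t *ᵥ c) (eI 19) = -(t * c (hI 0)) + -(t * c (hI 1)) + t * c (hI 2) + t * c (hI 3) + -(t ^ 2 * c (eI 4)) + c (eI 19) :=
  congrFun (helper34_d4mv19 t c) (Sum.inr (19 : Fin 24))

theorem a34_p19e20 (t : F) (c : chevD4.Idx → F) :
    (chevD4.xMat F (19 : Fin 24) t *ᵥ c) (eI 20) = -(t * c (eI 12)) + c (eI 20) :=
  congrFun (helper34_d4mv19 t c) (Sum.inr (20 : Fin 24))

theorem a34_p19e21 (t : F) (c : chevD4.Idx → F) :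
    (chevD4.xMat F (19 : Fin 24) t *ᵥ c) (eI 21) = -(t * c (eI 13)) + c (eI 21) :=
  congrFun (helper34_d4mv19 t c) (Sum.inr (21 : Fin 24))

theorem a34_p19e22 (t : F) (c : chevD4.Idx → F) :
    (chevD4.xMat F (19 : Fin 24) t *ᵥ c) (eI 22) = c (eI 22) :=
  congrFun (helper34_d4mv19 t c) (Sum.inr (22 : Fin 24))

theorem a34_p19e23 (t : F) (c : chevD4.Idx → F) :
    (chevD4.xMat F (19 : Fin 24) t *ᵥ c) (eI 23) = -(t * c (eI 17)) + c (eI 23) :=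
  congrFun (helper34_d4mv19 t c) (Sum.inr (23 : Fin 24))

set_option maxHeartbeats 40000000 in
theorem ad_rel_19 (t : F) (c : chevD4.Idx → F) :
    X8 19 t * Lmap c = Lmap (chevD4.xMat F (19 : Fin 24) t *ᵥ c) * X8 19 t := by
  simp only [Lmap, a34_p19h0, a34_p19h1, a34_p19h2, a34_p19h3, a34_p19e0, a34_p19e1, a34_p19e2, a34_p19e3, a34_p19e4, a34_p19e5, a34_p19e6, a34_p19e7, a34_p19e8, a34_p19e9, a34_p19e10, a34_p19e11, a34_p19e12, a34_p19e13, a34_p19e14, a34_p19e15, a34_p19e16, a34_p19e17, a34_p19e18, a34_p19e19, a34_p19e20, a34_p19e21, a34_p19e22, a34_p19e23]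
  ext i j
  fin_cases i <;> fin_cases j <;>
    simp [X8, Matrix.mul_apply, Fin.sum_univ_succ] <;> ring

theorem a34_p20h0 (t : F) (c : chevD4.Idx → F) :
    (chevD4.xMat F (20 : Fin 24) t *ᵥ c) (hI 0) = c (hI 0) + t * c (eI 3) :=
  congrFun (helper34_d4mv20 t c) (Sum.inl (0 : Fin 4))

theorem a34_p20h1 (t : F) (c : chevD4.Idx → F) :
    (chevD4.xMat F (20 : Fin 24) t *ᵥ c) (hI 1) = c (hI 1) + t * c (eI 3) :=
  congrFun (helper34_d4mv20 t c) (Sum.inl (1 : Fin 4))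

theorem a34_p20h2 (t : F) (c : chevD4.Idx → F) :
    (chevD4.xMat F (20 : Fin 24) t *ᵥ c) (hI 2) = c (hI 2) :=
  congrFun (helper34_d4mv20 t c) (Sum.inl (2 : Fin 4))

theorem a34_p20h3 (t : F) (c : chevD4.Idx → F) :
    (chevD4.xMat F (20 : Fin 24) t *ᵥ c) (hI 3) = c (hI 3) + t * c (eI 3) :=
  congrFun (helper34_d4mv20 t c) (Sum.inl (3 : Fin 4))

theorem a34_p20e0 (t : F) (c : chevD4.Idx → F) :
    (chevD4.xMat F (20 : Fin 24) t *ᵥ c) (eI 0) = c (eI 0) :=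
  congrFun (helper34_d4mv20 t c) (Sum.inr (0 : Fin 24))

theorem a34_p20e1 (t : F) (c : chevD4.Idx → F) :
    (chevD4.xMat F (20 : Fin 24) t *ᵥ c) (eI 1) = c (eI 1) :=
  congrFun (helper34_d4mv20 t c) (Sum.inr (1 : Fin 24))

theorem a34_p20e2 (t : F) (c : chevD4.Idx → F) :
    (chevD4.xMat F (20 : Fin 24) t *ᵥ c) (eI 2) = c (eI 2) :=
  congrFun (helper34_d4mv20 t c) (Sum.inr (2 : Fin 24))

theorem a34_p20e3 (t : F) (c : chevD4.Idx → F) :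
    (chevD4.xMat F (20 : Fin 24) t *ᵥ c) (eI 3) = c (eI 3) :=
  congrFun (helper34_d4mv20 t c) (Sum.inr (3 : Fin 24))

theorem a34_p20e4 (t : F) (c : chevD4.Idx → F) :
    (chevD4.xMat F (20 : Fin 24) t *ᵥ c) (eI 4) = c (eI 4) :=
  congrFun (helper34_d4mv20 t c) (Sum.inr (4 : Fin 24))

theorem a34_p20e5 (t : F) (c : chevD4.Idx → F) :
    (chevD4.xMat F (20 : Fin 24) t *ᵥ c) (eI 5) = c (eI 5) :=
  congrFun (helper34_d4mv20 t c) (Sum.inr (5 : Fin 24))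

theorem a34_p20e6 (t : F) (c : chevD4.Idx → F) :
    (chevD4.xMat F (20 : Fin 24) t *ᵥ c) (eI 6) = c (eI 6) :=
  congrFun (helper34_d4mv20 t c) (Sum.inr (6 : Fin 24))

theorem a34_p20e7 (t : F) (c : chevD4.Idx → F) :
    (chevD4.xMat F (20 : Fin 24) t *ᵥ c) (eI 7) = -(t * c (eI 0)) + c (eI 7) :=
  congrFun (helper34_d4mv20 t c) (Sum.inr (7 : Fin 24))

theorem a34_p20e8 (t : F) (c : chevD4.Idx → F) :
    (chevD4.xMat F (20 : Fin 24) t *ᵥ c) (eI 8) = c (eI 8) :=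
  congrFun (helper34_d4mv20 t c) (Sum.inr (8 : Fin 24))

theorem a34_p20e9 (t : F) (c : chevD4.Idx → F) :
    (chevD4.xMat F (20 : Fin 24) t *ᵥ c) (eI 9) = c (eI 9) :=
  congrFun (helper34_d4mv20 t c) (Sum.inr (9 : Fin 24))

theorem a34_p20e10 (t : F) (c : chevD4.Idx → F) :
    (chevD4.xMat F (20 : Fin 24) t *ᵥ c) (eI 10) = t * c (eI 1) + c (eI 10) :=
  congrFun (helper34_d4mv20 t c) (Sum.inr (10 : Fin 24))

theorem a34_p20e11 (t : F) (c : chevD4.Idx → F) :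
    (chevD4.xMat F (20 : Fin 24) t *ᵥ c) (eI 11) = c (eI 11) :=
  congrFun (helper34_d4mv20 t c) (Sum.inr (11 : Fin 24))

theorem a34_p20e12 (t : F) (c : chevD4.Idx → F) :
    (chevD4.xMat F (20 : Fin 24) t *ᵥ c) (eI 12) = t * c (eI 4) + c (eI 12) :=
  congrFun (helper34_d4mv20 t c) (Sum.inr (12 : Fin 24))

theorem a34_p20e13 (t : F) (c : chevD4.Idx → F) :
    (chevD4.xMat F (20 : Fin 24) t *ᵥ c) (eI 13) = c (eI 13) :=
  congrFun (helper34_d4mv20 t c) (Sum.inr (13 : Fin 24))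

theorem a34_p20e14 (t : F) (c : chevD4.Idx → F) :
    (chevD4.xMat F (20 : Fin 24) t *ᵥ c) (eI 14) = c (eI 14) :=
  congrFun (helper34_d4mv20 t c) (Sum.inr (14 : Fin 24))

theorem a34_p20e15 (t : F) (c : chevD4.Idx → F) :
    (chevD4.xMat F (20 : Fin 24) t *ᵥ c) (eI 15) = t * c (eI 5) + c (eI 15) :=
  congrFun (helper34_d4mv20 t c) (Sum.inr (15 : Fin 24))

theorem a34_p20e16 (t : F) (c : chevD4.Idx → F) :
    (chevD4.xMat F (20 : Fin 24) t *ᵥ c) (eI 16) = c (eI 16) :=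
  congrFun (helper34_d4mv20 t c) (Sum.inr (16 : Fin 24))

theorem a34_p20e17 (t : F) (c : chevD4.Idx → F) :
    (chevD4.xMat F (20 : Fin 24) t *ᵥ c) (eI 17) = c (eI 17) :=
  congrFun (helper34_d4mv20 t c) (Sum.inr (17 : Fin 24))

theorem a34_p20e18 (t : F) (c : chevD4.Idx → F) :
    (chevD4.xMat F (20 : Fin 24) t *ᵥ c) (eI 18) = -(t * c (eI 8)) + c (eI 18) :=
  congrFun (helper34_d4mv20 t c) (Sum.inr (18 : Fin 24))

theorem a34_p20e19 (t : F) (c : chevD4.Idx → F) :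
    (chevD4.xMat F (20 : Fin 24) t *ᵥ c) (eI 19) = -(t * c (eI 11)) + c (eI 19) :=
  congrFun (helper34_d4mv20 t c) (Sum.inr (19 : Fin 24))

theorem a34_p20e20 (t : F) (c : chevD4.Idx → F) :
    (chevD4.xMat F (20 : Fin 24) t *ᵥ c) (eI 20) = -(t * c (hI 0)) + t * c (hI 2) + -(t * c (hI 3)) + -(t ^ 2 * c (eI 3)) + c (eI 20) :=
  congrFun (helper34_d4mv20 t c) (Sum.inr (20 : Fin 24))

theorem a34_p20e21 (t : F) (c : chevD4.Idx → F) :
    (chevD4.xMat F (20 : Fin 24) t *ᵥ c) (eI 21) = c (eI 21) :=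
  congrFun (helper34_d4mv20 t c) (Sum.inr (21 : Fin 24))

theorem a34_p20e22 (t : F) (c : chevD4.Idx → F) :
    (chevD4.xMat F (20 : Fin 24) t *ᵥ c) (eI 22) = -(t * c (eI 13)) + c (eI 22) :=
  congrFun (helper34_d4mv20 t c) (Sum.inr (22 : Fin 24))

theorem a34_p20e23 (t : F) (c : chevD4.Idx → F) :
    (chevD4.xMat F (20 : Fin 24) t *ᵥ c) (eI 23) = t * c (eI 16) + c (eI 23) :=
  congrFun (helper34_d4mv20 t c) (Sum.inr (23 : Fin 24))

set_option maxHeartbeats 40000000 in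
theorem ad_rel_20 (t : F) (c : chevD4.Idx → F) :
    X8 20 t * Lmap c = Lmap (chevD4.xMat F (20 : Fin 24) t *ᵥ c) * X8 20 t := by
  simp only [Lmap, a34_p20h0, a34_p20h1, a34_p20h2, a34_p20h3, a34_p20e0, a34_p20e1, a34_p20e2, a34_p20e3, a34_p20e4, a34_p20e5, a34_p20e6, a34_p20e7, a34_p20e8, a34_p20e9, a34_p20e10, a34_p20e11, a34_p20e12, a34_p20e13, a34_p20e14, a34_p20e15, a34_p20e16, a34_p20e17, a34_p20e18, a34_p20e19, a34_p20e20, a34_p20e21, a34_p20e22, a34_p20e23]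
  ext i j
  fin_cases i <;> fin_cases j <;>
    simp [X8, Matrix.mul_apply, Fin.sum_univ_succ] <;> ring

theorem a34_p21h0 (t : F) (c : chevD4.Idx → F) :
    (chevD4.xMat F (21 : Fin 24) t *ᵥ c) (hI 0) = c (hI 0) + t * c (eI 2) :=
  congrFun (helper34_d4mv21 t c) (Sum.inl (0 : Fin 4))

theorem a34_p21h1 (t : F) (c : chevD4.Idx → F) :
    (chevD4.xMat F (21 : Fin 24) t *ᵥ c) (hI 1) = c (hI 1) + t * c (eI 2) :=
  congrFun (helper34_d4mv21 t c) (Sum.inl (1 : Fin 4))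

theorem a34_p21h2 (t : F) (c : chevD4.Idx → F) :
    (chevD4.xMat F (21 : Fin 24) t *ᵥ c) (hI 2) = c (hI 2) + t * c (eI 2) :=
  congrFun (helper34_d4mv21 t c) (Sum.inl (2 : Fin 4))

theorem a34_p21h3 (t : F) (c : chevD4.Idx → F) :
    (chevD4.xMat F (21 : Fin 24) t *ᵥ c) (hI 3) = c (hI 3) :=
  congrFun (helper34_d4mv21 t c) (Sum.inl (3 : Fin 4))

theorem a34_p21e0 (t : F) (c : chevD4.Idx → F) :
    (chevD4.xMat F (21 : Fin 24) t *ᵥ c) (eI 0) = c (eI 0) :=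
  congrFun (helper34_d4mv21 t c) (Sum.inr (0 : Fin 24))

theorem a34_p21e1 (t : F) (c : chevD4.Idx → F) :
    (chevD4.xMat F (21 : Fin 24) t *ᵥ c) (eI 1) = c (eI 1) :=
  congrFun (helper34_d4mv21 t c) (Sum.inr (1 : Fin 24))

theorem a34_p21e2 (t : F) (c : chevD4.Idx → F) :
    (chevD4.xMat F (21 : Fin 24) t *ᵥ c) (eI 2) = c (eI 2) :=
  congrFun (helper34_d4mv21 t c) (Sum.inr (2 : Fin 24))

theorem a34_p21e3 (t : F) (c : chevD4.Idx → F) :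
    (chevD4.xMat F (21 : Fin 24) t *ᵥ c) (eI 3) = c (eI 3) :=
  congrFun (helper34_d4mv21 t c) (Sum.inr (3 : Fin 24))

theorem a34_p21e4 (t : F) (c : chevD4.Idx → F) :
    (chevD4.xMat F (21 : Fin 24) t *ᵥ c) (eI 4) = c (eI 4) :=
  congrFun (helper34_d4mv21 t c) (Sum.inr (4 : Fin 24))

theorem a34_p21e5 (t : F) (c : chevD4.Idx → F) :
    (chevD4.xMat F (21 : Fin 24) t *ᵥ c) (eI 5) = c (eI 5) :=
  congrFun (helper34_d4mv21 t c) (Sum.inr (5 : Fin 24))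

theorem a34_p21e6 (t : F) (c : chevD4.Idx → F) :
    (chevD4.xMat F (21 : Fin 24) t *ᵥ c) (eI 6) = c (eI 6) :=
  congrFun (helper34_d4mv21 t c) (Sum.inr (6 : Fin 24))

theorem a34_p21e7 (t : F) (c : chevD4.Idx → F) :
    (chevD4.xMat F (21 : Fin 24) t *ᵥ c) (eI 7) = c (eI 7) :=
  congrFun (helper34_d4mv21 t c) (Sum.inr (7 : Fin 24))

theorem a34_p21e8 (t : F) (c : chevD4.Idx → F) :
    (chevD4.xMat F (21 : Fin 24) t *ᵥ c) (eI 8) = -(t * c (eI 0)) + c (eI 8) :=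
  congrFun (helper34_d4mv21 t c) (Sum.inr (8 : Fin 24))

theorem a34_p21e9 (t : F) (c : chevD4.Idx → F) :
    (chevD4.xMat F (21 : Fin 24) t *ᵥ c) (eI 9) = c (eI 9) :=
  congrFun (helper34_d4mv21 t c) (Sum.inr (9 : Fin 24))

theorem a34_p21e10 (t : F) (c : chevD4.Idx → F) :
    (chevD4.xMat F (21 : Fin 24) t *ᵥ c) (eI 10) = c (eI 10) :=
  congrFun (helper34_d4mv21 t c) (Sum.inr (10 : Fin 24))

theorem a34_p21e11 (t : F) (c : chevD4.Idx → F) :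
    (chevD4.xMat F (21 : Fin 24) t *ᵥ c) (eI 11) = t * c (eI 1) + c (eI 11) :=
  congrFun (helper34_d4mv21 t c) (Sum.inr (11 : Fin 24))

theorem a34_p21e12 (t : F) (c : chevD4.Idx → F) :
    (chevD4.xMat F (21 : Fin 24) t *ᵥ c) (eI 12) = c (eI 12) :=
  congrFun (helper34_d4mv21 t c) (Sum.inr (12 : Fin 24))

theorem a34_p21e13 (t : F) (c : chevD4.Idx → F) :
    (chevD4.xMat F (21 : Fin 24) t *ᵥ c) (eI 13) = t * c (eI 4) + c (eI 13) :=
  congrFun (helper34_d4mv21 t c) (Sum.inr (13 : Fin 24))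

theorem a34_p21e14 (t : F) (c : chevD4.Idx → F) :
    (chevD4.xMat F (21 : Fin 24) t *ᵥ c) (eI 14) = c (eI 14) :=
  congrFun (helper34_d4mv21 t c) (Sum.inr (14 : Fin 24))

theorem a34_p21e15 (t : F) (c : chevD4.Idx → F) :
    (chevD4.xMat F (21 : Fin 24) t *ᵥ c) (eI 15) = c (eI 15) :=
  congrFun (helper34_d4mv21 t c) (Sum.inr (15 : Fin 24))

theorem a34_p21e16 (t : F) (c : chevD4.Idx → F) :
    (chevD4.xMat F (21 : Fin 24) t *ᵥ c) (eI 16) = t * c (eI 5) + c (eI 16) :=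
  congrFun (helper34_d4mv21 t c) (Sum.inr (16 : Fin 24))

theorem a34_p21e17 (t : F) (c : chevD4.Idx → F) :
    (chevD4.xMat F (21 : Fin 24) t *ᵥ c) (eI 17) = c (eI 17) :=
  congrFun (helper34_d4mv21 t c) (Sum.inr (17 : Fin 24))

theorem a34_p21e18 (t : F) (c : chevD4.Idx → F) :
    (chevD4.xMat F (21 : Fin 24) t *ᵥ c) (eI 18) = -(t * c (eI 7)) + c (eI 18) :=
  congrFun (helper34_d4mv21 t c) (Sum.inr (18 : Fin 24))

theorem a34_p21e19 (t : F) (c : chevD4.Idx → F) :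
    (chevD4.xMat F (21 : Fin 24) t *ᵥ c) (eI 19) = -(t * c (eI 10)) + c (eI 19) :=
  congrFun (helper34_d4mv21 t c) (Sum.inr (19 : Fin 24))

theorem a34_p21e20 (t : F) (c : chevD4.Idx → F) :
    (chevD4.xMat F (21 : Fin 24) t *ᵥ c) (eI 20) = c (eI 20) :=
  congrFun (helper34_d4mv21 t c) (Sum.inr (20 : Fin 24))

theorem a34_p21e21 (t : F) (c : chevD4.Idx → F) :
    (chevD4.xMat F (21 : Fin 24) t *ᵥ c) (eI 21) = -(t * c (hI 0)) + -(t * c (hI 2)) + t * c (hI 3) + -(t ^ 2 * c (eI 2)) + c (eI 21) :=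
  congrFun (helper34_d4mv21 t c) (Sum.inr (21 : Fin 24))

theorem a34_p21e22 (t : F) (c : chevD4.Idx → F) :
    (chevD4.xMat F (21 : Fin 24) t *ᵥ c) (eI 22) = -(t * c (eI 12)) + c (eI 22) :=
  congrFun (helper34_d4mv21 t c) (Sum.inr (22 : Fin 24))

theorem a34_p21e23 (t : F) (c : chevD4.Idx → F) :
    (chevD4.xMat F (21 : Fin 24) t *ᵥ c) (eI 23) = t * c (eI 15) + c (eI 23) :=
  congrFun (helper34_d4mv21 t c) (Sum.inr (23 : Fin 24))

set_option maxHeartbeats 40000000 in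
theorem ad_rel_21 (t : F) (c : chevD4.Idx → F) :
    X8 21 t * Lmap c = Lmap (chevD4.xMat F (21 : Fin 24) t *ᵥ c) * X8 21 t := by
  simp only [Lmap, a34_p21h0, a34_p21h1, a34_p21h2, a34_p21h3, a34_p21e0, a34_p21e1, a34_p21e2, a34_p21e3, a34_p21e4, a34_p21e5, a34_p21e6, a34_p21e7, a34_p21e8, a34_p21e9, a34_p21e10, a34_p21e11, a34_p21e12, a34_p21e13, a34_p21e14, a34_p21e15, a34_p21e16, a34_p21e17, a34_p21e18, a34_p21e19, a34_p21e20, a34_p21e21, a34_p21e22, a34_p21e23]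
  ext i j
  fin_cases i <;> fin_cases j <;>
    simp [X8, Matrix.mul_apply, Fin.sum_univ_succ] <;> ring

theorem a34_p22h0 (t : F) (c : chevD4.Idx → F) :
    (chevD4.xMat F (22 : Fin 24) t *ᵥ c) (hI 0) = c (hI 0) + t * c (eI 1) :=
  congrFun (helper34_d4mv22 t c) (Sum.inl (0 : Fin 4))

theorem a34_p22h1 (t : F) (c : chevD4.Idx → F) :
    (chevD4.xMat F (22 : Fin 24) t *ᵥ c) (hI 1) = c (hI 1) + t * c (eI 1) :=
  congrFun (helper34_d4mv22 t c) (Sum.inl (1 : Fin 4))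

theorem a34_p22h2 (t : F) (c : chevD4.Idx → F) :
    (chevD4.xMat F (22 : Fin 24) t *ᵥ c) (hI 2) = c (hI 2) + t * c (eI 1) :=
  congrFun (helper34_d4mv22 t c) (Sum.inl (2 : Fin 4))

theorem a34_p22h3 (t : F) (c : chevD4.Idx → F) :
    (chevD4.xMat F (22 : Fin 24) t *ᵥ c) (hI 3) = c (hI 3) + t * c (eI 1) :=
  congrFun (helper34_d4mv22 t c) (Sum.inl (3 : Fin 4))

theorem a34_p22e0 (t : F) (c : chevD4.Idx → F) :
    (chevD4.xMat F (22 : Fin 24) t *ᵥ c) (eI 0) = c (eI 0) :=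
  congrFun (helper34_d4mv22 t c) (Sum.inr (0 : Fin 24))

theorem a34_p22e1 (t : F) (c : chevD4.Idx → F) :
    (chevD4.xMat F (22 : Fin 24) t *ᵥ c) (eI 1) = c (eI 1) :=
  congrFun (helper34_d4mv22 t c) (Sum.inr (1 : Fin 24))

theorem a34_p22e2 (t : F) (c : chevD4.Idx → F) :
    (chevD4.xMat F (22 : Fin 24) t *ᵥ c) (eI 2) = c (eI 2) :=
  congrFun (helper34_d4mv22 t c) (Sum.inr (2 : Fin 24))

theorem a34_p22e3 (t : F) (c : chevD4.Idx → F) :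
    (chevD4.xMat F (22 : Fin 24) t *ᵥ c) (eI 3) = c (eI 3) :=
  congrFun (helper34_d4mv22 t c) (Sum.inr (3 : Fin 24))

theorem a34_p22e4 (t : F) (c : chevD4.Idx → F) :
    (chevD4.xMat F (22 : Fin 24) t *ᵥ c) (eI 4) = c (eI 4) :=
  congrFun (helper34_d4mv22 t c) (Sum.inr (4 : Fin 24))

theorem a34_p22e5 (t : F) (c : chevD4.Idx → F) :
    (chevD4.xMat F (22 : Fin 24) t *ᵥ c) (eI 5) = c (eI 5) :=
  congrFun (helper34_d4mv22 t c) (Sum.inr (5 : Fin 24))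

theorem a34_p22e6 (t : F) (c : chevD4.Idx → F) :
    (chevD4.xMat F (22 : Fin 24) t *ᵥ c) (eI 6) = c (eI 6) :=
  congrFun (helper34_d4mv22 t c) (Sum.inr (6 : Fin 24))

theorem a34_p22e7 (t : F) (c : chevD4.Idx → F) :
    (chevD4.xMat F (22 : Fin 24) t *ᵥ c) (eI 7) = c (eI 7) :=
  congrFun (helper34_d4mv22 t c) (Sum.inr (7 : Fin 24))

theorem a34_p22e8 (t : F) (c : chevD4.Idx → F) :
    (chevD4.xMat F (22 : Fin 24) t *ᵥ c) (eI 8) = c (eI 8) :=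
  congrFun (helper34_d4mv22 t c) (Sum.inr (8 : Fin 24))

theorem a34_p22e9 (t : F) (c : chevD4.Idx → F) :
    (chevD4.xMat F (22 : Fin 24) t *ᵥ c) (eI 9) = t * c (eI 0) + c (eI 9) :=
  congrFun (helper34_d4mv22 t c) (Sum.inr (9 : Fin 24))

theorem a34_p22e10 (t : F) (c : chevD4.Idx → F) :
    (chevD4.xMat F (22 : Fin 24) t *ᵥ c) (eI 10) = c (eI 10) :=
  congrFun (helper34_d4mv22 t c) (Sum.inr (10 : Fin 24))

theorem a34_p22e11 (t : F) (c : chevD4.Idx → F) :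
    (chevD4.xMat F (22 : Fin 24) t *ᵥ c) (eI 11) = c (eI 11) :=
  congrFun (helper34_d4mv22 t c) (Sum.inr (11 : Fin 24))

theorem a34_p22e12 (t : F) (c : chevD4.Idx → F) :
    (chevD4.xMat F (22 : Fin 24) t *ᵥ c) (eI 12) = t * c (eI 2) + c (eI 12) :=
  congrFun (helper34_d4mv22 t c) (Sum.inr (12 : Fin 24))

theorem a34_p22e13 (t : F) (c : chevD4.Idx → F) :
    (chevD4.xMat F (22 : Fin 24) t *ᵥ c) (eI 13) = t * c (eI 3) + c (eI 13) :=
  congrFun (helper34_d4mv22 t c) (Sum.inr (13 : Fin 24))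

theorem a34_p22e14 (t : F) (c : chevD4.Idx → F) :
    (chevD4.xMat F (22 : Fin 24) t *ᵥ c) (eI 14) = c (eI 14) :=
  congrFun (helper34_d4mv22 t c) (Sum.inr (14 : Fin 24))

theorem a34_p22e15 (t : F) (c : chevD4.Idx → F) :
    (chevD4.xMat F (22 : Fin 24) t *ᵥ c) (eI 15) = c (eI 15) :=
  congrFun (helper34_d4mv22 t c) (Sum.inr (15 : Fin 24))

theorem a34_p22e16 (t : F) (c : chevD4.Idx → F) :
    (chevD4.xMat F (22 : Fin 24) t *ᵥ c) (eI 16) = c (eI 16) :=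
  congrFun (helper34_d4mv22 t c) (Sum.inr (16 : Fin 24))

theorem a34_p22e17 (t : F) (c : chevD4.Idx → F) :
    (chevD4.xMat F (22 : Fin 24) t *ᵥ c) (eI 17) = t * c (eI 5) + c (eI 17) :=
  congrFun (helper34_d4mv22 t c) (Sum.inr (17 : Fin 24))

theorem a34_p22e18 (t : F) (c : chevD4.Idx → F) :
    (chevD4.xMat F (22 : Fin 24) t *ᵥ c) (eI 18) = -(t * c (eI 6)) + c (eI 18) :=
  congrFun (helper34_d4mv22 t c) (Sum.inr (18 : Fin 24))

theorem a34_p22e19 (t : F) (c : chevD4.Idx → F) :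
    (chevD4.xMat F (22 : Fin 24) t *ᵥ c) (eI 19) = c (eI 19) :=
  congrFun (helper34_d4mv22 t c) (Sum.inr (19 : Fin 24))

theorem a34_p22e20 (t : F) (c : chevD4.Idx → F) :
    (chevD4.xMat F (22 : Fin 24) t *ᵥ c) (eI 20) = -(t * c (eI 10)) + c (eI 20) :=
  congrFun (helper34_d4mv22 t c) (Sum.inr (20 : Fin 24))

theorem a34_p22e21 (t : F) (c : chevD4.Idx → F) :
    (chevD4.xMat F (22 : Fin 24) t *ᵥ c) (eI 21) = -(t * c (eI 11)) + c (eI 21) :=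
  congrFun (helper34_d4mv22 t c) (Sum.inr (21 : Fin 24))

theorem a34_p22e22 (t : F) (c : chevD4.Idx → F) :
    (chevD4.xMat F (22 : Fin 24) t *ᵥ c) (eI 22) = -(t * c (hI 0)) + t * c (hI 1) + -(t * c (hI 2)) + -(t * c (hI 3)) + -(t ^ 2 * c (eI 1)) + c (eI 22) :=
  congrFun (helper34_d4mv22 t c) (Sum.inr (22 : Fin 24))

theorem a34_p22e23 (t : F) (c : chevD4.Idx → F) :
    (chevD4.xMat F (22 : Fin 24) t *ᵥ c) (eI 23) = -(t * c (eI 14)) + c (eI 23) :=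
  congrFun (helper34_d4mv22 t c) (Sum.inr (23 : Fin 24))

set_option maxHeartbeats 40000000 in
theorem ad_rel_22 (t : F) (c : chevD4.Idx → F) :
    X8 22 t * Lmap c = Lmap (chevD4.xMat F (22 : Fin 24) t *ᵥ c) * X8 22 t := by
  simp only [Lmap, a34_p22h0, a34_p22h1, a34_p22h2, a34_p22h3, a34_p22e0, a34_p22e1, a34_p22e2, a34_p22e3, a34_p22e4, a34_p22e5, a34_p22e6, a34_p22e7, a34_p22e8, a34_p22e9, a34_p22e10, a34_p22e11, a34_p22e12, a34_p22e13, a34_p22e14, a34_p22e15, a34_p22e16, a34_p22e17, a34_p22e18, a34_p22e19, a34_p22e20, a34_p22e21, a34_p22e22, a34_p22e23]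
  ext i j
  fin_cases i <;> fin_cases j <;>
    simp [X8, Matrix.mul_apply, Fin.sum_univ_succ] <;> ring

theorem a34_p23h0 (t : F) (c : chevD4.Idx → F) :
    (chevD4.xMat F (23 : Fin 24) t *ᵥ c) (hI 0) = c (hI 0) + t * c (eI 0) :=
  congrFun (helper34_d4mv23 t c) (Sum.inl (0 : Fin 4))

theorem a34_p23h1 (t : F) (c : chevD4.Idx → F) :
    (chevD4.xMat F (23 : Fin 24) t *ᵥ c) (hI 1) = c (hI 1) + (2) * t * c (eI 0) :=
  congrFun (helper34_d4mv23 t c) (Sum.inl (1 : Fin 4))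

theorem a34_p23h2 (t : F) (c : chevD4.Idx → F) :
    (chevD4.xMat F (23 : Fin 24) t *ᵥ c) (hI 2) = c (hI 2) + t * c (eI 0) :=
  congrFun (helper34_d4mv23 t c) (Sum.inl (2 : Fin 4))

theorem a34_p23h3 (t : F) (c : chevD4.Idx → F) :
    (chevD4.xMat F (23 : Fin 24) t *ᵥ c) (hI 3) = c (hI 3) + t * c (eI 0) :=
  congrFun (helper34_d4mv23 t c) (Sum.inl (3 : Fin 4))

theorem a34_p23e0 (t : F) (c : chevD4.Idx → F) :
    (chevD4.xMat F (23 : Fin 24) t *ᵥ c) (eI 0) = c (eI 0) :=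
  congrFun (helper34_d4mv23 t c) (Sum.inr (0 : Fin 24))

theorem a34_p23e1 (t : F) (c : chevD4.Idx → F) :
    (chevD4.xMat F (23 : Fin 24) t *ᵥ c) (eI 1) = c (eI 1) :=
  congrFun (helper34_d4mv23 t c) (Sum.inr (1 : Fin 24))

theorem a34_p23e2 (t : F) (c : chevD4.Idx → F) :
    (chevD4.xMat F (23 : Fin 24) t *ᵥ c) (eI 2) = c (eI 2) :=
  congrFun (helper34_d4mv23 t c) (Sum.inr (2 : Fin 24))

theorem a34_p23e3 (t : F) (c : chevD4.Idx → F) :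
    (chevD4.xMat F (23 : Fin 24) t *ᵥ c) (eI 3) = c (eI 3) :=
  congrFun (helper34_d4mv23 t c) (Sum.inr (3 : Fin 24))

theorem a34_p23e4 (t : F) (c : chevD4.Idx → F) :
    (chevD4.xMat F (23 : Fin 24) t *ᵥ c) (eI 4) = c (eI 4) :=
  congrFun (helper34_d4mv23 t c) (Sum.inr (4 : Fin 24))

theorem a34_p23e5 (t : F) (c : chevD4.Idx → F) :
    (chevD4.xMat F (23 : Fin 24) t *ᵥ c) (eI 5) = c (eI 5) :=
  congrFun (helper34_d4mv23 t c) (Sum.inr (5 : Fin 24))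

theorem a34_p23e6 (t : F) (c : chevD4.Idx → F) :
    (chevD4.xMat F (23 : Fin 24) t *ᵥ c) (eI 6) = c (eI 6) :=
  congrFun (helper34_d4mv23 t c) (Sum.inr (6 : Fin 24))

theorem a34_p23e7 (t : F) (c : chevD4.Idx → F) :
    (chevD4.xMat F (23 : Fin 24) t *ᵥ c) (eI 7) = c (eI 7) :=
  congrFun (helper34_d4mv23 t c) (Sum.inr (7 : Fin 24))

theorem a34_p23e8 (t : F) (c : chevD4.Idx → F) :
    (chevD4.xMat F (23 : Fin 24) t *ᵥ c) (eI 8) = c (eI 8) :=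
  congrFun (helper34_d4mv23 t c) (Sum.inr (8 : Fin 24))

theorem a34_p23e9 (t : F) (c : chevD4.Idx → F) :
    (chevD4.xMat F (23 : Fin 24) t *ᵥ c) (eI 9) = c (eI 9) :=
  congrFun (helper34_d4mv23 t c) (Sum.inr (9 : Fin 24))

theorem a34_p23e10 (t : F) (c : chevD4.Idx → F) :
    (chevD4.xMat F (23 : Fin 24) t *ᵥ c) (eI 10) = c (eI 10) :=
  congrFun (helper34_d4mv23 t c) (Sum.inr (10 : Fin 24))

theorem a34_p23e11 (t : F) (c : chevD4.Idx → F) :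
    (chevD4.xMat F (23 : Fin 24) t *ᵥ c) (eI 11) = c (eI 11) :=
  congrFun (helper34_d4mv23 t c) (Sum.inr (11 : Fin 24))

theorem a34_p23e12 (t : F) (c : chevD4.Idx → F) :
    (chevD4.xMat F (23 : Fin 24) t *ᵥ c) (eI 12) = c (eI 12) :=
  congrFun (helper34_d4mv23 t c) (Sum.inr (12 : Fin 24))

theorem a34_p23e13 (t : F) (c : chevD4.Idx → F) :
    (chevD4.xMat F (23 : Fin 24) t *ᵥ c) (eI 13) = c (eI 13) :=
  congrFun (helper34_d4mv23 t c) (Sum.inr (13 : Fin 24))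

theorem a34_p23e14 (t : F) (c : chevD4.Idx → F) :
    (chevD4.xMat F (23 : Fin 24) t *ᵥ c) (eI 14) = t * c (eI 1) + c (eI 14) :=
  congrFun (helper34_d4mv23 t c) (Sum.inr (14 : Fin 24))

theorem a34_p23e15 (t : F) (c : chevD4.Idx → F) :
    (chevD4.xMat F (23 : Fin 24) t *ᵥ c) (eI 15) = -(t * c (eI 2)) + c (eI 15) :=
  congrFun (helper34_d4mv23 t c) (Sum.inr (15 : Fin 24))

theorem a34_p23e16 (t : F) (c : chevD4.Idx → F) :
    (chevD4.xMat F (23 : Fin 24) t *ᵥ c) (eI 16) = -(t * c (eI 3)) + c (eI 16) :=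
  congrFun (helper34_d4mv23 t c) (Sum.inr (16 : Fin 24))

theorem a34_p23e17 (t : F) (c : chevD4.Idx → F) :
    (chevD4.xMat F (23 : Fin 24) t *ᵥ c) (eI 17) = t * c (eI 4) + c (eI 17) :=
  congrFun (helper34_d4mv23 t c) (Sum.inr (17 : Fin 24))

theorem a34_p23e18 (t : F) (c : chevD4.Idx → F) :
    (chevD4.xMat F (23 : Fin 24) t *ᵥ c) (eI 18) = c (eI 18) :=
  congrFun (helper34_d4mv23 t c) (Sum.inr (18 : Fin 24))

theorem a34_p23e19 (t : F) (c : chevD4.Idx → F) :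
    (chevD4.xMat F (23 : Fin 24) t *ᵥ c) (eI 19) = -(t * c (eI 6)) + c (eI 19) :=
  congrFun (helper34_d4mv23 t c) (Sum.inr (19 : Fin 24))

theorem a34_p23e20 (t : F) (c : chevD4.Idx → F) :
    (chevD4.xMat F (23 : Fin 24) t *ᵥ c) (eI 20) = t * c (eI 7) + c (eI 20) :=
  congrFun (helper34_d4mv23 t c) (Sum.inr (20 : Fin 24))

theorem a34_p23e21 (t : F) (c : chevD4.Idx → F) :
    (chevD4.xMat F (23 : Fin 24) t *ᵥ c) (eI 21) = t * c (eI 8) + c (eI 21) :=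
  congrFun (helper34_d4mv23 t c) (Sum.inr (21 : Fin 24))

theorem a34_p23e22 (t : F) (c : chevD4.Idx → F) :
    (chevD4.xMat F (23 : Fin 24) t *ᵥ c) (eI 22) = -(t * c (eI 9)) + c (eI 22) :=
  congrFun (helper34_d4mv23 t c) (Sum.inr (22 : Fin 24))

theorem a34_p23e23 (t : F) (c : chevD4.Idx → F) :
    (chevD4.xMat F (23 : Fin 24) t *ᵥ c) (eI 23) = -(t * c (hI 1)) + -(t ^ 2 * c (eI 0)) + c (eI 23) :=
  congrFun (helper34_d4mv23 t c) (Sum.inr (23 : Fin 24))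

set_option maxHeartbeats 40000000 in
theorem ad_rel_23 (t : F) (c : chevD4.Idx → F) :
    X8 23 t * Lmap c = Lmap (chevD4.xMat F (23 : Fin 24) t *ᵥ c) * X8 23 t := by
  simp only [Lmap, a34_p23h0, a34_p23h1, a34_p23h2, a34_p23h3, a34_p23e0, a34_p23e1, a34_p23e2, a34_p23e3, a34_p23e4, a34_p23e5, a34_p23e6, a34_p23e7, a34_p23e8, a34_p23e9, a34_p23e10, a34_p23e11, a34_p23e12, a34_p23e13, a34_p23e14, a34_p23e15, a34_p23e16, a34_p23e17, a34_p23e18, a34_p23e19, a34_p23e20, a34_p23e21, a34_p23e22, a34_p23e23]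
  ext i j
  fin_cases i <;> fin_cases j <;>
    simp [X8, Matrix.mul_apply, Fin.sum_univ_succ] <;> ring

end Cfsg.Agent.Lib.helper34.D4
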