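import Cfsg.Agent.Lib.helper34.D4A0
import Cfsg.Agent.Lib.helper34.D4A1
import Cfsg.Agent.Lib.helper34.D4A2
import Cfsg.Agent.Lib.helper34.D4A3

/-! S1082 pieces A0..A23 (umbrella): `ad_rel_0 .. ad_rel_23` and the uniform statement `ad_rel` (helper34). -/

set_option autoImplicit false

namespace Cfsg.Agent.Lib.helper34.D4

open Matrix Cfsg Cfsg.Lie Cfsg.Agent.Lib.helper95.D4

variable {F : Type*} [Field F]

/-- all 24 roots at once -/
theorem ad_rel (r : Fin 24) (t : F) (c : chevD4.Idx → F) :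
    X8 r t * Lmap c = Lmap (chevD4.xMat F r t *ᵥ c) * X8 r t := by
  fin_cases r
  · exact ad_rel_0 t c
  · exact ad_rel_1 t c
  · exact ad_rel_2 t c
  · exact ad_rel_3 t c
  · exact ad_rel_4 t c
  · exact ad_rel_5 t c
  · exact ad_rel_6 t c
  · exact ad_rel_7 t c
  · exact ad_rel_8 t c
  · exact ad_rel_9 t c
  · exact ad_rel_10 t c
  · exact ad_rel_11 t c
  · exact ad_rel_12 t c
  · exact ad_rel_13 t c
  · exact ad_rel_14 t c
  · exact ad_rel_15 t c
  · exact ad_rel_16 t c
  · exact ad_rel_17 t c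
  · exact ad_rel_18 t c
  · exact ad_rel_19 t c
  · exact ad_rel_20 t c
  · exact ad_rel_21 t c
  · exact ad_rel_22 t c
  · exact ad_rel_23 t c

end Cfsg.Agent.Lib.helper34.D4
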