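import Cfsg.Agent.Lib.helper34.D4MVBase

/-! Explicit form of the root elements `chevD4.xMat F r t` applied to a coordinate vector
(generated by helper34 from the Prelude tables; used for the adjoint relation of S1082). -/

set_option autoImplicit false

namespace Cfsg.Agent.Lib.helper34.ChevD4MV

open Matrix Cfsg Cfsg.Lie

variable {F : Type*} [Field F]

set_option maxHeartbeats 40000000 in
theorem helper34_d4mv0 (t : F) (c : Fin 4 ⊕ Fin 24 → F) :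
    chevD4.xMat F (0 : Fin 24) t *ᵥ c =
      Sum.elim ![c (Sum.inl 0) + -(t * c (Sum.inr 23)), c (Sum.inl 1) + (-2) * t * c (Sum.inr 23), c (Sum.inl 2) + -(t * c (Sum.inr 23)), c (Sum.inl 3) + -(t * c (Sum.inr 23))]
        ![t * c (Sum.inl 1) + c (Sum.inr 0) + -(t ^ 2 * c (Sum.inr 23)), c (Sum.inr 1) + t * c (Sum.inr 14), c (Sum.inr 2) + -(t * c (Sum.inr 15)), c (Sum.inr 3) + -(t * c (Sum.inr 16)), c (Sum.inr 4) + t * c (Sum.inr 17), c (Sum.inr 5), c (Sum.inr 6) + -(t * c (Sum.inr 19)), c (Sum.inr 7) + t * c (Sum.inr 20), c (Sum.inr 8) + t * c (Sum.inr 21), c (Sum.inr 9) + -(t * c (Sum.inr 22)), c (Sum.inr 10), c (Sum.inr 11), c (Sum.inr 12), c (Sum.inr 13), c (Sum.inr 14), c (Sum.inr 15), c (Sum.inr 16), c (Sum.inr 17), c (Sum.inr 18), c (Sum.inr 19), c (Sum.inr 20), c (Sum.inr 21), c (Sum.inr 22), c (Sum.inr 23)] := by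
  refine funext fun (i : Fin 4 ⊕ Fin 24) => ?_
  show (∑ j : Fin 4 ⊕ Fin 24, chevD4.xMat F (0 : Fin 24) t i j * c j) = _
  rw [Fintype.sum_sum_type]
  simp only [Fin.sum_univ_succ, Fin.sum_univ_zero]
  rcases i with i | i <;> fin_cases i <;>
    simp only [helper34_d4x_ll, helper34_d4x_rl, helper34_d4x_lr, helper34_d4x_rr] <;>
    simp [chevD4, chevD4NegIdx, chevD4Chain, chevD4Chain0,
      ChevalleyDatum.chainCoeff, chevD4Coroot, chevD4CartanSR] <;> ring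

set_option maxHeartbeats 40000000 in
theorem helper34_d4mv1 (t : F) (c : Fin 4 ⊕ Fin 24 → F) :
    chevD4.xMat F (1 : Fin 24) t *ᵥ c =
      Sum.elim ![c (Sum.inl 0) + -(t * c (Sum.inr 22)), c (Sum.inl 1) + -(t * c (Sum.inr 22)), c (Sum.inl 2) + -(t * c (Sum.inr 22)), c (Sum.inl 3) + -(t * c (Sum.inr 22))]
        ![c (Sum.inr 0) + t * c (Sum.inr 9), t * c (Sum.inl 0) + -(t * c (Sum.inl 1)) + t * c (Sum.inl 2) + t * c (Sum.inl 3) + c (Sum.inr 1) + -(t ^ 2 * c (Sum.inr 22)), c (Sum.inr 2) + t * c (Sum.inr 12), c (Sum.inr 3) + t * c (Sum.inr 13), c (Sum.inr 4), c (Sum.inr 5) + t * c (Sum.inr 17), c (Sum.inr 6) + -(t * c (Sum.inr 18)), c (Sum.inr 7), c (Sum.inr 8), c (Sum.inr 9), c (Sum.inr 10) + -(t * c (Sum.inr 20)), c (Sum.inr 11) + -(t * c (Sum.inr 21)), c (Sum.inr 12), c (Sum.inr 13), c (Sum.inr 14) + -(t * c (Sum.inr 23)), c (Sum.inr 15), c (Sum.inr 16), c (Sum.inr 17), c (Sum.inr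 18), c (Sum.inr 19), c (Sum.inr 20), c (Sum.inr 21), c (Sum.inr 22), c (Sum.inr 23)] := by
  refine funext fun (i : Fin 4 ⊕ Fin 24) => ?_
  show (∑ j : Fin 4 ⊕ Fin 24, chevD4.xMat F (1 : Fin 24) t i j * c j) = _
  rw [Fintype.sum_sum_type]
  simp only [Fin.sum_univ_succ, Fin.sum_univ_zero]
  rcases i with i | i <;> fin_cases i <;>
    simp only [helper34_d4x_ll, helper34_d4x_rl, helper34_d4x_lr, helper34_d4x_rr] <;>
    simp [chevD4, chevD4NegIdx, chevD4Chain, chevD4Chain1,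
      ChevalleyDatum.chainCoeff, chevD4Coroot, chevD4CartanSR] <;> ring

set_option maxHeartbeats 40000000 in
theorem helper34_d4mv2 (t : F) (c : Fin 4 ⊕ Fin 24 → F) :
    chevD4.xMat F (2 : Fin 24) t *ᵥ c =
      Sum.elim ![c (Sum.inl 0) + -(t * c (Sum.inr 21)), c (Sum.inl 1) + -(t * c (Sum.inr 21)), c (Sum.inl 2) + -(t * c (Sum.inr 21)), c (Sum.inl 3)]
        ![c (Sum.inr 0) + -(t * c (Sum.inr 8)), c (Sum.inr 1) + t * c (Sum.inr 11), t * c (Sum.inl 0) + t * c (Sum.inl 2) + -(t * c (Sum.inl 3)) + c (Sum.inr 2) + -(t ^ 2 * c (Sum.inr 21)), c (Sum.inr 3), c (Sum.inr 4) + t * c (Sum.inr 13), c (Sum.inr 5) + t * c (Sum.inr 16), c (Sum.inr 6), c (Sum.inr 7) + -(t * c (Sum.inr 18)), c (Sum.inr 8), c (Sum.inr 9), c (Sum.inr 10) + -(t * c (Sum.inr 19)), c (Sum.inr 11), c (Sum.inr 12) + -(t * c (Sum.inr 22)), c (Sum.inr 13), c (Sum.inr 14), c (Sum.inr 15) + t * c (Sum.inr 23), c (Sum.inr 16),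 c (Sum.inr 17), c (Sum.inr 18), c (Sum.inr 19), c (Sum.inr 20), c (Sum.inr 21), c (Sum.inr 22), c (Sum.inr 23)] := by
  refine funext fun (i : Fin 4 ⊕ Fin 24) => ?_
  show (∑ j : Fin 4 ⊕ Fin 24, chevD4.xMat F (2 : Fin 24) t i j * c j) = _
  rw [Fintype.sum_sum_type]
  simp only [Fin.sum_univ_succ, Fin.sum_univ_zero]
  rcases i with i | i <;> fin_cases i <;>
    simp only [helper34_d4x_ll, helper34_d4x_rl, helper34_d4x_lr, helper34_d4x_rr] <;>
    simp [chevD4, chevD4NegIdx, chevD4Chain, chevD4Chain2,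
      ChevalleyDatum.chainCoeff, chevD4Coroot, chevD4CartanSR] <;> ring

set_option maxHeartbeats 40000000 in
theorem helper34_d4mv3 (t : F) (c : Fin 4 ⊕ Fin 24 → F) :
    chevD4.xMat F (3 : Fin 24) t *ᵥ c =
      Sum.elim ![c (Sum.inl 0) + -(t * c (Sum.inr 20)), c (Sum.inl 1) + -(t * c (Sum.inr 20)), c (Sum.inl 2), c (Sum.inl 3) + -(t * c (Sum.inr 20))]
        ![c (Sum.inr 0) + -(t * c (Sum.inr 7)), c (Sum.inr 1) + t * c (Sum.inr 10), c (Sum.inr 2), t * c (Sum.inl 0) + -(t * c (Sum.inl 2)) + t * c (Sum.inl 3) + c (Sum.inr 3) + -(t ^ 2 * c (Sum.inr 20)), c (Sum.inr 4) + t * c (Sum.inr 12), c (Sum.inr 5) + t * c (Sum.inr 15), c (Sum.inr 6), c (Sum.inr 7), c (Sum.inr 8) + -(t * c (Sum.inr 18)), c (Sum.inr 9), c (Sum.inr 10), c (Sum.inr 11) + -(t * c (Sum.inr 19)), c (Sum.inr 12), c (Sum.inr 13) + -(t * c (Sum.inr 22)), c (Sum.inr 14), c (Sum.inr 15), c (Sum.inr 16) + t * c (Sum.inr 23),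 c (Sum.inr 17), c (Sum.inr 18), c (Sum.inr 19), c (Sum.inr 20), c (Sum.inr 21), c (Sum.inr 22), c (Sum.inr 23)] := by
  refine funext fun (i : Fin 4 ⊕ Fin 24) => ?_
  show (∑ j : Fin 4 ⊕ Fin 24, chevD4.xMat F (3 : Fin 24) t i j * c j) = _
  rw [Fintype.sum_sum_type]
  simp only [Fin.sum_univ_succ, Fin.sum_univ_zero]
  rcases i with i | i <;> fin_cases i <;>
    simp only [helper34_d4x_ll, helper34_d4x_rl, helper34_d4x_lr, helper34_d4x_rr] <;>
    simp [chevD4, chevD4NegIdx, chevD4Chain, chevD4Chain3,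
      ChevalleyDatum.chainCoeff, chevD4Coroot, chevD4CartanSR] <;> ring

set_option maxHeartbeats 40000000 in
theorem helper34_d4mv4 (t : F) (c : Fin 4 ⊕ Fin 24 → F) :
    chevD4.xMat F (4 : Fin 24) t *ᵥ c =
      Sum.elim ![c (Sum.inl 0) + -(t * c (Sum.inr 19)), c (Sum.inl 1) + -(t * c (Sum.inr 19)), c (Sum.inl 2), c (Sum.inl 3)]
        ![c (Sum.inr 0) + t * c (Sum.inr 6), c (Sum.inr 1), c (Sum.inr 2) + t * c (Sum.inr 10), c (Sum.inr 3) + t * c (Sum.inr 11), t * c (Sum.inl 0) + t * c (Sum.inl 1) + -(t * c (Sum.inl 2)) + -(t * c (Sum.inl 3)) + c (Sum.inr 4) + -(t ^ 2 * c (Sum.inr 19)), c (Sum.inr 5) + t * c (Sum.inr 14), c (Sum.inr 6), c (Sum.inr 7), c (Sum.inr 8), c (Sum.inr 9) + -(t * c (Sum.inr 18)), c (Sum.inr 10), c (Sum.inr 11), c (Sum.inr 12) + -(t * c (Sum.inr 20)), c (Sum.inr 13) + -(t * c (Sum.inr 21)), c (Sum.inr 14), c (Sum.inr 15), c (Sum.inr 16), c (Sum.inr 17) + -(t * c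 (Sum.inr 23)), c (Sum.inr 18), c (Sum.inr 19), c (Sum.inr 20), c (Sum.inr 21), c (Sum.inr 22), c (Sum.inr 23)] := by
  refine funext fun (i : Fin 4 ⊕ Fin 24) => ?_
  show (∑ j : Fin 4 ⊕ Fin 24, chevD4.xMat F (4 : Fin 24) t i j * c j) = _
  rw [Fintype.sum_sum_type]
  simp only [Fin.sum_univ_succ, Fin.sum_univ_zero]
  rcases i with i | i <;> fin_cases i <;>
    simp only [helper34_d4x_ll, helper34_d4x_rl, helper34_d4x_lr, helper34_d4x_rr] <;>
    simp [chevD4, chevD4NegIdx, chevD4Chain, chevD4Chain4,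
      ChevalleyDatum.chainCoeff, chevD4Coroot, chevD4CartanSR] <;> ring

set_option maxHeartbeats 40000000 in
theorem helper34_d4mv5 (t : F) (c : Fin 4 ⊕ Fin 24 → F) :
    chevD4.xMat F (5 : Fin 24) t *ᵥ c =
      Sum.elim ![c (Sum.inl 0) + -(t * c (Sum.inr 18)), c (Sum.inl 1), c (Sum.inl 2), c (Sum.inl 3)]
        ![c (Sum.inr 0), c (Sum.inr 1) + t * c (Sum.inr 6), c (Sum.inr 2) + t * c (Sum.inr 7), c (Sum.inr 3) + t * c (Sum.inr 8), c (Sum.inr 4) + t * c (Sum.inr 9), (2) * t * c (Sum.inl 0) + -(t * c (Sum.inl 1)) + c (Sum.inr 5) + -(t ^ 2 * c (Sum.inr 18)), c (Sum.inr 6), c (Sum.inr 7), c (Sum.inr 8), c (Sum.inr 9), c (Sum.inr 10), c (Sum.inr 11), c (Sum.inr 12), c (Sum.inr 13), c (Sum.inr 14) + -(t * c (Sum.inr 19)), c (Sum.inr 15) + -(t * c (Sum.inr 20)), c (Sum.inr 16) + -(t * c (Sum.inr 21)), c (Sum.inr 17) + -(t * c (Sum.inr 22)), c (Sum.inr 18), c (Sum.inr 19), c (Sum.inr 20),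 c (Sum.inr 21), c (Sum.inr 22), c (Sum.inr 23)] := by
  refine funext fun (i : Fin 4 ⊕ Fin 24) => ?_
  show (∑ j : Fin 4 ⊕ Fin 24, chevD4.xMat F (5 : Fin 24) t i j * c j) = _
  rw [Fintype.sum_sum_type]
  simp only [Fin.sum_univ_succ, Fin.sum_univ_zero]
  rcases i with i | i <;> fin_cases i <;>
    simp only [helper34_d4x_ll, helper34_d4x_rl, helper34_d4x_lr, helper34_d4x_rr] <;>
    simp [chevD4, chevD4NegIdx, chevD4Chain, chevD4Chain5,
      ChevalleyDatum.chainCoeff, chevD4Coroot, chevD4CartanSR] <;> ring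

end Cfsg.Agent.Lib.helper34.ChevD4MV
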