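import Cfsg.Agent.Lib.helper95.D4Defs
import Cfsg.Agent.Lib.helper34.D4MV0

/-! S1082 pieces A0..A5: the adjoint relation `X8 r t * Lmap c = Lmap (chevD4.xMat F r t *ᵥ c) * X8 r t`
for the D4 root elements in `so₈` (helper34, generated from the Prelude tables). -/

set_option autoImplicit false

namespace Cfsg.Agent.Lib.helper34.D4

open Matrix Cfsg Cfsg.Lie Cfsg.Agent.Lib.helper95.D4 Cfsg.Agent.Lib.helper34.ChevD4MV

variable {F : Type*} [Field F]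

theorem a34_p0h0 (t : F) (c : chevD4.Idx → F) :
    (chevD4.xMat F (0 : Fin 24) t *ᵥ c) (hI 0) = c (hI 0) + -(t * c (eI 23)) :=
  congrFun (helper34_d4mv0 t c) (Sum.inl (0 : Fin 4))

theorem a34_p0h1 (t : F) (c : chevD4.Idx → F) :
    (chevD4.xMat F (0 : Fin 24) t *ᵥ c) (hI 1) = c (hI 1) + (-2) * t * c (eI 23) :=
  congrFun (helper34_d4mv0 t c) (Sum.inl (1 : Fin 4))

theorem a34_p0h2 (t : F) (c : chevD4.Idx → F) :
    (chevD4.xMat F (0 : Fin 24) t *ᵥ c) (hI 2) = c (hI 2) + -(t * c (eI 23)) :=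
  congrFun (helper34_d4mv0 t c) (Sum.inl (2 : Fin 4))

theorem a34_p0h3 (t : F) (c : chevD4.Idx → F) :
    (chevD4.xMat F (0 : Fin 24) t *ᵥ c) (hI 3) = c (hI 3) + -(t * c (eI 23)) :=
  congrFun (helper34_d4mv0 t c) (Sum.inl (3 : Fin 4))

theorem a34_p0e0 (t : F) (c : chevD4.Idx → F) :
    (chevD4.xMat F (0 : Fin 24) t *ᵥ c) (eI 0) = t * c (hI 1) + c (eI 0) + -(t ^ 2 * c (eI 23)) :=
  congrFun (helper34_d4mv0 t c) (Sum.inr (0 : Fin 24))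

theorem a34_p0e1 (t : F) (c : chevD4.Idx → F) :
    (chevD4.xMat F (0 : Fin 24) t *ᵥ c) (eI 1) = c (eI 1) + t * c (eI 14) :=
  congrFun (helper34_d4mv0 t c) (Sum.inr (1 : Fin 24))

theorem a34_p0e2 (t : F) (c : chevD4.Idx → F) :
    (chevD4.xMat F (0 : Fin 24) t *ᵥ c) (eI 2) = c (eI 2) + -(t * c (eI 15)) :=
  congrFun (helper34_d4mv0 t c) (Sum.inr (2 : Fin 24))

theorem a34_p0e3 (t : F) (c : chevD4.Idx → F) :
    (chevD4.xMat F (0 : Fin 24) t *ᵥ c) (eI 3) = c (eI 3) + -(t * c (eI 16)) :=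
  congrFun (helper34_d4mv0 t c) (Sum.inr (3 : Fin 24))

theorem a34_p0e4 (t : F) (c : chevD4.Idx → F) :
    (chevD4.xMat F (0 : Fin 24) t *ᵥ c) (eI 4) = c (eI 4) + t * c (eI 17) :=
  congrFun (helper34_d4mv0 t c) (Sum.inr (4 : Fin 24))

theorem a34_p0e5 (t : F) (c : chevD4.Idx → F) :
    (chevD4.xMat F (0 : Fin 24) t *ᵥ c) (eI 5) = c (eI 5) :=
  congrFun (helper34_d4mv0 t c) (Sum.inr (5 : Fin 24))

theorem a34_p0e6 (t : F) (c : chevD4.Idx → F) :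
    (chevD4.xMat F (0 : Fin 24) t *ᵥ c) (eI 6) = c (eI 6) + -(t * c (eI 19)) :=
  congrFun (helper34_d4mv0 t c) (Sum.inr (6 : Fin 24))

theorem a34_p0e7 (t : F) (c : chevD4.Idx → F) :
    (chevD4.xMat F (0 : Fin 24) t *ᵥ c) (eI 7) = c (eI 7) + t * c (eI 20) :=
  congrFun (helper34_d4mv0 t c) (Sum.inr (7 : Fin 24))

theorem a34_p0e8 (t : F) (c : chevD4.Idx → F) :
    (chevD4.xMat F (0 : Fin 24) t *ᵥ c) (eI 8) = c (eI 8) + t * c (eI 21) :=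
  congrFun (helper34_d4mv0 t c) (Sum.inr (8 : Fin 24))

theorem a34_p0e9 (t : F) (c : chevD4.Idx → F) :
    (chevD4.xMat F (0 : Fin 24) t *ᵥ c) (eI 9) = c (eI 9) + -(t * c (eI 22)) :=
  congrFun (helper34_d4mv0 t c) (Sum.inr (9 : Fin 24))

theorem a34_p0e10 (t : F) (c : chevD4.Idx → F) :
    (chevD4.xMat F (0 : Fin 24) t *ᵥ c) (eI 10) = c (eI 10) :=
  congrFun (helper34_d4mv0 t c) (Sum.inr (10 : Fin 24))

theorem a34_p0e11 (t : F) (c : chevD4.Idx → F) :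
    (chevD4.xMat F (0 : Fin 24) t *ᵥ c) (eI 11) = c (eI 11) :=
  congrFun (helper34_d4mv0 t c) (Sum.inr (11 : Fin 24))

theorem a34_p0e12 (t : F) (c : chevD4.Idx → F) :
    (chevD4.xMat F (0 : Fin 24) t *ᵥ c) (eI 12) = c (eI 12) :=
  congrFun (helper34_d4mv0 t c) (Sum.inr (12 : Fin 24))

theorem a34_p0e13 (t : F) (c : chevD4.Idx → F) :
    (chevD4.xMat F (0 : Fin 24) t *ᵥ c) (eI 13) = c (eI 13) :=
  congrFun (helper34_d4mv0 t c) (Sum.inr (13 : Fin 24))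

theorem a34_p0e14 (t : F) (c : chevD4.Idx → F) :
    (chevD4.xMat F (0 : Fin 24) t *ᵥ c) (eI 14) = c (eI 14) :=
  congrFun (helper34_d4mv0 t c) (Sum.inr (14 : Fin 24))

theorem a34_p0e15 (t : F) (c : chevD4.Idx → F) :
    (chevD4.xMat F (0 : Fin 24) t *ᵥ c) (eI 15) = c (eI 15) :=
  congrFun (helper34_d4mv0 t c) (Sum.inr (15 : Fin 24))

theorem a34_p0e16 (t : F) (c : chevD4.Idx → F) :
    (chevD4.xMat F (0 : Fin 24) t *ᵥ c) (eI 16) = c (eI 16) :=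
  congrFun (helper34_d4mv0 t c) (Sum.inr (16 : Fin 24))

theorem a34_p0e17 (t : F) (c : chevD4.Idx → F) :
    (chevD4.xMat F (0 : Fin 24) t *ᵥ c) (eI 17) = c (eI 17) :=
  congrFun (helper34_d4mv0 t c) (Sum.inr (17 : Fin 24))

theorem a34_p0e18 (t : F) (c : chevD4.Idx → F) :
    (chevD4.xMat F (0 : Fin 24) t *ᵥ c) (eI 18) = c (eI 18) :=
  congrFun (helper34_d4mv0 t c) (Sum.inr (18 : Fin 24))

theorem a34_p0e19 (t : F) (c : chevD4.Idx → F) :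
    (chevD4.xMat F (0 : Fin 24) t *ᵥ c) (eI 19) = c (eI 19) :=
  congrFun (helper34_d4mv0 t c) (Sum.inr (19 : Fin 24))

theorem a34_p0e20 (t : F) (c : chevD4.Idx → F) :
    (chevD4.xMat F (0 : Fin 24) t *ᵥ c) (eI 20) = c (eI 20) :=
  congrFun (helper34_d4mv0 t c) (Sum.inr (20 : Fin 24))

theorem a34_p0e21 (t : F) (c : chevD4.Idx → F) :
    (chevD4.xMat F (0 : Fin 24) t *ᵥ c) (eI 21) = c (eI 21) :=
  congrFun (helper34_d4mv0 t c) (Sum.inr (21 : Fin 24))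

theorem a34_p0e22 (t : F) (c : chevD4.Idx → F) :
    (chevD4.xMat F (0 : Fin 24) t *ᵥ c) (eI 22) = c (eI 22) :=
  congrFun (helper34_d4mv0 t c) (Sum.inr (22 : Fin 24))

theorem a34_p0e23 (t : F) (c : chevD4.Idx → F) :
    (chevD4.xMat F (0 : Fin 24) t *ᵥ c) (eI 23) = c (eI 23) :=
  congrFun (helper34_d4mv0 t c) (Sum.inr (23 : Fin 24))

set_option maxHeartbeats 40000000 in
theorem ad_rel_0 (t : F) (c : chevD4.Idx → F) :
    X8 0 t * Lmap c = Lmap (chevD4.xMat F (0 : Fin 24) t *ᵥ c) * X8 0 t := by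
  simp only [Lmap, a34_p0h0, a34_p0h1, a34_p0h2, a34_p0h3, a34_p0e0, a34_p0e1, a34_p0e2, a34_p0e3, a34_p0e4, a34_p0e5, a34_p0e6, a34_p0e7, a34_p0e8, a34_p0e9, a34_p0e10, a34_p0e11, a34_p0e12, a34_p0e13, a34_p0e14, a34_p0e15, a34_p0e16, a34_p0e17, a34_p0e18, a34_p0e19, a34_p0e20, a34_p0e21, a34_p0e22, a34_p0e23]
  ext i j
  fin_cases i <;> fin_cases j <;>
    simp [X8, Matrix.mul_apply, Fin.sum_univ_succ] <;> ring

theorem a34_p1h0 (t : F) (c : chevD4.Idx → F) :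
    (chevD4.xMat F (1 : Fin 24) t *ᵥ c) (hI 0) = c (hI 0) + -(t * c (eI 22)) :=
  congrFun (helper34_d4mv1 t c) (Sum.inl (0 : Fin 4))

theorem a34_p1h1 (t : F) (c : chevD4.Idx → F) :
    (chevD4.xMat F (1 : Fin 24) t *ᵥ c) (hI 1) = c (hI 1) + -(t * c (eI 22)) :=
  congrFun (helper34_d4mv1 t c) (Sum.inl (1 : Fin 4))

theorem a34_p1h2 (t : F) (c : chevD4.Idx → F) :
    (chevD4.xMat F (1 : Fin 24) t *ᵥ c) (hI 2) = c (hI 2) + -(t * c (eI 22)) :=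
  congrFun (helper34_d4mv1 t c) (Sum.inl (2 : Fin 4))

theorem a34_p1h3 (t : F) (c : chevD4.Idx → F) :
    (chevD4.xMat F (1 : Fin 24) t *ᵥ c) (hI 3) = c (hI 3) + -(t * c (eI 22)) :=
  congrFun (helper34_d4mv1 t c) (Sum.inl (3 : Fin 4))

theorem a34_p1e0 (t : F) (c : chevD4.Idx → F) :
    (chevD4.xMat F (1 : Fin 24) t *ᵥ c) (eI 0) = c (eI 0) + t * c (eI 9) :=
  congrFun (helper34_d4mv1 t c) (Sum.inr (0 : Fin 24))

theorem a34_p1e1 (t : F) (c : chevD4.Idx → F) :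
    (chevD4.xMat F (1 : Fin 24) t *ᵥ c) (eI 1) = t * c (hI 0) + -(t * c (hI 1)) + t * c (hI 2) + t * c (hI 3) + c (eI 1) + -(t ^ 2 * c (eI 22)) :=
  congrFun (helper34_d4mv1 t c) (Sum.inr (1 : Fin 24))

theorem a34_p1e2 (t : F) (c : chevD4.Idx → F) :
    (chevD4.xMat F (1 : Fin 24) t *ᵥ c) (eI 2) = c (eI 2) + t * c (eI 12) :=
  congrFun (helper34_d4mv1 t c) (Sum.inr (2 : Fin 24))

theorem a34_p1e3 (t : F) (c : chevD4.Idx → F) :
    (chevD4.xMat F (1 : Fin 24) t *ᵥ c) (eI 3) = c (eI 3) + t * c (eI 13) :=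
  congrFun (helper34_d4mv1 t c) (Sum.inr (3 : Fin 24))

theorem a34_p1e4 (t : F) (c : chevD4.Idx → F) :
    (chevD4.xMat F (1 : Fin 24) t *ᵥ c) (eI 4) = c (eI 4) :=
  congrFun (helper34_d4mv1 t c) (Sum.inr (4 : Fin 24))

theorem a34_p1e5 (t : F) (c : chevD4.Idx → F) :
    (chevD4.xMat F (1 : Fin 24) t *ᵥ c) (eI 5) = c (eI 5) + t * c (eI 17) :=
  congrFun (helper34_d4mv1 t c) (Sum.inr (5 : Fin 24))

theorem a34_p1e6 (t : F) (c : chevD4.Idx → F) :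
    (chevD4.xMat F (1 : Fin 24) t *ᵥ c) (eI 6) = c (eI 6) + -(t * c (eI 18)) :=
  congrFun (helper34_d4mv1 t c) (Sum.inr (6 : Fin 24))

theorem a34_p1e7 (t : F) (c : chevD4.Idx → F) :
    (chevD4.xMat F (1 : Fin 24) t *ᵥ c) (eI 7) = c (eI 7) :=
  congrFun (helper34_d4mv1 t c) (Sum.inr (7 : Fin 24))

theorem a34_p1e8 (t : F) (c : chevD4.Idx → F) :
    (chevD4.xMat F (1 : Fin 24) t *ᵥ c) (eI 8) = c (eI 8) :=
  congrFun (helper34_d4mv1 t c) (Sum.inr (8 : Fin 24))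

theorem a34_p1e9 (t : F) (c : chevD4.Idx → F) :
    (chevD4.xMat F (1 : Fin 24) t *ᵥ c) (eI 9) = c (eI 9) :=
  congrFun (helper34_d4mv1 t c) (Sum.inr (9 : Fin 24))

theorem a34_p1e10 (t : F) (c : chevD4.Idx → F) :
    (chevD4.xMat F (1 : Fin 24) t *ᵥ c) (eI 10) = c (eI 10) + -(t * c (eI 20)) :=
  congrFun (helper34_d4mv1 t c) (Sum.inr (10 : Fin 24))

theorem a34_p1e11 (t : F) (c : chevD4.Idx → F) :
    (chevD4.xMat F (1 : Fin 24) t *ᵥ c) (eI 11) = c (eI 11) + -(t * c (eI 21)) :=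
  congrFun (helper34_d4mv1 t c) (Sum.inr (11 : Fin 24))

theorem a34_p1e12 (t : F) (c : chevD4.Idx → F) :
    (chevD4.xMat F (1 : Fin 24) t *ᵥ c) (eI 12) = c (eI 12) :=
  congrFun (helper34_d4mv1 t c) (Sum.inr (12 : Fin 24))

theorem a34_p1e13 (t : F) (c : chevD4.Idx → F) :
    (chevD4.xMat F (1 : Fin 24) t *ᵥ c) (eI 13) = c (eI 13) :=
  congrFun (helper34_d4mv1 t c) (Sum.inr (13 : Fin 24))

theorem a34_p1e14 (t : F) (c : chevD4.Idx → F) :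
    (chevD4.xMat F (1 : Fin 24) t *ᵥ c) (eI 14) = c (eI 14) + -(t * c (eI 23)) :=
  congrFun (helper34_d4mv1 t c) (Sum.inr (14 : Fin 24))

theorem a34_p1e15 (t : F) (c : chevD4.Idx → F) :
    (chevD4.xMat F (1 : Fin 24) t *ᵥ c) (eI 15) = c (eI 15) :=
  congrFun (helper34_d4mv1 t c) (Sum.inr (15 : Fin 24))

theorem a34_p1e16 (t : F) (c : chevD4.Idx → F) :
    (chevD4.xMat F (1 : Fin 24) t *ᵥ c) (eI 16) = c (eI 16) :=
  congrFun (helper34_d4mv1 t c) (Sum.inr (16 : Fin 24))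

theorem a34_p1e17 (t : F) (c : chevD4.Idx → F) :
    (chevD4.xMat F (1 : Fin 24) t *ᵥ c) (eI 17) = c (eI 17) :=
  congrFun (helper34_d4mv1 t c) (Sum.inr (17 : Fin 24))

theorem a34_p1e18 (t : F) (c : chevD4.Idx → F) :
    (chevD4.xMat F (1 : Fin 24) t *ᵥ c) (eI 18) = c (eI 18) :=
  congrFun (helper34_d4mv1 t c) (Sum.inr (18 : Fin 24))

theorem a34_p1e19 (t : F) (c : chevD4.Idx → F) :
    (chevD4.xMat F (1 : Fin 24) t *ᵥ c) (eI 19) = c (eI 19) :=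
  congrFun (helper34_d4mv1 t c) (Sum.inr (19 : Fin 24))

theorem a34_p1e20 (t : F) (c : chevD4.Idx → F) :
    (chevD4.xMat F (1 : Fin 24) t *ᵥ c) (eI 20) = c (eI 20) :=
  congrFun (helper34_d4mv1 t c) (Sum.inr (20 : Fin 24))

theorem a34_p1e21 (t : F) (c : chevD4.Idx → F) :
    (chevD4.xMat F (1 : Fin 24) t *ᵥ c) (eI 21) = c (eI 21) :=
  congrFun (helper34_d4mv1 t c) (Sum.inr (21 : Fin 24))

theorem a34_p1e22 (t : F) (c : chevD4.Idx → F) :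
    (chevD4.xMat F (1 : Fin 24) t *ᵥ c) (eI 22) = c (eI 22) :=
  congrFun (helper34_d4mv1 t c) (Sum.inr (22 : Fin 24))

theorem a34_p1e23 (t : F) (c : chevD4.Idx → F) :
    (chevD4.xMat F (1 : Fin 24) t *ᵥ c) (eI 23) = c (eI 23) :=
  congrFun (helper34_d4mv1 t c) (Sum.inr (23 : Fin 24))

set_option maxHeartbeats 40000000 in
theorem ad_rel_1 (t : F) (c : chevD4.Idx → F) :
    X8 1 t * Lmap c = Lmap (chevD4.xMat F (1 : Fin 24) t *ᵥ c) * X8 1 t := by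
  simp only [Lmap, a34_p1h0, a34_p1h1, a34_p1h2, a34_p1h3, a34_p1e0, a34_p1e1, a34_p1e2, a34_p1e3, a34_p1e4, a34_p1e5, a34_p1e6, a34_p1e7, a34_p1e8, a34_p1e9, a34_p1e10, a34_p1e11, a34_p1e12, a34_p1e13, a34_p1e14, a34_p1e15, a34_p1e16, a34_p1e17, a34_p1e18, a34_p1e19, a34_p1e20, a34_p1e21, a34_p1e22, a34_p1e23]
  ext i j
  fin_cases i <;> fin_cases j <;>
    simp [X8, Matrix.mul_apply, Fin.sum_univ_succ] <;> ring

theorem a34_p2h0 (t : F) (c : chevD4.Idx → F) :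
    (chevD4.xMat F (2 : Fin 24) t *ᵥ c) (hI 0) = c (hI 0) + -(t * c (eI 21)) :=
  congrFun (helper34_d4mv2 t c) (Sum.inl (0 : Fin 4))

theorem a34_p2h1 (t : F) (c : chevD4.Idx → F) :
    (chevD4.xMat F (2 : Fin 24) t *ᵥ c) (hI 1) = c (hI 1) + -(t * c (eI 21)) :=
  congrFun (helper34_d4mv2 t c) (Sum.inl (1 : Fin 4))

theorem a34_p2h2 (t : F) (c : chevD4.Idx → F) :
    (chevD4.xMat F (2 : Fin 24) t *ᵥ c) (hI 2) = c (hI 2) + -(t * c (eI 21)) :=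
  congrFun (helper34_d4mv2 t c) (Sum.inl (2 : Fin 4))

theorem a34_p2h3 (t : F) (c : chevD4.Idx → F) :
    (chevD4.xMat F (2 : Fin 24) t *ᵥ c) (hI 3) = c (hI 3) :=
  congrFun (helper34_d4mv2 t c) (Sum.inl (3 : Fin 4))

theorem a34_p2e0 (t : F) (c : chevD4.Idx → F) :
    (chevD4.xMat F (2 : Fin 24) t *ᵥ c) (eI 0) = c (eI 0) + -(t * c (eI 8)) :=
  congrFun (helper34_d4mv2 t c) (Sum.inr (0 : Fin 24))

theorem a34_p2e1 (t : F) (c : chevD4.Idx → F) :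
    (chevD4.xMat F (2 : Fin 24) t *ᵥ c) (eI 1) = c (eI 1) + t * c (eI 11) :=
  congrFun (helper34_d4mv2 t c) (Sum.inr (1 : Fin 24))

theorem a34_p2e2 (t : F) (c : chevD4.Idx → F) :
    (chevD4.xMat F (2 : Fin 24) t *ᵥ c) (eI 2) = t * c (hI 0) + t * c (hI 2) + -(t * c (hI 3)) + c (eI 2) + -(t ^ 2 * c (eI 21)) :=
  congrFun (helper34_d4mv2 t c) (Sum.inr (2 : Fin 24))

theorem a34_p2e3 (t : F) (c : chevD4.Idx → F) :
    (chevD4.xMat F (2 : Fin 24) t *ᵥ c) (eI 3) = c (eI 3) :=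
  congrFun (helper34_d4mv2 t c) (Sum.inr (3 : Fin 24))

theorem a34_p2e4 (t : F) (c : chevD4.Idx → F) :
    (chevD4.xMat F (2 : Fin 24) t *ᵥ c) (eI 4) = c (eI 4) + t * c (eI 13) :=
  congrFun (helper34_d4mv2 t c) (Sum.inr (4 : Fin 24))

theorem a34_p2e5 (t : F) (c : chevD4.Idx → F) :
    (chevD4.xMat F (2 : Fin 24) t *ᵥ c) (eI 5) = c (eI 5) + t * c (eI 16) :=
  congrFun (helper34_d4mv2 t c) (Sum.inr (5 : Fin 24))

theorem a34_p2e6 (t : F) (c : chevD4.Idx → F) :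
    (chevD4.xMat F (2 : Fin 24) t *ᵥ c) (eI 6) = c (eI 6) :=
  congrFun (helper34_d4mv2 t c) (Sum.inr (6 : Fin 24))

theorem a34_p2e7 (t : F) (c : chevD4.Idx → F) :
    (chevD4.xMat F (2 : Fin 24) t *ᵥ c) (eI 7) = c (eI 7) + -(t * c (eI 18)) :=
  congrFun (helper34_d4mv2 t c) (Sum.inr (7 : Fin 24))

theorem a34_p2e8 (t : F) (c : chevD4.Idx → F) :
    (chevD4.xMat F (2 : Fin 24) t *ᵥ c) (eI 8) = c (eI 8) :=
  congrFun (helper34_d4mv2 t c) (Sum.inr (8 : Fin 24))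

theorem a34_p2e9 (t : F) (c : chevD4.Idx → F) :
    (chevD4.xMat F (2 : Fin 24) t *ᵥ c) (eI 9) = c (eI 9) :=
  congrFun (helper34_d4mv2 t c) (Sum.inr (9 : Fin 24))

theorem a34_p2e10 (t : F) (c : chevD4.Idx → F) :
    (chevD4.xMat F (2 : Fin 24) t *ᵥ c) (eI 10) = c (eI 10) + -(t * c (eI 19)) :=
  congrFun (helper34_d4mv2 t c) (Sum.inr (10 : Fin 24))

theorem a34_p2e11 (t : F) (c : chevD4.Idx → F) :
    (chevD4.xMat F (2 : Fin 24) t *ᵥ c) (eI 11) = c (eI 11) :=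
  congrFun (helper34_d4mv2 t c) (Sum.inr (11 : Fin 24))

theorem a34_p2e12 (t : F) (c : chevD4.Idx → F) :
    (chevD4.xMat F (2 : Fin 24) t *ᵥ c) (eI 12) = c (eI 12) + -(t * c (eI 22)) :=
  congrFun (helper34_d4mv2 t c) (Sum.inr (12 : Fin 24))

theorem a34_p2e13 (t : F) (c : chevD4.Idx → F) :
    (chevD4.xMat F (2 : Fin 24) t *ᵥ c) (eI 13) = c (eI 13) :=
  congrFun (helper34_d4mv2 t c) (Sum.inr (13 : Fin 24))

theorem a34_p2e14 (t : F) (c : chevD4.Idx → F) :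
    (chevD4.xMat F (2 : Fin 24) t *ᵥ c) (eI 14) = c (eI 14) :=
  congrFun (helper34_d4mv2 t c) (Sum.inr (14 : Fin 24))

theorem a34_p2e15 (t : F) (c : chevD4.Idx → F) :
    (chevD4.xMat F (2 : Fin 24) t *ᵥ c) (eI 15) = c (eI 15) + t * c (eI 23) :=
  congrFun (helper34_d4mv2 t c) (Sum.inr (15 : Fin 24))

theorem a34_p2e16 (t : F) (c : chevD4.Idx → F) :
    (chevD4.xMat F (2 : Fin 24) t *ᵥ c) (eI 16) = c (eI 16) :=
  congrFun (helper34_d4mv2 t c) (Sum.inr (16 : Fin 24))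

theorem a34_p2e17 (t : F) (c : chevD4.Idx → F) :
    (chevD4.xMat F (2 : Fin 24) t *ᵥ c) (eI 17) = c (eI 17) :=
  congrFun (helper34_d4mv2 t c) (Sum.inr (17 : Fin 24))

theorem a34_p2e18 (t : F) (c : chevD4.Idx → F) :
    (chevD4.xMat F (2 : Fin 24) t *ᵥ c) (eI 18) = c (eI 18) :=
  congrFun (helper34_d4mv2 t c) (Sum.inr (18 : Fin 24))

theorem a34_p2e19 (t : F) (c : chevD4.Idx → F) :
    (chevD4.xMat F (2 : Fin 24) t *ᵥ c) (eI 19) = c (eI 19) :=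
  congrFun (helper34_d4mv2 t c) (Sum.inr (19 : Fin 24))

theorem a34_p2e20 (t : F) (c : chevD4.Idx → F) :
    (chevD4.xMat F (2 : Fin 24) t *ᵥ c) (eI 20) = c (eI 20) :=
  congrFun (helper34_d4mv2 t c) (Sum.inr (20 : Fin 24))

theorem a34_p2e21 (t : F) (c : chevD4.Idx → F) :
    (chevD4.xMat F (2 : Fin 24) t *ᵥ c) (eI 21) = c (eI 21) :=
  congrFun (helper34_d4mv2 t c) (Sum.inr (21 : Fin 24))

theorem a34_p2e22 (t : F) (c : chevD4.Idx → F) :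
    (chevD4.xMat F (2 : Fin 24) t *ᵥ c) (eI 22) = c (eI 22) :=
  congrFun (helper34_d4mv2 t c) (Sum.inr (22 : Fin 24))

theorem a34_p2e23 (t : F) (c : chevD4.Idx → F) :
    (chevD4.xMat F (2 : Fin 24) t *ᵥ c) (eI 23) = c (eI 23) :=
  congrFun (helper34_d4mv2 t c) (Sum.inr (23 : Fin 24))

set_option maxHeartbeats 40000000 in
theorem ad_rel_2 (t : F) (c : chevD4.Idx → F) :
    X8 2 t * Lmap c = Lmap (chevD4.xMat F (2 : Fin 24) t *ᵥ c) * X8 2 t := by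
  simp only [Lmap, a34_p2h0, a34_p2h1, a34_p2h2, a34_p2h3, a34_p2e0, a34_p2e1, a34_p2e2, a34_p2e3, a34_p2e4, a34_p2e5, a34_p2e6, a34_p2e7, a34_p2e8, a34_p2e9, a34_p2e10, a34_p2e11, a34_p2e12, a34_p2e13, a34_p2e14, a34_p2e15, a34_p2e16, a34_p2e17, a34_p2e18, a34_p2e19, a34_p2e20, a34_p2e21, a34_p2e22, a34_p2e23]
  ext i j
  fin_cases i <;> fin_cases j <;>
    simp [X8, Matrix.mul_apply, Fin.sum_univ_succ] <;> ring

theorem a34_p3h0 (t : F) (c : chevD4.Idx → F) :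
    (chevD4.xMat F (3 : Fin 24) t *ᵥ c) (hI 0) = c (hI 0) + -(t * c (eI 20)) :=
  congrFun (helper34_d4mv3 t c) (Sum.inl (0 : Fin 4))

theorem a34_p3h1 (t : F) (c : chevD4.Idx → F) :
    (chevD4.xMat F (3 : Fin 24) t *ᵥ c) (hI 1) = c (hI 1) + -(t * c (eI 20)) :=
  congrFun (helper34_d4mv3 t c) (Sum.inl (1 : Fin 4))

theorem a34_p3h2 (t : F) (c : chevD4.Idx → F) :
    (chevD4.xMat F (3 : Fin 24) t *ᵥ c) (hI 2) = c (hI 2) :=
  congrFun (helper34_d4mv3 t c) (Sum.inl (2 : Fin 4))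

theorem a34_p3h3 (t : F) (c : chevD4.Idx → F) :
    (chevD4.xMat F (3 : Fin 24) t *ᵥ c) (hI 3) = c (hI 3) + -(t * c (eI 20)) :=
  congrFun (helper34_d4mv3 t c) (Sum.inl (3 : Fin 4))

theorem a34_p3e0 (t : F) (c : chevD4.Idx → F) :
    (chevD4.xMat F (3 : Fin 24) t *ᵥ c) (eI 0) = c (eI 0) + -(t * c (eI 7)) :=
  congrFun (helper34_d4mv3 t c) (Sum.inr (0 : Fin 24))

theorem a34_p3e1 (t : F) (c : chevD4.Idx → F) :
    (chevD4.xMat F (3 : Fin 24) t *ᵥ c) (eI 1) = c (eI 1) + t * c (eI 10) :=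
  congrFun (helper34_d4mv3 t c) (Sum.inr (1 : Fin 24))

theorem a34_p3e2 (t : F) (c : chevD4.Idx → F) :
    (chevD4.xMat F (3 : Fin 24) t *ᵥ c) (eI 2) = c (eI 2) :=
  congrFun (helper34_d4mv3 t c) (Sum.inr (2 : Fin 24))

theorem a34_p3e3 (t : F) (c : chevD4.Idx → F) :
    (chevD4.xMat F (3 : Fin 24) t *ᵥ c) (eI 3) = t * c (hI 0) + -(t * c (hI 2)) + t * c (hI 3) + c (eI 3) + -(t ^ 2 * c (eI 20)) :=
  congrFun (helper34_d4mv3 t c) (Sum.inr (3 : Fin 24))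

theorem a34_p3e4 (t : F) (c : chevD4.Idx → F) :
    (chevD4.xMat F (3 : Fin 24) t *ᵥ c) (eI 4) = c (eI 4) + t * c (eI 12) :=
  congrFun (helper34_d4mv3 t c) (Sum.inr (4 : Fin 24))

theorem a34_p3e5 (t : F) (c : chevD4.Idx → F) :
    (chevD4.xMat F (3 : Fin 24) t *ᵥ c) (eI 5) = c (eI 5) + t * c (eI 15) :=
  congrFun (helper34_d4mv3 t c) (Sum.inr (5 : Fin 24))

theorem a34_p3e6 (t : F) (c : chevD4.Idx → F) :
    (chevD4.xMat F (3 : Fin 24) t *ᵥ c) (eI 6) = c (eI 6) :=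
  congrFun (helper34_d4mv3 t c) (Sum.inr (6 : Fin 24))

theorem a34_p3e7 (t : F) (c : chevD4.Idx → F) :
    (chevD4.xMat F (3 : Fin 24) t *ᵥ c) (eI 7) = c (eI 7) :=
  congrFun (helper34_d4mv3 t c) (Sum.inr (7 : Fin 24))

theorem a34_p3e8 (t : F) (c : chevD4.Idx → F) :
    (chevD4.xMat F (3 : Fin 24) t *ᵥ c) (eI 8) = c (eI 8) + -(t * c (eI 18)) :=
  congrFun (helper34_d4mv3 t c) (Sum.inr (8 : Fin 24))

theorem a34_p3e9 (t : F) (c : chevD4.Idx → F) :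
    (chevD4.xMat F (3 : Fin 24) t *ᵥ c) (eI 9) = c (eI 9) :=
  congrFun (helper34_d4mv3 t c) (Sum.inr (9 : Fin 24))

theorem a34_p3e10 (t : F) (c : chevD4.Idx → F) :
    (chevD4.xMat F (3 : Fin 24) t *ᵥ c) (eI 10) = c (eI 10) :=
  congrFun (helper34_d4mv3 t c) (Sum.inr (10 : Fin 24))

theorem a34_p3e11 (t : F) (c : chevD4.Idx → F) :
    (chevD4.xMat F (3 : Fin 24) t *ᵥ c) (eI 11) = c (eI 11) + -(t * c (eI 19)) :=
  congrFun (helper34_d4mv3 t c) (Sum.inr (11 : Fin 24))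

theorem a34_p3e12 (t : F) (c : chevD4.Idx → F) :
    (chevD4.xMat F (3 : Fin 24) t *ᵥ c) (eI 12) = c (eI 12) :=
  congrFun (helper34_d4mv3 t c) (Sum.inr (12 : Fin 24))

theorem a34_p3e13 (t : F) (c : chevD4.Idx → F) :
    (chevD4.xMat F (3 : Fin 24) t *ᵥ c) (eI 13) = c (eI 13) + -(t * c (eI 22)) :=
  congrFun (helper34_d4mv3 t c) (Sum.inr (13 : Fin 24))

theorem a34_p3e14 (t : F) (c : chevD4.Idx → F) :
    (chevD4.xMat F (3 : Fin 24) t *ᵥ c) (eI 14) = c (eI 14) :=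
  congrFun (helper34_d4mv3 t c) (Sum.inr (14 : Fin 24))

theorem a34_p3e15 (t : F) (c : chevD4.Idx → F) :
    (chevD4.xMat F (3 : Fin 24) t *ᵥ c) (eI 15) = c (eI 15) :=
  congrFun (helper34_d4mv3 t c) (Sum.inr (15 : Fin 24))

theorem a34_p3e16 (t : F) (c : chevD4.Idx → F) :
    (chevD4.xMat F (3 : Fin 24) t *ᵥ c) (eI 16) = c (eI 16) + t * c (eI 23) :=
  congrFun (helper34_d4mv3 t c) (Sum.inr (16 : Fin 24))

theorem a34_p3e17 (t : F) (c : chevD4.Idx → F) :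
    (chevD4.xMat F (3 : Fin 24) t *ᵥ c) (eI 17) = c (eI 17) :=
  congrFun (helper34_d4mv3 t c) (Sum.inr (17 : Fin 24))

theorem a34_p3e18 (t : F) (c : chevD4.Idx → F) :
    (chevD4.xMat F (3 : Fin 24) t *ᵥ c) (eI 18) = c (eI 18) :=
  congrFun (helper34_d4mv3 t c) (Sum.inr (18 : Fin 24))

theorem a34_p3e19 (t : F) (c : chevD4.Idx → F) :
    (chevD4.xMat F (3 : Fin 24) t *ᵥ c) (eI 19) = c (eI 19) :=
  congrFun (helper34_d4mv3 t c) (Sum.inr (19 : Fin 24))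

theorem a34_p3e20 (t : F) (c : chevD4.Idx → F) :
    (chevD4.xMat F (3 : Fin 24) t *ᵥ c) (eI 20) = c (eI 20) :=
  congrFun (helper34_d4mv3 t c) (Sum.inr (20 : Fin 24))

theorem a34_p3e21 (t : F) (c : chevD4.Idx → F) :
    (chevD4.xMat F (3 : Fin 24) t *ᵥ c) (eI 21) = c (eI 21) :=
  congrFun (helper34_d4mv3 t c) (Sum.inr (21 : Fin 24))

theorem a34_p3e22 (t : F) (c : chevD4.Idx → F) :
    (chevD4.xMat F (3 : Fin 24) t *ᵥ c) (eI 22) = c (eI 22) :=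
  congrFun (helper34_d4mv3 t c) (Sum.inr (22 : Fin 24))

theorem a34_p3e23 (t : F) (c : chevD4.Idx → F) :
    (chevD4.xMat F (3 : Fin 24) t *ᵥ c) (eI 23) = c (eI 23) :=
  congrFun (helper34_d4mv3 t c) (Sum.inr (23 : Fin 24))

set_option maxHeartbeats 40000000 in
theorem ad_rel_3 (t : F) (c : chevD4.Idx → F) :
    X8 3 t * Lmap c = Lmap (chevD4.xMat F (3 : Fin 24) t *ᵥ c) * X8 3 t := by
  simp only [Lmap, a34_p3h0, a34_p3h1, a34_p3h2, a34_p3h3, a34_p3e0, a34_p3e1, a34_p3e2, a34_p3e3, a34_p3e4, a34_p3e5, a34_p3e6, a34_p3e7, a34_p3e8, a34_p3e9, a34_p3e10, a34_p3e11, a34_p3e12, a34_p3e13, a34_p3e14, a34_p3e15, a34_p3e16, a34_p3e17, a34_p3e18, a34_p3e19, a34_p3e20, a34_p3e21, a34_p3e22, a34_p3e23]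
  ext i j
  fin_cases i <;> fin_cases j <;>
    simp [X8, Matrix.mul_apply, Fin.sum_univ_succ] <;> ring

theorem a34_p4h0 (t : F) (c : chevD4.Idx → F) :
    (chevD4.xMat F (4 : Fin 24) t *ᵥ c) (hI 0) = c (hI 0) + -(t * c (eI 19)) :=
  congrFun (helper34_d4mv4 t c) (Sum.inl (0 : Fin 4))

theorem a34_p4h1 (t : F) (c : chevD4.Idx → F) :
    (chevD4.xMat F (4 : Fin 24) t *ᵥ c) (hI 1) = c (hI 1) + -(t * c (eI 19)) :=
  congrFun (helper34_d4mv4 t c) (Sum.inl (1 : Fin 4))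

theorem a34_p4h2 (t : F) (c : chevD4.Idx → F) :
    (chevD4.xMat F (4 : Fin 24) t *ᵥ c) (hI 2) = c (hI 2) :=
  congrFun (helper34_d4mv4 t c) (Sum.inl (2 : Fin 4))

theorem a34_p4h3 (t : F) (c : chevD4.Idx → F) :
    (chevD4.xMat F (4 : Fin 24) t *ᵥ c) (hI 3) = c (hI 3) :=
  congrFun (helper34_d4mv4 t c) (Sum.inl (3 : Fin 4))

theorem a34_p4e0 (t : F) (c : chevD4.Idx → F) :
    (chevD4.xMat F (4 : Fin 24) t *ᵥ c) (eI 0) = c (eI 0) + t * c (eI 6) :=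
  congrFun (helper34_d4mv4 t c) (Sum.inr (0 : Fin 24))

theorem a34_p4e1 (t : F) (c : chevD4.Idx → F) :
    (chevD4.xMat F (4 : Fin 24) t *ᵥ c) (eI 1) = c (eI 1) :=
  congrFun (helper34_d4mv4 t c) (Sum.inr (1 : Fin 24))

theorem a34_p4e2 (t : F) (c : chevD4.Idx → F) :
    (chevD4.xMat F (4 : Fin 24) t *ᵥ c) (eI 2) = c (eI 2) + t * c (eI 10) :=
  congrFun (helper34_d4mv4 t c) (Sum.inr (2 : Fin 24))

theorem a34_p4e3 (t : F) (c : chevD4.Idx → F) :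
    (chevD4.xMat F (4 : Fin 24) t *ᵥ c) (eI 3) = c (eI 3) + t * c (eI 11) :=
  congrFun (helper34_d4mv4 t c) (Sum.inr (3 : Fin 24))

theorem a34_p4e4 (t : F) (c : chevD4.Idx → F) :
    (chevD4.xMat F (4 : Fin 24) t *ᵥ c) (eI 4) = t * c (hI 0) + t * c (hI 1) + -(t * c (hI 2)) + -(t * c (hI 3)) + c (eI 4) + -(t ^ 2 * c (eI 19)) :=
  congrFun (helper34_d4mv4 t c) (Sum.inr (4 : Fin 24))

theorem a34_p4e5 (t : F) (c : chevD4.Idx → F) :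
    (chevD4.xMat F (4 : Fin 24) t *ᵥ c) (eI 5) = c (eI 5) + t * c (eI 14) :=
  congrFun (helper34_d4mv4 t c) (Sum.inr (5 : Fin 24))

theorem a34_p4e6 (t : F) (c : chevD4.Idx → F) :
    (chevD4.xMat F (4 : Fin 24) t *ᵥ c) (eI 6) = c (eI 6) :=
  congrFun (helper34_d4mv4 t c) (Sum.inr (6 : Fin 24))

theorem a34_p4e7 (t : F) (c : chevD4.Idx → F) :
    (chevD4.xMat F (4 : Fin 24) t *ᵥ c) (eI 7) = c (eI 7) :=
  congrFun (helper34_d4mv4 t c) (Sum.inr (7 : Fin 24))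

theorem a34_p4e8 (t : F) (c : chevD4.Idx → F) :
    (chevD4.xMat F (4 : Fin 24) t *ᵥ c) (eI 8) = c (eI 8) :=
  congrFun (helper34_d4mv4 t c) (Sum.inr (8 : Fin 24))

theorem a34_p4e9 (t : F) (c : chevD4.Idx → F) :
    (chevD4.xMat F (4 : Fin 24) t *ᵥ c) (eI 9) = c (eI 9) + -(t * c (eI 18)) :=
  congrFun (helper34_d4mv4 t c) (Sum.inr (9 : Fin 24))

theorem a34_p4e10 (t : F) (c : chevD4.Idx → F) :
    (chevD4.xMat F (4 : Fin 24) t *ᵥ c) (eI 10) = c (eI 10) :=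
  congrFun (helper34_d4mv4 t c) (Sum.inr (10 : Fin 24))

theorem a34_p4e11 (t : F) (c : chevD4.Idx → F) :
    (chevD4.xMat F (4 : Fin 24) t *ᵥ c) (eI 11) = c (eI 11) :=
  congrFun (helper34_d4mv4 t c) (Sum.inr (11 : Fin 24))

theorem a34_p4e12 (t : F) (c : chevD4.Idx → F) :
    (chevD4.xMat F (4 : Fin 24) t *ᵥ c) (eI 12) = c (eI 12) + -(t * c (eI 20)) :=
  congrFun (helper34_d4mv4 t c) (Sum.inr (12 : Fin 24))

theorem a34_p4e13 (t : F) (c : chevD4.Idx → F) :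
    (chevD4.xMat F (4 : Fin 24) t *ᵥ c) (eI 13) = c (eI 13) + -(t * c (eI 21)) :=
  congrFun (helper34_d4mv4 t c) (Sum.inr (13 : Fin 24))

theorem a34_p4e14 (t : F) (c : chevD4.Idx → F) :
    (chevD4.xMat F (4 : Fin 24) t *ᵥ c) (eI 14) = c (eI 14) :=
  congrFun (helper34_d4mv4 t c) (Sum.inr (14 : Fin 24))

theorem a34_p4e15 (t : F) (c : chevD4.Idx → F) :
    (chevD4.xMat F (4 : Fin 24) t *ᵥ c) (eI 15) = c (eI 15) :=
  congrFun (helper34_d4mv4 t c) (Sum.inr (15 : Fin 24))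

theorem a34_p4e16 (t : F) (c : chevD4.Idx → F) :
    (chevD4.xMat F (4 : Fin 24) t *ᵥ c) (eI 16) = c (eI 16) :=
  congrFun (helper34_d4mv4 t c) (Sum.inr (16 : Fin 24))

theorem a34_p4e17 (t : F) (c : chevD4.Idx → F) :
    (chevD4.xMat F (4 : Fin 24) t *ᵥ c) (eI 17) = c (eI 17) + -(t * c (eI 23)) :=
  congrFun (helper34_d4mv4 t c) (Sum.inr (17 : Fin 24))

theorem a34_p4e18 (t : F) (c : chevD4.Idx → F) :
    (chevD4.xMat F (4 : Fin 24) t *ᵥ c) (eI 18) = c (eI 18) :=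
  congrFun (helper34_d4mv4 t c) (Sum.inr (18 : Fin 24))

theorem a34_p4e19 (t : F) (c : chevD4.Idx → F) :
    (chevD4.xMat F (4 : Fin 24) t *ᵥ c) (eI 19) = c (eI 19) :=
  congrFun (helper34_d4mv4 t c) (Sum.inr (19 : Fin 24))

theorem a34_p4e20 (t : F) (c : chevD4.Idx → F) :
    (chevD4.xMat F (4 : Fin 24) t *ᵥ c) (eI 20) = c (eI 20) :=
  congrFun (helper34_d4mv4 t c) (Sum.inr (20 : Fin 24))

theorem a34_p4e21 (t : F) (c : chevD4.Idx → F) :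
    (chevD4.xMat F (4 : Fin 24) t *ᵥ c) (eI 21) = c (eI 21) :=
  congrFun (helper34_d4mv4 t c) (Sum.inr (21 : Fin 24))

theorem a34_p4e22 (t : F) (c : chevD4.Idx → F) :
    (chevD4.xMat F (4 : Fin 24) t *ᵥ c) (eI 22) = c (eI 22) :=
  congrFun (helper34_d4mv4 t c) (Sum.inr (22 : Fin 24))

theorem a34_p4e23 (t : F) (c : chevD4.Idx → F) :
    (chevD4.xMat F (4 : Fin 24) t *ᵥ c) (eI 23) = c (eI 23) :=
  congrFun (helper34_d4mv4 t c) (Sum.inr (23 : Fin 24))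

set_option maxHeartbeats 40000000 in
theorem ad_rel_4 (t : F) (c : chevD4.Idx → F) :
    X8 4 t * Lmap c = Lmap (chevD4.xMat F (4 : Fin 24) t *ᵥ c) * X8 4 t := by
  simp only [Lmap, a34_p4h0, a34_p4h1, a34_p4h2, a34_p4h3, a34_p4e0, a34_p4e1, a34_p4e2, a34_p4e3, a34_p4e4, a34_p4e5, a34_p4e6, a34_p4e7, a34_p4e8, a34_p4e9, a34_p4e10, a34_p4e11, a34_p4e12, a34_p4e13, a34_p4e14, a34_p4e15, a34_p4e16, a34_p4e17, a34_p4e18, a34_p4e19, a34_p4e20, a34_p4e21, a34_p4e22, a34_p4e23]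
  ext i j
  fin_cases i <;> fin_cases j <;>
    simp [X8, Matrix.mul_apply, Fin.sum_univ_succ] <;> ring

theorem a34_p5h0 (t : F) (c : chevD4.Idx → F) :
    (chevD4.xMat F (5 : Fin 24) t *ᵥ c) (hI 0) = c (hI 0) + -(t * c (eI 18)) :=
  congrFun (helper34_d4mv5 t c) (Sum.inl (0 : Fin 4))

theorem a34_p5h1 (t : F) (c : chevD4.Idx → F) :
    (chevD4.xMat F (5 : Fin 24) t *ᵥ c) (hI 1) = c (hI 1) :=
  congrFun (helper34_d4mv5 t c) (Sum.inl (1 : Fin 4))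

theorem a34_p5h2 (t : F) (c : chevD4.Idx → F) :
    (chevD4.xMat F (5 : Fin 24) t *ᵥ c) (hI 2) = c (hI 2) :=
  congrFun (helper34_d4mv5 t c) (Sum.inl (2 : Fin 4))

theorem a34_p5h3 (t : F) (c : chevD4.Idx → F) :
    (chevD4.xMat F (5 : Fin 24) t *ᵥ c) (hI 3) = c (hI 3) :=
  congrFun (helper34_d4mv5 t c) (Sum.inl (3 : Fin 4))

theorem a34_p5e0 (t : F) (c : chevD4.Idx → F) :
    (chevD4.xMat F (5 : Fin 24) t *ᵥ c) (eI 0) = c (eI 0) :=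
  congrFun (helper34_d4mv5 t c) (Sum.inr (0 : Fin 24))

theorem a34_p5e1 (t : F) (c : chevD4.Idx → F) :
    (chevD4.xMat F (5 : Fin 24) t *ᵥ c) (eI 1) = c (eI 1) + t * c (eI 6) :=
  congrFun (helper34_d4mv5 t c) (Sum.inr (1 : Fin 24))

theorem a34_p5e2 (t : F) (c : chevD4.Idx → F) :
    (chevD4.xMat F (5 : Fin 24) t *ᵥ c) (eI 2) = c (eI 2) + t * c (eI 7) :=
  congrFun (helper34_d4mv5 t c) (Sum.inr (2 : Fin 24))

theorem a34_p5e3 (t : F) (c : chevD4.Idx → F) :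
    (chevD4.xMat F (5 : Fin 24) t *ᵥ c) (eI 3) = c (eI 3) + t * c (eI 8) :=
  congrFun (helper34_d4mv5 t c) (Sum.inr (3 : Fin 24))

theorem a34_p5e4 (t : F) (c : chevD4.Idx → F) :
    (chevD4.xMat F (5 : Fin 24) t *ᵥ c) (eI 4) = c (eI 4) + t * c (eI 9) :=
  congrFun (helper34_d4mv5 t c) (Sum.inr (4 : Fin 24))

theorem a34_p5e5 (t : F) (c : chevD4.Idx → F) :
    (chevD4.xMat F (5 : Fin 24) t *ᵥ c) (eI 5) = (2) * t * c (hI 0) + -(t * c (hI 1)) + c (eI 5) + -(t ^ 2 * c (eI 18)) :=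
  congrFun (helper34_d4mv5 t c) (Sum.inr (5 : Fin 24))

theorem a34_p5e6 (t : F) (c : chevD4.Idx → F) :
    (chevD4.xMat F (5 : Fin 24) t *ᵥ c) (eI 6) = c (eI 6) :=
  congrFun (helper34_d4mv5 t c) (Sum.inr (6 : Fin 24))

theorem a34_p5e7 (t : F) (c : chevD4.Idx → F) :
    (chevD4.xMat F (5 : Fin 24) t *ᵥ c) (eI 7) = c (eI 7) :=
  congrFun (helper34_d4mv5 t c) (Sum.inr (7 : Fin 24))

theorem a34_p5e8 (t : F) (c : chevD4.Idx → F) :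
    (chevD4.xMat F (5 : Fin 24) t *ᵥ c) (eI 8) = c (eI 8) :=
  congrFun (helper34_d4mv5 t c) (Sum.inr (8 : Fin 24))

theorem a34_p5e9 (t : F) (c : chevD4.Idx → F) :
    (chevD4.xMat F (5 : Fin 24) t *ᵥ c) (eI 9) = c (eI 9) :=
  congrFun (helper34_d4mv5 t c) (Sum.inr (9 : Fin 24))

theorem a34_p5e10 (t : F) (c : chevD4.Idx → F) :
    (chevD4.xMat F (5 : Fin 24) t *ᵥ c) (eI 10) = c (eI 10) :=
  congrFun (helper34_d4mv5 t c) (Sum.inr (10 : Fin 24))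

theorem a34_p5e11 (t : F) (c : chevD4.Idx → F) :
    (chevD4.xMat F (5 : Fin 24) t *ᵥ c) (eI 11) = c (eI 11) :=
  congrFun (helper34_d4mv5 t c) (Sum.inr (11 : Fin 24))

theorem a34_p5e12 (t : F) (c : chevD4.Idx → F) :
    (chevD4.xMat F (5 : Fin 24) t *ᵥ c) (eI 12) = c (eI 12) :=
  congrFun (helper34_d4mv5 t c) (Sum.inr (12 : Fin 24))

theorem a34_p5e13 (t : F) (c : chevD4.Idx → F) :
    (chevD4.xMat F (5 : Fin 24) t *ᵥ c) (eI 13) = c (eI 13) :=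
  congrFun (helper34_d4mv5 t c) (Sum.inr (13 : Fin 24))

theorem a34_p5e14 (t : F) (c : chevD4.Idx → F) :
    (chevD4.xMat F (5 : Fin 24) t *ᵥ c) (eI 14) = c (eI 14) + -(t * c (eI 19)) :=
  congrFun (helper34_d4mv5 t c) (Sum.inr (14 : Fin 24))

theorem a34_p5e15 (t : F) (c : chevD4.Idx → F) :
    (chevD4.xMat F (5 : Fin 24) t *ᵥ c) (eI 15) = c (eI 15) + -(t * c (eI 20)) :=
  congrFun (helper34_d4mv5 t c) (Sum.inr (15 : Fin 24))

theorem a34_p5e16 (t : F) (c : chevD4.Idx → F) :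
    (chevD4.xMat F (5 : Fin 24) t *ᵥ c) (eI 16) = c (eI 16) + -(t * c (eI 21)) :=
  congrFun (helper34_d4mv5 t c) (Sum.inr (16 : Fin 24))

theorem a34_p5e17 (t : F) (c : chevD4.Idx → F) :
    (chevD4.xMat F (5 : Fin 24) t *ᵥ c) (eI 17) = c (eI 17) + -(t * c (eI 22)) :=
  congrFun (helper34_d4mv5 t c) (Sum.inr (17 : Fin 24))

theorem a34_p5e18 (t : F) (c : chevD4.Idx → F) :
    (chevD4.xMat F (5 : Fin 24) t *ᵥ c) (eI 18) = c (eI 18) :=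
  congrFun (helper34_d4mv5 t c) (Sum.inr (18 : Fin 24))

theorem a34_p5e19 (t : F) (c : chevD4.Idx → F) :
    (chevD4.xMat F (5 : Fin 24) t *ᵥ c) (eI 19) = c (eI 19) :=
  congrFun (helper34_d4mv5 t c) (Sum.inr (19 : Fin 24))

theorem a34_p5e20 (t : F) (c : chevD4.Idx → F) :
    (chevD4.xMat F (5 : Fin 24) t *ᵥ c) (eI 20) = c (eI 20) :=
  congrFun (helper34_d4mv5 t c) (Sum.inr (20 : Fin 24))

theorem a34_p5e21 (t : F) (c : chevD4.Idx → F) :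
    (chevD4.xMat F (5 : Fin 24) t *ᵥ c) (eI 21) = c (eI 21) :=
  congrFun (helper34_d4mv5 t c) (Sum.inr (21 : Fin 24))

theorem a34_p5e22 (t : F) (c : chevD4.Idx → F) :
    (chevD4.xMat F (5 : Fin 24) t *ᵥ c) (eI 22) = c (eI 22) :=
  congrFun (helper34_d4mv5 t c) (Sum.inr (22 : Fin 24))

theorem a34_p5e23 (t : F) (c : chevD4.Idx → F) :
    (chevD4.xMat F (5 : Fin 24) t *ᵥ c) (eI 23) = c (eI 23) :=
  congrFun (helper34_d4mv5 t c) (Sum.inr (23 : Fin 24))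

set_option maxHeartbeats 40000000 in
theorem ad_rel_5 (t : F) (c : chevD4.Idx → F) :
    X8 5 t * Lmap c = Lmap (chevD4.xMat F (5 : Fin 24) t *ᵥ c) * X8 5 t := by
  simp only [Lmap, a34_p5h0, a34_p5h1, a34_p5h2, a34_p5h3, a34_p5e0, a34_p5e1, a34_p5e2, a34_p5e3, a34_p5e4, a34_p5e5, a34_p5e6, a34_p5e7, a34_p5e8, a34_p5e9, a34_p5e10, a34_p5e11, a34_p5e12, a34_p5e13, a34_p5e14, a34_p5e15, a34_p5e16, a34_p5e17, a34_p5e18, a34_p5e19, a34_p5e20, a34_p5e21, a34_p5e22, a34_p5e23]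
  ext i j
  fin_cases i <;> fin_cases j <;>
    simp [X8, Matrix.mul_apply, Fin.sum_univ_succ] <;> ring

end Cfsg.Agent.Lib.helper34.D4
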