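import Cfsg.Agent.Lib.helper34.D4MV0
import Cfsg.Agent.Lib.helper34.D4MV1
import Cfsg.Agent.Lib.helper34.D4MV2
import Cfsg.Agent.Lib.helper34.D4MV3

/-! Umbrella module: explicit `chevD4.xMat F r t *ᵥ c` for all roots (helper34). -/

namespace Cfsg.Agent.Lib.helper34.ChevD4MV

end Cfsg.Agent.Lib.helper34.ChevD4MV
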