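import Mathlib
import Cfsg.Prelude.Def_ChevD4

/-! Explicit form of the root elements `chevD4.xMat F r t` applied to a coordinate vector
(generated by helper34 from the Prelude tables; used for the adjoint relation of S1082). -/

set_option autoImplicit false

namespace Cfsg.Agent.Lib.helper34.ChevD4MV

open Matrix Cfsg Cfsg.Lie

variable {F : Type*} [Field F]

theorem helper34_d4x_ll (r : Fin 24) (t : F) (i' i : Fin 4) :
    chevD4.xMat F r t (Sum.inl i' : Fin 4 ⊕ Fin 24) (Sum.inl i : Fin 4 ⊕ Fin 24) = if i' = i then 1 else 0 := rfl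

theorem helper34_d4x_rl (r : Fin 24) (t : F) (u : Fin 24) (i : Fin 4) :
    chevD4.xMat F r t (Sum.inr u : Fin 4 ⊕ Fin 24) (Sum.inl i : Fin 4 ⊕ Fin 24) =
      if u = r then - (((chevD4.cartanSR.getD i.val #[]).getD r.val 0 : ℤ) : F) * t else 0 := rfl

theorem helper34_d4x_lr (r : Fin 24) (t : F) (i : Fin 4) (s : Fin 24) :
    chevD4.xMat F r t (Sum.inl i : Fin 4 ⊕ Fin 24) (Sum.inr s : Fin 4 ⊕ Fin 24) =
      if s = r then 0 else if s.val = chevD4.negIdx.getD r.val 0 then
        (((chevD4.coroot.getD r.val #[]).getD i.val 0 : ℤ) : F) * t else 0 := rfl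

theorem helper34_d4x_rr (r : Fin 24) (t : F) (u : Fin 24) (s : Fin 24) :
    chevD4.xMat F r t (Sum.inr u : Fin 4 ⊕ Fin 24) (Sum.inr s : Fin 4 ⊕ Fin 24) =
      if s = r then (if u = r then 1 else 0) else if s.val = chevD4.negIdx.getD r.val 0 then
        (if u = s then 1 else if u = r then -(t ^ 2) else 0) else
        (if u = s then 1 else 0) +
             ((chevD4.chainCoeff r.val s.val u.val).map fun km => ((km.2 : ℤ) : F) * t ^ km.1).sum := rfl

end Cfsg.Agent.Lib.helper34.ChevD4MV
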