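/-
helper34: S0679 data (generated): kernel checks of the representative records, part 0.
-/
import Cfsg.Agent.Lib.helper34.Deg11Data

set_option autoImplicit false

namespace Cfsg.Agent.Lib.helper34

open Cfsg

set_option maxRecDepth 100000 in
theorem d11_c0 : allBelow (fun j => withLitB (d11rec j) fun c => withLitB (d11rec (Nat.succ j)) fun c' => repOK d11spec j c c') 700 = true := by decide +kernel

set_option maxRecDepth 100000 in
theorem d11_c1 : allBelow (fun k => (fun j => withLitB (d11rec j) fun c => withLitB (d11rec (Nat.succ j)) fun c' => repOK d11spec j c c') (Nat.add 700 k)) 700 = true := by decide +kernel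

set_option maxRecDepth 100000 in
theorem d11_c2 : allBelow (fun k => (fun j => withLitB (d11rec j) fun c => withLitB (d11rec (Nat.succ j)) fun c' => repOK d11spec j c c') (Nat.add 1400 k)) 700 = true := by decide +kernel

set_option maxRecDepth 100000 in
theorem d11_c3 : allBelow (fun k => (fun j => withLitB (d11rec j) fun c => withLitB (d11rec (Nat.succ j)) fun c' => repOK d11spec j c c') (Nat.add 2100 k)) 700 = true := by decide +kernel

set_option maxRecDepth 100000 in
theorem d11_c4 : allBelow (fun k => (fun j => withLitB (d11rec j) fun c => withLitB (d11rec (Nat.succ j)) fun c' => repOK d11spec j c c') (Nat.add 2800 k)) 700 = true := by decide +kernel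

set_option maxRecDepth 100000 in
theorem d11_c5 : allBelow (fun k => (fun j => withLitB (d11rec j) fun c => withLitB (d11rec (Nat.succ j)) fun c' => repOK d11spec j c c') (Nat.add 3500 k)) 700 = true := by decide +kernel

set_option maxRecDepth 100000 in
theorem d11_c6 : allBelow (fun k => (fun j => withLitB (d11rec j) fun c => withLitB (d11rec (Nat.succ j)) fun c' => repOK d11spec j c c') (Nat.add 4200 k)) 700 = true := by decide +kernel

set_option maxRecDepth 100000 in
theorem d11_c7 : allBelow (fun k => (fun j => withLitB (d11rec j) fun c => withLitB (d11rec (Nat.succ j)) fun c' => repOK d11spec j c c') (Nat.add 4900 k)) 700 = true := by decide +kernel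

set_option maxRecDepth 100000 in
theorem d11_c8 : allBelow (fun k => (fun j => withLitB (d11rec j) fun c => withLitB (d11rec (Nat.succ j)) fun c' => repOK d11spec j c c') (Nat.add 5600 k)) 700 = true := by decide +kernel

set_option maxRecDepth 100000 in
theorem d11_c9 : allBelow (fun k => (fun j => withLitB (d11rec j) fun c => withLitB (d11rec (Nat.succ j)) fun c' => repOK d11spec j c c') (Nat.add 6300 k)) 700 = true := by decide +kernel

set_option maxRecDepth 100000 in
theorem d11_c10 : allBelow (fun k => (fun j => withLitB (d11rec j) fun c => withLitB (d11rec (Nat.succ j)) fun c' => repOK d11spec j c c') (Nat.add 7000 k)) 700 = true := by decide +kernel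

set_option maxRecDepth 100000 in
theorem d11_c11 : allBelow (fun k => (fun j => withLitB (d11rec j) fun c => withLitB (d11rec (Nat.succ j)) fun c' => repOK d11spec j c c') (Nat.add 7700 k)) 700 = true := by decide +kernel

end Cfsg.Agent.Lib.helper34
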