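/-
helper34: S0679 data (generated): kernel checks of the representative records, part 1.
-/
import Cfsg.Agent.Lib.helper34.Deg11Data

set_option autoImplicit false

namespace Cfsg.Agent.Lib.helper34

open Cfsg

set_option maxRecDepth 100000 in
theorem d11_c12 : allBelow (fun k => (fun j => withLitB (d11rec j) fun c => withLitB (d11rec (Nat.succ j)) fun c' => repOK d11spec j c c') (Nat.add 8400 k)) 700 = true := by decide +kernel

set_option maxRecDepth 100000 in
theorem d11_c13 : allBelow (fun k => (fun j => withLitB (d11rec j) fun c => withLitB (d11rec (Nat.succ j)) fun c' => repOK d11spec j c c') (Nat.add 9100 k)) 700 = true := by decide +kernel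

set_option maxRecDepth 100000 in
theorem d11_c14 : allBelow (fun k => (fun j => withLitB (d11rec j) fun c => withLitB (d11rec (Nat.succ j)) fun c' => repOK d11spec j c c') (Nat.add 9800 k)) 700 = true := by decide +kernel

set_option maxRecDepth 100000 in
theorem d11_c15 : allBelow (fun k => (fun j => withLitB (d11rec j) fun c => withLitB (d11rec (Nat.succ j)) fun c' => repOK d11spec j c c') (Nat.add 10500 k)) 700 = true := by decide +kernel

set_option maxRecDepth 100000 in
theorem d11_c16 : allBelow (fun k => (fun j => withLitB (d11rec j) fun c => withLitB (d11rec (Nat.succ j)) fun c' => repOK d11spec j c c') (Nat.add 11200 k)) 700 = true := by decide +kernel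

set_option maxRecDepth 100000 in
theorem d11_c17 : allBelow (fun k => (fun j => withLitB (d11rec j) fun c => withLitB (d11rec (Nat.succ j)) fun c' => repOK d11spec j c c') (Nat.add 11900 k)) 700 = true := by decide +kernel

set_option maxRecDepth 100000 in
theorem d11_c18 : allBelow (fun k => (fun j => withLitB (d11rec j) fun c => withLitB (d11rec (Nat.succ j)) fun c' => repOK d11spec j c c') (Nat.add 12600 k)) 700 = true := by decide +kernel

set_option maxRecDepth 100000 in
theorem d11_c19 : allBelow (fun k => (fun j => withLitB (d11rec j) fun c => withLitB (d11rec (Nat.succ j)) fun c' => repOK d11spec j c c') (Nat.add 13300 k)) 700 = true := by decide +kernel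

set_option maxRecDepth 100000 in
theorem d11_c20 : allBelow (fun k => (fun j => withLitB (d11rec j) fun c => withLitB (d11rec (Nat.succ j)) fun c' => repOK d11spec j c c') (Nat.add 14000 k)) 700 = true := by decide +kernel

set_option maxRecDepth 100000 in
theorem d11_c21 : allBelow (fun k => (fun j => withLitB (d11rec j) fun c => withLitB (d11rec (Nat.succ j)) fun c' => repOK d11spec j c c') (Nat.add 14700 k)) 700 = true := by decide +kernel

set_option maxRecDepth 100000 in
theorem d11_c22 : allBelow (fun k => (fun j => withLitB (d11rec j) fun c => withLitB (d11rec (Nat.succ j)) fun c' => repOK d11spec j c c') (Nat.add 15400 k)) 700 = true := by decide +kernel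

set_option maxRecDepth 100000 in
theorem d11_c23 : allBelow (fun k => (fun j => withLitB (d11rec j) fun c => withLitB (d11rec (Nat.succ j)) fun c' => repOK d11spec j c c') (Nat.add 16100 k)) 700 = true := by decide +kernel

end Cfsg.Agent.Lib.helper34
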