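/-
helper34: S0679 data (generated): kernel checks of the representative records, part 2.
-/
import Cfsg.Agent.Lib.helper34.Deg11Data

set_option autoImplicit false

namespace Cfsg.Agent.Lib.helper34

open Cfsg

set_option maxRecDepth 100000 in
theorem d11_c24 : allBelow (fun k => (fun j => withLitB (d11rec j) fun c => withLitB (d11rec (Nat.succ j)) fun c' => repOK d11spec j c c') (Nat.add 16800 k)) 700 = true := by decide +kernel

set_option maxRecDepth 100000 in
theorem d11_c25 : allBelow (fun k => (fun j => withLitB (d11rec j) fun c => withLitB (d11rec (Nat.succ j)) fun c' => repOK d11spec j c c') (Nat.add 17500 k)) 700 = true := by decide +kernel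

set_option maxRecDepth 100000 in
theorem d11_c26 : allBelow (fun k => (fun j => withLitB (d11rec j) fun c => withLitB (d11rec (Nat.succ j)) fun c' => repOK d11spec j c c') (Nat.add 18200 k)) 700 = true := by decide +kernel

set_option maxRecDepth 100000 in
theorem d11_c27 : allBelow (fun k => (fun j => withLitB (d11rec j) fun c => withLitB (d11rec (Nat.succ j)) fun c' => repOK d11spec j c c') (Nat.add 18900 k)) 700 = true := by decide +kernel

set_option maxRecDepth 100000 in
theorem d11_c28 : allBelow (fun k => (fun j => withLitB (d11rec j) fun c => withLitB (d11rec (Nat.succ j)) fun c' => repOK d11spec j c c') (Nat.add 19600 k)) 700 = true := by decide +kernel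

set_option maxRecDepth 100000 in
theorem d11_c29 : allBelow (fun k => (fun j => withLitB (d11rec j) fun c => withLitB (d11rec (Nat.succ j)) fun c' => repOK d11spec j c c') (Nat.add 20300 k)) 700 = true := by decide +kernel

set_option maxRecDepth 100000 in
theorem d11_c30 : allBelow (fun k => (fun j => withLitB (d11rec j) fun c => withLitB (d11rec (Nat.succ j)) fun c' => repOK d11spec j c c') (Nat.add 21000 k)) 700 = true := by decide +kernel

set_option maxRecDepth 100000 in
theorem d11_c31 : allBelow (fun k => (fun j => withLitB (d11rec j) fun c => withLitB (d11rec (Nat.succ j)) fun c' => repOK d11spec j c c') (Nat.add 21700 k)) 700 = true := by decide +kernel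

set_option maxRecDepth 100000 in
theorem d11_c32 : allBelow (fun k => (fun j => withLitB (d11rec j) fun c => withLitB (d11rec (Nat.succ j)) fun c' => repOK d11spec j c c') (Nat.add 22400 k)) 700 = true := by decide +kernel

set_option maxRecDepth 100000 in
theorem d11_c33 : allBelow (fun k => (fun j => withLitB (d11rec j) fun c => withLitB (d11rec (Nat.succ j)) fun c' => repOK d11spec j c c') (Nat.add 23100 k)) 700 = true := by decide +kernel

set_option maxRecDepth 100000 in
theorem d11_c34 : allBelow (fun k => (fun j => withLitB (d11rec j) fun c => withLitB (d11rec (Nat.succ j)) fun c' => repOK d11spec j c c') (Nat.add 23800 k)) 700 = true := by decide +kernel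

set_option maxRecDepth 100000 in
theorem d11_c35 : allBelow (fun k => (fun j => withLitB (d11rec j) fun c => withLitB (d11rec (Nat.succ j)) fun c' => repOK d11spec j c c') (Nat.add 24500 k)) 700 = true := by decide +kernel

end Cfsg.Agent.Lib.helper34
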