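/-
helper34: S0679 data (generated): kernel checks of the representative records, part 3.
-/
import Cfsg.Agent.Lib.helper34.Deg11Data

set_option autoImplicit false

namespace Cfsg.Agent.Lib.helper34

open Cfsg

set_option maxRecDepth 100000 in
theorem d11_c36 : allBelow (fun k => (fun j => withLitB (d11rec j) fun c => withLitB (d11rec (Nat.succ j)) fun c' => repOK d11spec j c c') (Nat.add 25200 k)) 700 = true := by decide +kernel

set_option maxRecDepth 100000 in
theorem d11_c37 : allBelow (fun k => (fun j => withLitB (d11rec j) fun c => withLitB (d11rec (Nat.succ j)) fun c' => repOK d11spec j c c') (Nat.add 25900 k)) 700 = true := by decide +kernel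

set_option maxRecDepth 100000 in
theorem d11_c38 : allBelow (fun k => (fun j => withLitB (d11rec j) fun c => withLitB (d11rec (Nat.succ j)) fun c' => repOK d11spec j c c') (Nat.add 26600 k)) 700 = true := by decide +kernel

set_option maxRecDepth 100000 in
theorem d11_c39 : allBelow (fun k => (fun j => withLitB (d11rec j) fun c => withLitB (d11rec (Nat.succ j)) fun c' => repOK d11spec j c c') (Nat.add 27300 k)) 700 = true := by decide +kernel

set_option maxRecDepth 100000 in
theorem d11_c40 : allBelow (fun k => (fun j => withLitB (d11rec j) fun c => withLitB (d11rec (Nat.succ j)) fun c' => repOK d11spec j c c') (Nat.add 28000 k)) 700 = true := by decide +kernel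

set_option maxRecDepth 100000 in
theorem d11_c41 : allBelow (fun k => (fun j => withLitB (d11rec j) fun c => withLitB (d11rec (Nat.succ j)) fun c' => repOK d11spec j c c') (Nat.add 28700 k)) 700 = true := by decide +kernel

set_option maxRecDepth 100000 in
theorem d11_c42 : allBelow (fun k => (fun j => withLitB (d11rec j) fun c => withLitB (d11rec (Nat.succ j)) fun c' => repOK d11spec j c c') (Nat.add 29400 k)) 700 = true := by decide +kernel

set_option maxRecDepth 100000 in
theorem d11_c43 : allBelow (fun k => (fun j => withLitB (d11rec j) fun c => withLitB (d11rec (Nat.succ j)) fun c' => repOK d11spec j c c') (Nat.add 30100 k)) 700 = true := by decide +kernel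

set_option maxRecDepth 100000 in
theorem d11_c44 : allBelow (fun k => (fun j => withLitB (d11rec j) fun c => withLitB (d11rec (Nat.succ j)) fun c' => repOK d11spec j c c') (Nat.add 30800 k)) 700 = true := by decide +kernel

set_option maxRecDepth 100000 in
theorem d11_c45 : allBelow (fun k => (fun j => withLitB (d11rec j) fun c => withLitB (d11rec (Nat.succ j)) fun c' => repOK d11spec j c c') (Nat.add 31500 k)) 700 = true := by decide +kernel

set_option maxRecDepth 100000 in
theorem d11_c46 : allBelow (fun k => (fun j => withLitB (d11rec j) fun c => withLitB (d11rec (Nat.succ j)) fun c' => repOK d11spec j c c') (Nat.add 32200 k)) 789 = true := by decide +kernel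

end Cfsg.Agent.Lib.helper34
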