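/-
helper34 shared library: the double cosets of a subgroup `P` of order 11 in `Spor.M22`.
A sorting key constant on the double cosets `P g P`, checks on packed tables showing that a
table does not normalise `P` and that a short word in `x` and the table has order 7, and the
resulting bound: a subgroup of `Spor.M22` of order divisible by 11 but not by 7 has at most 660
elements.
-/
import Cfsg.Agent.Lib.helper34.GolayEnumBlock
import Cfsg.Agent.Lib.helper9.M24Trans
import Cfsg.Prelude.Def_Spor_Mathieu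

set_option autoImplicit false

namespace Cfsg.Agent.Lib.helper34

open Cfsg
open scoped Pointwise

/-! ### A consequence of the conjugacy of Sylow subgroups -/

/-- If `p ^ 2` does not divide the order of `G`, every subgroup of order divisible by `p`
contains a conjugate of any given element of order `p`. -/
theorem exists_conj_mem_of_prime_dvd {G : Type*} [Group G] [Finite G] (p : ℕ)
    [hp : Fact p.Prime] (hG : ¬ p ^ 2 ∣ Nat.card G) (x : G) (hx : orderOf x = p)
    (K : Subgroup G) (hK : p ∣ Nat.card K) : ∃ g : G, g * x * g⁻¹ ∈ K := by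
  obtain ⟨y, hy⟩ := exists_prime_orderOf_dvd_card' p hK
  have hne : Nat.card G ≠ 0 := Nat.card_pos.ne'
  have hf : (Nat.card G).factorization p = 1 := by
    have h1 : p ∣ Nat.card G := hx ▸ orderOf_dvd_natCard x
    apply le_antisymm
    · by_contra h
      push Not at h
      exact hG ((hp.out.pow_dvd_iff_le_factorization hne).mpr h)
    · exact (hp.out.dvd_iff_one_le_factorization hne).mp h1
  have cx : Nat.card (Subgroup.zpowers x) = p ^ (Nat.card G).factorization p := by
    rw [hf, pow_one, Nat.card_zpowers, hx]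
  have cy : Nat.card (Subgroup.zpowers (y : G)) = p ^ (Nat.card G).factorization p := by
    rw [hf, pow_one, Nat.card_zpowers, Subgroup.orderOf_coe, hy]
  obtain ⟨g, hg⟩ := MulAction.exists_smul_eq G (Sylow.ofCard _ cx) (Sylow.ofCard _ cy)
  refine ⟨g, ?_⟩
  have h1 : MulAut.conj g • x ∈ MulAut.conj g • Subgroup.zpowers x :=
    Subgroup.smul_mem_pointwise_smul _ _ _ (Subgroup.mem_zpowers x)
  have h2 : MulAut.conj g • Subgroup.zpowers x = Subgroup.zpowers (y : G) := by
    have := congrArg (fun S : Sylow p G => (S : Subgroup G)) hg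
    simpa [Sylow.coe_subgroup_smul] using this
  rw [h2] at h1
  have h3 : Subgroup.zpowers (y : G) ≤ K := by
    rw [Subgroup.zpowers_le]
    exact y.2
  exact h3 h1

/-- Conjugate of a subgroup of permutations. -/
def conjSub (g : Equiv.Perm GolayPt) (K : Subgroup (Equiv.Perm GolayPt)) :
    Subgroup (Equiv.Perm GolayPt) := K.map (MulAut.conj g).toMonoidHom

theorem mem_conjSub {g : Equiv.Perm GolayPt} {K : Subgroup (Equiv.Perm GolayPt)}
    {h : Equiv.Perm GolayPt} : h ∈ conjSub g K ↔ g⁻¹ * h * g ∈ K := by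
  unfold conjSub
  rw [Subgroup.mem_map]
  constructor
  · rintro ⟨k, hk, rfl⟩
    have : g⁻¹ * (MulAut.conj g).toMonoidHom k * g = k := by
      show g⁻¹ * (g * k * g⁻¹) * g = k
      group
    rw [this]
    exact hk
  · intro hk
    refine ⟨_, hk, ?_⟩
    show g * (g⁻¹ * h * g) * g⁻¹ = h
    group

theorem card_conjSub (g : Equiv.Perm GolayPt) (K : Subgroup (Equiv.Perm GolayPt)) :
    Nat.card (conjSub g K) = Nat.card K :=
  Subgroup.card_map_of_injective (MulAut.conj g).injective

/-! ### Functions on indices describing permutations -/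

/-- Bool-valued evaluation at a number, forcing the number first. -/
def withLitB (x : ℕ) (f : ℕ → Bool) : Bool :=
  match x with
  | Nat.zero => f Nat.zero
  | Nat.succ p => f (Nat.succ p)

theorem withLitB_eq (x : ℕ) (f : ℕ → Bool) : withLitB x f = f x := by
  cases x <;> rfl

/-- The function `f` on indices describes the permutation `g`. -/
def PRep (f : ℕ → ℕ) (g : Equiv.Perm GolayPt) : Prop := ∀ p, idx (g p) = f (idx p)

theorem Rep.prep {c : ℕ} {g : Equiv.Perm GolayPt} (h : Rep c g) : PRep (dig c) g := h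

theorem PRep.mul {f f' : ℕ → ℕ} {g g' : Equiv.Perm GolayPt} (h : PRep f g) (h' : PRep f' g') :
    PRep (fun t => f (f' t)) (g * g') := by
  intro p
  show idx (g (g' p)) = f (f' (idx p))
  rw [h (g' p), h' p]

theorem prep_one : PRep (fun t => t) 1 := fun _ => rfl

theorem PRep.apply {f : ℕ → ℕ} {g : Equiv.Perm GolayPt} (h : PRep f g) {t : ℕ} (ht : t < 24) :
    f t = idx (g (ptOf t)) := by
  have := h (ptOf t)
  rw [idx_ptOf ht] at this
  exact this.symm

theorem PRep.eq_one {f : ℕ → ℕ} {g : Equiv.Perm GolayPt} (h : PRep f g)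
    (hf : ∀ t < 24, f t = t) : g = 1 := by
  apply Equiv.ext
  intro p
  apply idx_injective
  rw [h p, hf _ (idx_lt p)]
  rfl

theorem PRep.ne_one {f : ℕ → ℕ} {g : Equiv.Perm GolayPt} (h : PRep f g) {t : ℕ} (ht : t < 24)
    (hf : f t ≠ t) : g ≠ 1 := by
  intro e
  apply hf
  rw [h.apply ht, e]
  exact idx_ptOf ht

/-- The index function of a permutation. -/
def pfun (g : Equiv.Perm GolayPt) (t : ℕ) : ℕ := idx (g (ptOf t))

theorem pfun_lt (g : Equiv.Perm GolayPt) (t : ℕ) : pfun g t < 24 := idx_lt _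

/-! ### The element of order 11 -/

/-- Index table of an element of order 11 of `Spor.M22`. -/
def xtab : List ℕ :=
  [0, 12, 18, 4, 20, 13, 11, 1, 7, 17, 16, 10, 15, 21, 3, 14, 9, 5, 6, 8, 22, 2, 19, 23]

/-- Index table of its inverse. -/
def xinv : List ℕ :=
  [0, 7, 21, 14, 3, 17, 18, 8, 19, 16, 11, 6, 1, 5, 15, 12, 10, 9, 2, 22, 4, 13, 20, 23]

theorem xtab_ok : GensOK [(xtab, xinv)] := by decide +kernel

theorem xtab_valid : ValidPerm xtab xinv := (xtab_ok (xtab, xinv) (List.mem_singleton.2 rfl)).1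

/-- An element of order 11 of `Spor.M22`. -/
def x11 : Equiv.Perm GolayPt := tperm xtab xinv

/-- The packed tables of the powers `x11 ^ 0, …, x11 ^ 10`. -/
def X11c : ℕ := nat_lit 0xbd1a4b092a63ca132e1344a23754e0b90a3a560b0b227919569892e7b500b8e2e235463852814974b560f61660bb92f1957241e13a88c4a354c0c6c0bbe0c744c29a1566d643215613a680bb1417a655b4d742b44e1c4c744080b85676404da58c4896af726489a860b9cc80aaa5252434c5ac7c053b2dc0ba2533adb11904e824a162ab6a19e0bcc56418a970eaf542270adb424980bdab49ca307b9ac5a928398a418820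

/-- For each index `t` in `1..22`, the exponent `i` with `x11 ^ i` mapping `t` to `1` or `2`. -/
def IT11 : ℕ := nat_lit 0x10251a8864a04a41ca20a46638000

/-- A table permutation in `M24` fixing the indices 23 and 0 lies in `Spor.M22`. -/
theorem tperm_mem_M22 {f fi : List ℕ} (hv : ValidPerm f fi) (hm : tperm f fi ∈ M24)
    (h23 : f.getD 23 0 = 23) (h0 : f.getD 0 0 = 0) : tperm f fi ∈ Spor.M22 := by
  refine ⟨⟨hm, ?_⟩, ?_⟩
  · show tperm f fi none = none
    rw [tperm_apply hv]
    show ptOf (f.getD 23 0) = none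
    rw [h23]
    rfl
  · show tperm f fi (some 0) = some 0
    rw [tperm_apply hv]
    show ptOf (f.getD 0 0) = some 0
    rw [h0]
    rfl

theorem x11_mem : x11 ∈ Spor.M22 :=
  tperm_mem_M22 xtab_valid (xtab_ok.mem_M24 (xtab, xinv) (List.mem_singleton.2 rfl)).2
    (by decide) (by decide)

theorem x11_rep1 : Rep (ent X11c 1) x11 := rep_tperm xtab_valid (by decide +kernel)

theorem x11_rep : ∀ m < 11, Rep (ent X11c m) (x11 ^ m) := by
  have hc : allBelow (fun m => compOK (ent X11c m) (ent X11c 1) (ent X11c (Nat.succ m))) 10 = true := by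
    decide +kernel
  intro m
  induction m with
  | zero =>
    intro _
    rw [pow_zero]
    exact rep_one (by decide +kernel)
  | succ m ih =>
    intro hm
    rw [pow_succ]
    exact (ih (by omega)).mul x11_rep1 (allBelow_spec hc m (by omega))

theorem x11_pow : x11 ^ 11 = 1 := by
  have h : Rep (ent X11c 0) (x11 ^ 10 * x11) :=
    (x11_rep 10 (by norm_num)).mul x11_rep1 (by decide +kernel)
  rw [pow_succ]
  exact h.eq_one (by decide +kernel)

theorem x11_ne : x11 ≠ 1 := by
  refine x11_rep1.prep.ne_one (t := 1) (by norm_num) ?_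
  decide +kernel

theorem x11_order : orderOf x11 = 11 :=
  haveI : Fact (Nat.Prime 11) := ⟨by norm_num⟩
  orderOf_eq_prime x11_pow x11_ne

/-! ### The sorting key of a double coset -/

/-- Horner key of the values at the seven base points `2, 3, 4, 5, 6, 7, 1`. -/
def hkey (h : ℕ → ℕ) : ℕ :=
  Nat.add (h 1) (Nat.mul 32 (Nat.add (h 7) (Nat.mul 32 (Nat.add (h 6) (Nat.mul 32
    (Nat.add (h 5) (Nat.mul 32 (Nat.add (h 4) (Nat.mul 32 (Nat.add (h 3)
      (Nat.mul 32 (h 2))))))))))))

theorem hkey_congr {h h' : ℕ → ℕ} (e : ∀ b, 1 ≤ b → b ≤ 7 → h b = h' b) : hkey h = hkey h' := by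
  unfold hkey
  rw [e 1 (by norm_num) (by norm_num), e 2 (by norm_num) (by norm_num),
    e 3 (by norm_num) (by norm_num), e 4 (by norm_num) (by norm_num),
    e 5 (by norm_num) (by norm_num), e 6 (by norm_num) (by norm_num),
    e 7 (by norm_num) (by norm_num)]

/-- The key of the index function `f` after right translation by `x11 ^ j`, normalised on the
left. -/
def keyJ (f : ℕ → ℕ) (j : ℕ) : ℕ :=
  withLit (ent X11c j) fun xj =>
  withLit (ent X11c (dig IT11 (f (dig xj 1)))) fun xi =>
  hkey (fun b => dig xi (f (dig xj b)))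

theorem keyJ_eq (f : ℕ → ℕ) (j : ℕ) : keyJ f j =
    hkey (fun b => dig (ent X11c (dig IT11 (f (dig (ent X11c j) 1))))
      (f (dig (ent X11c j) b))) := by
  unfold keyJ
  rw [withLit_eq, withLit_eq]

/-- Minimum of two numbers, both forced first. -/
def minU (a b : ℕ) : ℕ :=
  withLit a fun a' => withLit b fun b' => bif Nat.ble a' b' then a' else b'

theorem minU_eq (a b : ℕ) : minU a b = min a b := by
  unfold minU
  rw [withLit_eq, withLit_eq]
  cases h : Nat.ble a b
  · have h1 : ¬ a ≤ b := by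
      intro h2
      rw [Nat.ble_eq_true_of_le h2] at h
      exact Bool.noConfusion h
    simp only [cond_false]
    omega
  · have h1 : a ≤ b := Nat.le_of_ble_eq_true h
    simp only [cond_true]
    omega

/-- Minimum of `F 0, …, F n`. -/
def minB (F : ℕ → ℕ) : ℕ → ℕ
  | 0 => F 0
  | n+1 => minU (F (n+1)) (minB F n)

theorem minB_le (F : ℕ → ℕ) (n : ℕ) : ∀ j ≤ n, minB F n ≤ F j := by
  induction n with
  | zero =>
    intro j hj
    rw [Nat.le_zero.mp hj]
    exact le_rfl
  | succ n ih =>
    intro j hj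
    show minU (F (n+1)) (minB F n) ≤ F j
    rw [minU_eq]
    rcases Nat.lt_succ_iff_lt_or_eq.mp (Nat.lt_succ_of_le hj) with h | h
    · exact le_trans (min_le_right _ _) (ih j (by omega))
    · rw [h]
      exact min_le_left _ _

theorem minB_mem (F : ℕ → ℕ) (n : ℕ) : ∃ j ≤ n, minB F n = F j := by
  induction n with
  | zero => exact ⟨0, le_rfl, rfl⟩
  | succ n ih =>
    obtain ⟨j, hj, e⟩ := ih
    show ∃ j ≤ n+1, minU (F (n+1)) (minB F n) = F j
    rw [minU_eq]
    rcases le_total (F (n+1)) (minB F n) with h | h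
    · exact ⟨n+1, le_rfl, min_eq_left h⟩
    · exact ⟨j, by omega, by rw [min_eq_right h, e]⟩

theorem minB_congr {F F' : ℕ → ℕ} {n : ℕ} (h : ∀ j ≤ n, F j = F' j) :
    minB F n = minB F' n := by
  induction n with
  | zero => exact h 0 le_rfl
  | succ n ih =>
    show minU (F (n+1)) (minB F n) = minU (F' (n+1)) (minB F' n)
    rw [h (n+1) le_rfl, ih (fun j hj => h j (by omega))]

theorem minB_perm {F F' : ℕ → ℕ} {n : ℕ} (σ τ : ℕ → ℕ)
    (hσ : ∀ j ≤ n, σ j ≤ n ∧ F' j = F (σ j)) (hτ : ∀ j ≤ n, τ j ≤ n ∧ F j = F' (τ j)) :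
    minB F' n = minB F n := by
  apply le_antisymm
  · obtain ⟨j, hj, e⟩ := minB_mem F n
    rw [e, (hτ j hj).2]
    exact minB_le F' n _ (hτ j hj).1
  · obtain ⟨j, hj, e⟩ := minB_mem F' n
    rw [e, (hσ j hj).2]
    exact minB_le F n _ (hσ j hj).1

/-- The sorting key of an index function. -/
def kap (f : ℕ → ℕ) : ℕ := minB (keyJ f) 10

/-- The sorting key of a permutation. -/
def kapP (g : Equiv.Perm GolayPt) : ℕ := kap (pfun g)

theorem xd_lt : ∀ j < 11, ∀ b < 24, dig (ent X11c j) b < 24 := by decide +kernel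

theorem xd_step : ∀ j < 11, ∀ b < 24,
    dig (ent X11c 1) (dig (ent X11c j) b) = dig (ent X11c ((j + 1) % 11)) b := by
  decide +kernel

theorem xd_base : ∀ j < 11, 1 ≤ dig (ent X11c j) 1 ∧ dig (ent X11c j) 1 ≤ 22 := by
  decide +kernel

theorem it_step : ∀ t < 24, 1 ≤ t → t ≤ 22 →
    dig IT11 (dig (ent X11c 1) t) = (dig IT11 t + 10) % 11 := by
  decide +kernel

theorem it_lt : ∀ t < 24, dig IT11 t < 11 := by decide +kernel

theorem xd_back : ∀ i < 11, ∀ n < 24,
    dig (ent X11c ((i + 10) % 11)) (dig (ent X11c 1) n) = dig (ent X11c i) n := by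
  decide +kernel

theorem keyJ_congr {f f' : ℕ → ℕ} (h : ∀ t < 24, f t = f' t) {j : ℕ} (hj : j < 11) :
    keyJ f j = keyJ f' j := by
  rw [keyJ_eq, keyJ_eq]
  have e1 : f (dig (ent X11c j) 1) = f' (dig (ent X11c j) 1) :=
    h _ (xd_lt j hj 1 (by norm_num))
  rw [e1]
  apply hkey_congr
  intro b hb1 hb7
  show dig _ (f (dig (ent X11c j) b)) = dig _ (f' (dig (ent X11c j) b))
  rw [h _ (xd_lt j hj b (by omega))]

theorem kap_congr {f f' : ℕ → ℕ} (h : ∀ t < 24, f t = f' t) : kap f = kap f' :=
  minB_congr (fun _ hj => keyJ_congr h (by omega))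

theorem Rep.kap_eq {c : ℕ} {g : Equiv.Perm GolayPt} (h : Rep c g) : kap (dig c) = kapP g :=
  kap_congr (fun _ ht => h.dig_eq ht)

theorem pfun_mul_x11 (g : Equiv.Perm GolayPt) {t : ℕ} (ht : t < 24) :
    pfun (g * x11) t = pfun g (dig (ent X11c 1) t) := by
  show idx (g (x11 (ptOf t))) = idx (g (ptOf (dig (ent X11c 1) t)))
  have : x11 (ptOf t) = ptOf (dig (ent X11c 1) t) := by
    apply idx_injective
    rw [x11_rep1 (ptOf t), idx_ptOf ht, idx_ptOf (xd_lt 1 (by norm_num) t ht)]
  rw [this]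

theorem keyJ_mul_right (g : Equiv.Perm GolayPt) {j : ℕ} (hj : j < 11) :
    keyJ (pfun (g * x11)) j = keyJ (pfun g) ((j + 1) % 11) := by
  rw [keyJ_eq, keyJ_eq]
  have e : ∀ b < 24, pfun (g * x11) (dig (ent X11c j) b) =
      pfun g (dig (ent X11c ((j + 1) % 11)) b) := by
    intro b hb
    rw [pfun_mul_x11 g (xd_lt j hj b hb), xd_step j hj b hb]
  rw [e 1 (by norm_num)]
  apply hkey_congr
  intro b hb1 hb7
  show dig _ (pfun (g * x11) (dig (ent X11c j) b)) =
    dig _ (pfun g (dig (ent X11c ((j + 1) % 11)) b))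
  rw [e b (by omega)]

theorem kapP_mul_right (g : Equiv.Perm GolayPt) : kapP (g * x11) = kapP g := by
  apply minB_perm (fun j => (j + 1) % 11) (fun j => (j + 10) % 11)
  · intro j hj
    exact ⟨by omega, keyJ_mul_right g (by omega)⟩
  · intro j hj
    refine ⟨by omega, ?_⟩
    rw [keyJ_mul_right g (by omega)]
    congr 1
    omega

/-- The permutation fixes the indices 0 and 23. -/
def Fix2 (g : Equiv.Perm GolayPt) : Prop := pfun g 0 = 0 ∧ pfun g 23 = 23

theorem Fix2.range {g : Equiv.Perm GolayPt} (h : Fix2 g) {t : ℕ} (h1 : 1 ≤ t) (h2 : t ≤ 22) :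
    1 ≤ pfun g t ∧ pfun g t ≤ 22 := by
  have hlt := pfun_lt g t
  have h0 : pfun g t ≠ 0 := by
    intro e
    have e1 : g (ptOf t) = g (ptOf 0) := idx_injective (e.trans h.1.symm)
    have e2 := ptOf_injOn (by omega) (by norm_num) (g.injective e1)
    omega
  have h23 : pfun g t ≠ 23 := by
    intro e
    have e1 : g (ptOf t) = g (ptOf 23) := idx_injective (e.trans h.2.symm)
    have e2 := ptOf_injOn (by omega) (by norm_num) (g.injective e1)
    omega
  omega

theorem pfun_x11_mul (g : Equiv.Perm GolayPt) (t : ℕ) :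
    pfun (x11 * g) t = dig (ent X11c 1) (pfun g t) :=
  x11_rep1 (g (ptOf t))

theorem keyJ_mul_left (g : Equiv.Perm GolayPt) (h : Fix2 g) {j : ℕ} (hj : j < 11) :
    keyJ (pfun (x11 * g)) j = keyJ (pfun g) j := by
  rw [keyJ_eq, keyJ_eq]
  obtain ⟨b1, b2⟩ := xd_base j hj
  obtain ⟨r1, r2⟩ := h.range b1 b2
  have e1 : dig IT11 (pfun (x11 * g) (dig (ent X11c j) 1)) =
      (dig IT11 (pfun g (dig (ent X11c j) 1)) + 10) % 11 := by
    rw [pfun_x11_mul, it_step _ (by omega) r1 r2]
  rw [e1]
  apply hkey_congr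
  intro b _ _
  show dig _ (pfun (x11 * g) (dig (ent X11c j) b)) = dig _ (pfun g (dig (ent X11c j) b))
  rw [pfun_x11_mul, xd_back _ (it_lt _ (by omega)) _ (pfun_lt _ _)]

theorem kapP_mul_left (g : Equiv.Perm GolayPt) (h : Fix2 g) : kapP (x11 * g) = kapP g :=
  minB_congr (fun _ hj => keyJ_mul_left g h (by omega))

theorem fix2_x11 : Fix2 x11 := by
  constructor
  · show idx (x11 (ptOf 0)) = 0
    rw [x11_rep1 (ptOf 0), idx_ptOf (by norm_num)]
    decide +kernel
  · show idx (x11 (ptOf 23)) = 23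
    rw [x11_rep1 (ptOf 23), idx_ptOf (by norm_num)]
    decide +kernel

theorem Fix2.mul {g g' : Equiv.Perm GolayPt} (h : Fix2 g) (h' : Fix2 g') : Fix2 (g * g') := by
  have a : g' (ptOf 0) = ptOf 0 := idx_injective (h'.1.trans (idx_ptOf (by norm_num)).symm)
  have b : g' (ptOf 23) = ptOf 23 := idx_injective (h'.2.trans (idx_ptOf (by norm_num)).symm)
  constructor
  · show idx (g (g' (ptOf 0))) = 0
    rw [a]
    exact h.1
  · show idx (g (g' (ptOf 23))) = 23
    rw [b]
    exact h.2

theorem fix2_of_mem {g : Equiv.Perm GolayPt} (h : g ∈ Spor.M22) : Fix2 g := by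
  obtain ⟨⟨_, h1⟩, h2⟩ := h
  have h1' : g none = none := h1
  have h2' : g (some 0) = some 0 := h2
  constructor
  · show idx (g (ptOf 0)) = 0
    have e : ptOf 0 = some 0 := rfl
    rw [e, h2']
    rfl
  · show idx (g (ptOf 23)) = 23
    have e : ptOf 23 = none := rfl
    rw [e, h1']
    rfl

theorem Fix2.pow_mul {g : Equiv.Perm GolayPt} (h : Fix2 g) (i : ℕ) : Fix2 (x11 ^ i * g) := by
  induction i with
  | zero => rwa [pow_zero, one_mul]
  | succ i ih =>
    rw [pow_succ', mul_assoc]
    exact fix2_x11.mul ih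

theorem kapP_pow_mul (g : Equiv.Perm GolayPt) (h : Fix2 g) (i : ℕ) :
    kapP (x11 ^ i * g) = kapP g := by
  induction i with
  | zero => rw [pow_zero, one_mul]
  | succ i ih => rw [pow_succ', mul_assoc, kapP_mul_left _ (h.pow_mul i), ih]

theorem kapP_mul_pow (g : Equiv.Perm GolayPt) (j : ℕ) : kapP (g * x11 ^ j) = kapP g := by
  induction j with
  | zero => rw [pow_zero, mul_one]
  | succ j ih => rw [pow_succ, ← mul_assoc, kapP_mul_right, ih]

theorem kapP_double (g : Equiv.Perm GolayPt) (h : Fix2 g) (i j : ℕ) :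
    kapP (x11 ^ i * g * x11 ^ j) = kapP g := by
  rw [kapP_mul_pow, kapP_pow_mul g h]

/-! ### Checks on packed tables -/

/-- The table `r` does not conjugate `x11` to any of its powers. -/
def nnOK (r : ℕ) : Bool :=
  allBelow (fun m => not (allBelow (fun t =>
    Nat.beq (dig r (dig (ent X11c 1) t)) (dig (ent X11c m) (dig r t))) 24)) 11

theorem nnOK_spec {r : ℕ} {g : Equiv.Perm GolayPt} (h : nnOK r = true) (hr : Rep r g) :
    ∀ m < 11, g * x11 ≠ x11 ^ m * g := by
  intro m hm e
  have h1 := allBelow_spec h m hm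
  have h2 : allBelow (fun t =>
      Nat.beq (dig r (dig (ent X11c 1) t)) (dig (ent X11c m) (dig r t))) 24 = true := by
    apply allBelow_of_forall
    intro t ht
    have a := (hr.prep.mul x11_rep1.prep).apply ht
    have b := ((x11_rep m hm).prep.mul hr.prep).apply ht
    rw [e] at a
    have c : dig r (dig (ent X11c 1) t) = dig (ent X11c m) (dig r t) := a.trans b.symm
    show Nat.beq (dig r (dig (ent X11c 1) t)) (dig (ent X11c m) (dig r t)) = true
    rw [c]
    exact Nat.beq_refl _
  rw [h2] at h1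
  exact absurd h1 (by decide)

/-- One factor of a word: the table of `x11 ^ e * r` for `e < 11`, the identity otherwise. -/
def wstep (r e t : ℕ) : ℕ := bif Nat.blt e 11 then dig (ent X11c e) (dig r t) else t

/-- The index function of a word with three factors. -/
def wfn (r a b c t : ℕ) : ℕ := wstep r c (wstep r b (wstep r a t))

/-- The seventh power of the index function of a word. -/
def w7 (r a b c t : ℕ) : ℕ :=
  wfn r a b c (wfn r a b c (wfn r a b c (wfn r a b c (wfn r a b c (wfn r a b c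
    (wfn r a b c t))))))

/-- The word with exponents `a, b, c` in `x11` and the table `r` has order 7. -/
def wordOK3 (r a b c : ℕ) : Bool :=
  and (allBelow (fun t => Nat.beq (w7 r a b c t) t) 24)
    (not (allBelow (fun t => Nat.beq (wfn r a b c t) t) 24))

/-- The word with packed exponents `w` in `x11` and the table `r` has order 7. -/
def wordOK (r w : ℕ) : Bool :=
  withLitB (Nat.land w 15) fun a =>
  withLitB (Nat.land (Nat.shiftRight w 4) 15) fun b =>
  withLitB (Nat.land (Nat.shiftRight w 8) 15) fun c => wordOK3 r a b c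

/-- One factor of a word, as a permutation. -/
def wfac (g : Equiv.Perm GolayPt) (e : ℕ) : Equiv.Perm GolayPt :=
  if e < 11 then x11 ^ e * g else 1

theorem wstep_prep {r : ℕ} {g : Equiv.Perm GolayPt} (hr : Rep r g) (e : ℕ) :
    PRep (wstep r e) (wfac g e) := by
  unfold wfac
  by_cases he : e < 11
  · rw [if_pos he]
    have e1 : wstep r e = fun t => dig (ent X11c e) (dig r t) := by
      funext t
      unfold wstep
      rw [Nat.blt_eq.mpr he]
      rfl
    rw [e1]
    exact (x11_rep e he).prep.mul hr.prep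
  · rw [if_neg he]
    have e1 : wstep r e = fun t => t := by
      funext t
      unfold wstep
      have e2 : Nat.blt e 11 = false := by
        rw [← Bool.not_eq_true, Nat.blt_eq]
        exact he
      rw [e2]
      rfl
    rw [e1]
    exact prep_one

theorem wordOK3_spec {r a b c : ℕ} {g : Equiv.Perm GolayPt} (h : wordOK3 r a b c = true)
    (hr : Rep r g) (K : Subgroup (Equiv.Perm GolayPt)) (hx : x11 ∈ K) (hg : g ∈ K) :
    ∃ w ∈ K, w ^ 7 = 1 ∧ w ≠ 1 := by
  have hf : ∀ e, wfac g e ∈ K := by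
    intro e
    unfold wfac
    split_ifs
    · exact K.mul_mem (K.pow_mem hx e) hg
    · exact K.one_mem
  have hw : PRep (wfn r a b c) (wfac g c * wfac g b * wfac g a) :=
    ((wstep_prep hr c).mul (wstep_prep hr b)).mul (wstep_prep hr a)
  rw [wordOK3, Bool.and_eq_true] at h
  refine ⟨wfac g c * wfac g b * wfac g a, K.mul_mem (K.mul_mem (hf c) (hf b)) (hf a), ?_, ?_⟩
  · generalize wfac g c * wfac g b * wfac g a = w at hw
    have h7 : PRep (w7 r a b c) (w * (w * (w * (w * (w * (w * w)))))) :=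
      hw.mul (hw.mul (hw.mul (hw.mul (hw.mul (hw.mul hw)))))
    have e7 : w ^ 7 = w * (w * (w * (w * (w * (w * w))))) := by
      simp only [pow_succ, pow_zero, one_mul, mul_assoc]
    rw [e7]
    exact h7.eq_one (fun t ht => Nat.eq_of_beq_eq_true (allBelow_spec h.1 t ht))
  · intro e
    have h2 : allBelow (fun t => Nat.beq (wfn r a b c t) t) 24 = true := by
      apply allBelow_of_forall
      intro t ht
      have e1 := hw.apply ht
      rw [e] at e1
      have e2 : wfn r a b c t = t := e1.trans (idx_ptOf ht)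
      show Nat.beq (wfn r a b c t) t = true
      rw [e2]
      exact Nat.beq_refl _
    rw [h2] at h
    exact absurd h.2 (by decide)

theorem wordOK_spec {r w : ℕ} {g : Equiv.Perm GolayPt} (h : wordOK r w = true)
    (hr : Rep r g) (K : Subgroup (Equiv.Perm GolayPt)) (hx : x11 ∈ K) (hg : g ∈ K) :
    ∃ w ∈ K, w ^ 7 = 1 ∧ w ≠ 1 := by
  unfold wordOK at h
  rw [withLitB_eq, withLitB_eq, withLitB_eq] at h
  exact wordOK3_spec h hr K hx hg

/-! ### The bound -/

theorem card_sporM22 : Nat.card Spor.M22 = 443520 := by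
  have h := Cfsg.Agent.Lib.helper9.card_stab_two_points none (some 0) (by simp)
  rw [← h, ← Subgroup.card_map_of_injective (Subgroup.subtype_injective M24)]
  congr 2
  ext g
  rw [Subgroup.mem_map]
  constructor
  · intro hg
    have hm : g ∈ M24 := hg.1.1
    have h1 : g none = none := hg.1.2
    have h2 : g (some 0) = some 0 := hg.2
    exact ⟨⟨g, hm⟩, ⟨h1, h2⟩, rfl⟩
  · rintro ⟨k, hk, rfl⟩
    have h1 : (k : Equiv.Perm GolayPt) none = none := hk.1
    have h2 : (k : Equiv.Perm GolayPt) (some 0) = some 0 := hk.2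
    exact ⟨⟨k.2, h1⟩, h2⟩

/-- A table not normalising the group generated by `x11` gives a double coset with 121
elements. -/
theorem double_inj {g : Equiv.Perm GolayPt} (hg : ∀ m < 11, g * x11 ≠ x11 ^ m * g)
    {i j i' j' : ℕ} (hi : i < 11) (hj : j < 11) (hi' : i' < 11) (hj' : j' < 11)
    (e : x11 ^ i * g * x11 ^ j = x11 ^ i' * g * x11 ^ j') : i = i' ∧ j = j' := by
  have e1 : x11 ^ (11 - i) * x11 ^ i = 1 := by
    rw [← pow_add, show 11 - i + i = 11 by omega, x11_pow]
  have e2 : x11 ^ j' * x11 ^ (11 - j') = 1 := by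
    rw [← pow_add, show j' + (11 - j') = 11 by omega, x11_pow]
  have h2 : g * x11 ^ (j + (11 - j')) = x11 ^ ((11 - i) + i') * g := by
    calc g * x11 ^ (j + (11 - j'))
        = x11 ^ (11 - i) * (x11 ^ i * g * x11 ^ j) * x11 ^ (11 - j') := by
          rw [pow_add]
          simp only [← mul_assoc]
          rw [e1, one_mul]
      _ = x11 ^ (11 - i) * (x11 ^ i' * g * x11 ^ j') * x11 ^ (11 - j') := by rw [e]
      _ = x11 ^ ((11 - i) + i') * g := by
          rw [pow_add]
          simp only [mul_assoc]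
          rw [e2, mul_one]
  have hsc : ∀ c, g * x11 ^ ((j + (11 - j')) * c) = x11 ^ (((11 - i) + i') * c) * g := by
    intro c
    have h3 : SemiconjBy g (x11 ^ (j + (11 - j'))) (x11 ^ ((11 - i) + i')) := h2
    have h4 := h3.pow_right c
    rw [← pow_mul, ← pow_mul] at h4
    exact h4
  by_cases hjj : j = j'
  · subst hjj
    refine ⟨?_, rfl⟩
    have h3 : x11 ^ ((11 - i) + i') * g = 1 * g := by
      rw [one_mul, ← h2, show j + (11 - j) = 11 by omega, x11_pow, mul_one]
    have h4 : x11 ^ ((11 - i) + i') = 1 := mul_right_cancel h3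
    have h5 := orderOf_dvd_of_pow_eq_one h4
    rw [x11_order] at h5
    omega
  · exfalso
    obtain ⟨a, ha⟩ : ∃ a, a = (j + (11 - j')) % 11 := ⟨_, rfl⟩
    have ha0 : a ≠ 0 := by omega
    have ha11 : a < 11 := by omega
    have hc : ∀ a < 11, a ≠ 0 → (a * (a ^ 9 % 11)) % 11 = 1 := by decide
    have h4 := hsc (a ^ 9 % 11)
    rw [pow_eq_pow_mod ((j + (11 - j')) * (a ^ 9 % 11)) x11_pow,
      pow_eq_pow_mod (((11 - i) + i') * (a ^ 9 % 11)) x11_pow] at h4
    have h5 : ((j + (11 - j')) * (a ^ 9 % 11)) % 11 = 1 := by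
      rw [Nat.mul_mod, ← ha, Nat.mod_mod]
      exact hc a ha11 ha0
    rw [h5, pow_one] at h4
    exact hg _ (Nat.mod_lt _ (by norm_num)) h4

/-- A subgroup of `Spor.M22` containing `x11`, of order not divisible by 7, has at most 660
elements, given a checked list of representatives of the double cosets with 121 elements. -/
theorem m22_core (E : ℕ) (Kf Wf : ℕ → ℕ) (Exc : List ℕ) (n : ℕ)
    (hrep : ∀ k < n, ∃ g ∈ Spor.M22, Rep (ent E k) g)
    (hkey : ∀ k < n, Kf k = kap (dig (ent E k)))
    (hsort : ∀ k, k + 1 < n → Kf k < Kf (k + 1))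
    (hnn : ∀ k < n, nnOK (ent E k) = true)
    (hword : ∀ k < n, k ∉ Exc → wordOK (ent E k) (Wf k) = true)
    (hcount : 443520 ≤ n * 121 + 55) (hexc : Exc.length ≤ 5)
    (K : Subgroup (Equiv.Perm GolayPt)) (hK : K ≤ Spor.M22) (hx : x11 ∈ K)
    (h7 : ¬ 7 ∣ Nat.card K) : Nat.card K ≤ 660 := by
  classical
  by_contra hcard
  push Not at hcard
  have hR : ∀ k, ∃ g, k < n → g ∈ Spor.M22 ∧ Rep (ent E k) g := by
    intro k
    by_cases hk : k < n
    · obtain ⟨g, h1, h2⟩ := hrep k hk
      exact ⟨g, fun _ => ⟨h1, h2⟩⟩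
    · exact ⟨1, fun h => absurd h hk⟩
  choose R hR using hR
  have hmono : ∀ k', ∀ k, k < k' → k' < n → Kf k < Kf k' := by
    intro k'
    induction k' with
    | zero => intro k hk; omega
    | succ k' ih =>
      intro k hk hk'
      have h1 := hsort k' hk'
      rcases Nat.lt_succ_iff_lt_or_eq.mp hk with h2 | h2
      · exact lt_trans (ih k h2 (by omega)) h1
      · rw [h2]; exact h1
  have hkinj : ∀ k < n, ∀ k' < n, kapP (R k) = kapP (R k') → k = k' := by
    intro k hk k' hk' e
    rw [← (hR k hk).2.kap_eq, ← (hR k' hk').2.kap_eq, ← hkey k hk, ← hkey k' hk'] at e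
    rcases Nat.lt_trichotomy k k' with h | h | h
    · exact absurd e (ne_of_lt (hmono k' k h hk'))
    · exact h
    · exact absurd e.symm (ne_of_lt (hmono k k' h hk))
  let Φ : ℕ × ℕ × ℕ → Equiv.Perm GolayPt := fun a => x11 ^ a.2.1 * R a.1 * x11 ^ a.2.2
  let D : Finset (ℕ × ℕ × ℕ) := Finset.range n ×ˢ Finset.range 11 ×ˢ Finset.range 11
  have hD : ∀ a, a ∈ D ↔ a.1 < n ∧ a.2.1 < 11 ∧ a.2.2 < 11 := by
    intro a
    simp [D]
  have hinj : Set.InjOn Φ (D : Set (ℕ × ℕ × ℕ)) := by
    rintro ⟨k, i, j⟩ ha ⟨k', i', j'⟩ ha' e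
    rw [Finset.mem_coe, hD] at ha ha'
    obtain ⟨hk, hi, hj⟩ := ha
    obtain ⟨hk', hi', hj'⟩ := ha'
    have e' : x11 ^ i * R k * x11 ^ j = x11 ^ i' * R k' * x11 ^ j' := e
    have ek : k = k' := by
      apply hkinj k hk k' hk'
      rw [← kapP_double (R k) (fix2_of_mem (hR k hk).1) i j, e',
        kapP_double (R k') (fix2_of_mem (hR k' hk').1) i' j']
    subst ek
    have hij : i = i' ∧ j = j' :=
      double_inj (nnOK_spec (hnn k hk) (hR k hk).2) hi hj hi' hj' e'
    rw [hij.1, hij.2]
  let M : Finset (Equiv.Perm GolayPt) := Finset.univ.filter (fun g => g ∈ Spor.M22)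
  have hM : M.card = 443520 := by
    rw [← card_sporM22, Nat.card_eq_fintype_card, Fintype.card_subtype]
  have hT : D.image Φ ⊆ M := by
    intro g hg
    obtain ⟨a, ha, rfl⟩ := Finset.mem_image.mp hg
    rw [hD] at ha
    rw [Finset.mem_filter]
    exact ⟨Finset.mem_univ _, Spor.M22.mul_mem (Spor.M22.mul_mem (Spor.M22.pow_mem x11_mem _)
      (hR a.1 ha.1).1) (Spor.M22.pow_mem x11_mem _)⟩
  have hTc : (D.image Φ).card = n * 121 := by
    rw [Finset.card_image_of_injOn hinj]
    simp [D]
  let KF : Finset (Equiv.Perm GolayPt) := Finset.univ.filter (fun g => g ∈ K)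
  have hKc : KF.card = Nat.card K := by
    rw [Nat.card_eq_fintype_card, Fintype.card_subtype]
  have hKT : ∀ a ∈ D, Φ a ∈ K → a.1 ∈ Exc := by
    intro a ha hΦ
    rw [hD] at ha
    by_contra hne
    have hRK : R a.1 ∈ K := by
      have e : R a.1 = (x11 ^ a.2.1)⁻¹ * Φ a * (x11 ^ a.2.2)⁻¹ := by
        show R a.1 = (x11 ^ a.2.1)⁻¹ * (x11 ^ a.2.1 * R a.1 * x11 ^ a.2.2) * (x11 ^ a.2.2)⁻¹
        group
      rw [e]
      exact K.mul_mem (K.mul_mem (K.inv_mem (K.pow_mem hx _)) hΦ) (K.inv_mem (K.pow_mem hx _))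
    obtain ⟨w, hwK, hw7, hw1⟩ := wordOK_spec (hword a.1 ha.1 hne) (hR a.1 ha.1).2 K hx hRK
    have : Fact (Nat.Prime 7) := ⟨by norm_num⟩
    have ho : orderOf w = 7 := orderOf_eq_prime hw7 hw1
    exact h7 (ho ▸ K.orderOf_dvd_natCard hwK)
  let TE : Finset (Equiv.Perm GolayPt) :=
    (Exc.toFinset ×ˢ Finset.range 11 ×ˢ Finset.range 11).image Φ
  have hTE : TE.card ≤ 605 := by
    refine le_trans Finset.card_image_le ?_
    rw [Finset.card_product, Finset.card_product, Finset.card_range]
    have := List.toFinset_card_le Exc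
    omega
  have hsub : KF ⊆ (M \ D.image Φ) ∪ TE := by
    intro g hg
    have hgK : g ∈ K := (Finset.mem_filter.mp hg).2
    rw [Finset.mem_union]
    by_cases hgT : g ∈ D.image Φ
    · right
      obtain ⟨a, ha, rfl⟩ := Finset.mem_image.mp hgT
      have h1 := hKT a ha hgK
      rw [hD] at ha
      refine Finset.mem_image.mpr ⟨a, ?_, rfl⟩
      simp [h1, ha.2.1, ha.2.2]
    · left
      rw [Finset.mem_sdiff]
      exact ⟨Finset.mem_filter.mpr ⟨Finset.mem_univ _, hK hgK⟩, hgT⟩
  have h1 := Finset.card_le_card hsub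
  have h2 := Finset.card_union_le (M \ D.image Φ) TE
  have h3 : (M \ D.image Φ).card = M.card - (D.image Φ).card := Finset.card_sdiff_of_subset hT
  omega

/-- A checked list of representatives of the double cosets of the group generated by `x11` in
`Spor.M22` with 121 elements: tables `E`, keys `Kf`, words `Wf` of order 7 outside the
exceptional indices `Exc`. -/
structure DcCert (E : ℕ) (Kf Wf : ℕ → ℕ) (Exc : List ℕ) (n : ℕ) : Prop where
  rep : ∀ k < n, ∃ g ∈ Spor.M22, Rep (ent E k) g
  key : ∀ k < n, Kf k = kap (dig (ent E k))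
  sort : ∀ k, k + 1 < n → Kf k < Kf (k + 1)
  nn : ∀ k < n, nnOK (ent E k) = true
  word : ∀ k < n, k ∉ Exc → wordOK (ent E k) (Wf k) = true
  count : 443520 ≤ n * 121 + 55
  exc : Exc.length ≤ 5

/-- A subgroup of `Spor.M22` of order divisible by 11 and not by 7 has at most 660 elements. -/
theorem DcCert.card_le {E : ℕ} {Kf Wf : ℕ → ℕ} {Exc : List ℕ} {n : ℕ}
    (C : DcCert E Kf Wf Exc n) (K : Subgroup (Equiv.Perm GolayPt)) (hK : K ≤ Spor.M22)
    (h11 : 11 ∣ Nat.card K) (h7 : ¬ 7 ∣ Nat.card K) : Nat.card K ≤ 660 := by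
  have : Fact (Nat.Prime 11) := ⟨by norm_num⟩
  have hG : ¬ 11 ^ 2 ∣ Nat.card Spor.M22 := by
    rw [card_sporM22]
    decide
  have hxo : orderOf (⟨x11, x11_mem⟩ : ↥Spor.M22) = 11 := by
    rw [← Subgroup.orderOf_coe]
    exact x11_order
  have hK' : 11 ∣ Nat.card (K.subgroupOf Spor.M22) := by
    rw [Nat.card_congr (Subgroup.subgroupOfEquivOfLe hK).toEquiv]
    exact h11
  obtain ⟨g, hg⟩ :=
    exists_conj_mem_of_prime_dvd 11 hG ⟨x11, x11_mem⟩ hxo (K.subgroupOf Spor.M22) hK'
  have hg' : (g : Equiv.Perm GolayPt) * x11 * (g : Equiv.Perm GolayPt)⁻¹ ∈ K :=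
    Subgroup.mem_subgroupOf.mp hg
  have h1 := m22_core E Kf Wf Exc n C.rep C.key C.sort C.nn C.word C.count C.exc
    (conjSub (g : Equiv.Perm GolayPt)⁻¹ K) ?_ ?_ ?_
  · rwa [card_conjSub] at h1
  · intro h hh
    rw [mem_conjSub, inv_inv] at hh
    have e : h = (g : Equiv.Perm GolayPt)⁻¹ *
        ((g : Equiv.Perm GolayPt) * h * (g : Equiv.Perm GolayPt)⁻¹) * (g : Equiv.Perm GolayPt) := by
      group
    rw [e]
    exact Spor.M22.mul_mem (Spor.M22.mul_mem (Spor.M22.inv_mem g.2) (hK hh)) g.2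
  · rw [mem_conjSub, inv_inv]
    exact hg'
  · rwa [card_conjSub]

/-- The stabiliser of two points in `M24` has no subgroup of index 56 or 210. -/
theorem DcCert.no_index {E : ℕ} {Kf Wf : ℕ → ℕ} {Exc : List ℕ} {n : ℕ}
    (C : DcCert E Kf Wf Exc n) (p q : GolayPt) (hpq : p ≠ q)
    (H : Subgroup ↥(MulAction.stabilizer M24 p ⊓ MulAction.stabilizer M24 q)) :
    H.index ≠ 56 ∧ H.index ≠ 210 := by
  have hc := Cfsg.Agent.Lib.helper9.card_stab_two_points p q hpq
  have hi := H.index_mul_card
  rw [hc] at hi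
  obtain ⟨K0, hK0⟩ : ∃ K0 : Subgroup (Equiv.Perm GolayPt), K0 =
      (H.map (MulAction.stabilizer M24 p ⊓ MulAction.stabilizer M24 q).subtype).map
        M24.subtype := ⟨_, rfl⟩
  have hK0c : Nat.card K0 = Nat.card H := by
    rw [hK0, Subgroup.card_map_of_injective (Subgroup.subtype_injective M24),
      Subgroup.card_map_of_injective (Subgroup.subtype_injective _)]
  have hK0m : ∀ h ∈ K0, h ∈ M24 ∧ h p = p ∧ h q = q := by
    intro h hh
    rw [hK0] at hh
    obtain ⟨a, ha, rfl⟩ := Subgroup.mem_map.mp hh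
    obtain ⟨b, _, rfl⟩ := Subgroup.mem_map.mp ha
    exact ⟨b.1.2, b.2.1, b.2.2⟩
  obtain ⟨g, hgM, hg1, hg2⟩ :=
    Cfsg.Agent.Lib.helper9.m24_two_trans p q none (some 0) hpq (by simp)
  have hK1 : conjSub g K0 ≤ Spor.M22 := by
    intro h hh
    rw [mem_conjSub] at hh
    obtain ⟨hm, hp, hq⟩ := hK0m _ hh
    have e : h = g * (g⁻¹ * h * g) * g⁻¹ := by group
    refine ⟨⟨?_, ?_⟩, ?_⟩
    · rw [e]
      exact M24.mul_mem (M24.mul_mem hgM hm) (M24.inv_mem hgM)
    · show h none = none
      have h1 : g⁻¹ (h (g p)) = p := hp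
      rw [hg1] at h1
      have h2 := congrArg g h1
      rw [hg1] at h2
      simpa using h2
    · show h (some 0) = some 0
      have h1 : g⁻¹ (h (g q)) = q := hq
      rw [hg2] at h1
      have h2 := congrArg g h1
      rw [hg2] at h2
      simpa using h2
  have hcard := C.card_le (conjSub g K0) hK1
  rw [card_conjSub, hK0c] at hcard
  constructor
  · intro h56
    rw [h56] at hi
    have e : Nat.card H = 7920 := by omega
    rw [e] at hcard
    exact absurd (hcard (by decide) (by decide)) (by norm_num)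
  · intro h210
    rw [h210] at hi
    have e : Nat.card H = 2112 := by omega
    rw [e] at hcard
    exact absurd (hcard (by decide) (by decide)) (by norm_num)

/-! ### Establishing the certificate by checks through block lookups -/

/-- Tree check at index `i` through block lookups: the root, or the table of its parent composed
with the recorded generator, the parent being shallower. -/
def treeD (E Gc Tc n k r i : ℕ) : Bool :=
  withLitB (fld2 Tc 48 64 i) fun e =>
  bif Nat.beq (eDepth e) 0 then Nat.beq i r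
  else and (Nat.blt (ePar e) n)
    (and (Nat.blt (eDepth (fld2 Tc 48 64 (ePar e))) (eDepth e))
      (and (Nat.blt (eGen e) k)
        (withLitB (fld2 E 120 64 (ePar e)) fun a =>
          withLitB (ent Gc (eGen e)) fun b =>
          withLitB (fld2 E 120 64 i) fun c => compU a b c)))

theorem treeD_eq (E Gc Tc n k r i : ℕ) : treeD E Gc Tc n k r i = treeOK E Gc Tc n k r i := by
  unfold treeD treeOK
  simp only [withLitB_eq, fld2_certEntry _ _ _ (show 0 < 64 by norm_num),
    fld2_ent _ _ _ (show 0 < 64 by norm_num), compU_eq]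

/-- All tables of a checked tree over generators in `T` lie in `T`. -/
theorem tree_rep (T : Subgroup (Equiv.Perm GolayPt)) (E Gc Tc n k r : ℕ)
    (hgens : ∀ s < k, ∃ g ∈ T, Rep (ent Gc s) g) (root : idOK (ent E r) = true)
    (tree : allBelow (treeD E Gc Tc n k r) n = true) : ∀ i < n, ∃ g ∈ T, Rep (ent E i) g := by
  have key : ∀ d, ∀ i < n, eDepth (certEntry Tc i) = d → ∃ g ∈ T, Rep (ent E i) g := by
    intro d
    induction d using Nat.strong_induction_on with
    | _ d ih =>
      intro i hi hd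
      have hi' := allBelow_spec tree i hi
      rw [treeD_eq] at hi'
      unfold treeOK at hi'
      cases h0 : Nat.beq (eDepth (certEntry Tc i)) 0
      · rw [h0] at hi'
        simp only [cond_false, Bool.and_eq_true] at hi'
        obtain ⟨h1, h2, h3, h4⟩ := hi'
        rw [Nat.blt_eq] at h1 h2 h3
        obtain ⟨g, hg, hr⟩ := ih _ (hd ▸ h2) _ h1 rfl
        obtain ⟨s, hs, hrs⟩ := hgens _ h3
        exact ⟨g * s, T.mul_mem hg hs, hr.mul hrs h4⟩
      · rw [h0] at hi'
        simp only [cond_true] at hi'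
        rw [Nat.eq_of_beq_eq_true hi']
        exact ⟨1, T.one_mem, rep_one root⟩
  intro i hi
  exact key _ i hi rfl

/-- Key check at index `k`. -/
def kapOK (E Kt k : ℕ) : Bool :=
  withLitB (fld2 E 120 64 k) fun r => Nat.beq (fld2 Kt 40 64 k) (kap (dig r))

/-- Keys increase at index `k`. -/
def sortOK (Kt k : ℕ) : Bool := Nat.blt (fld2 Kt 40 64 k) (fld2 Kt 40 64 (Nat.succ k))

/-- The table at index `k` does not normalise the group generated by `x11`. -/
def nnB (E k : ℕ) : Bool := withLitB (fld2 E 120 64 k) nnOK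

/-- The word at index `k` has order 7, unless `k` is exceptional. -/
def wordB (E W : ℕ) (Exc : List ℕ) (k : ℕ) : Bool :=
  bif Exc.any (Nat.beq k) then true
  else withLitB (fld2 E 120 64 k) fun r => wordOK r (fld2 W 12 64 k)

theorem dcCert_of_checks (E Gc Tc Kt W : ℕ) (Exc : List ℕ) (N k r n : ℕ)
    (hgens : ∀ s < k, ∃ g ∈ Spor.M22, Rep (ent Gc s) g) (root : idOK (ent E r) = true)
    (tree : allBelow (treeD E Gc Tc N k r) N = true) (hn : n ≤ N)
    (hkap : allBelow (kapOK E Kt) n = true)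
    (hsort : allBelow (sortOK Kt) (Nat.pred n) = true)
    (hnn : allBelow (nnB E) n = true)
    (hword : allBelow (wordB E W Exc) n = true)
    (count : 443520 ≤ n * 121 + 55) (exc : Exc.length ≤ 5) :
    DcCert E (fld2 Kt 40 64) (fld2 W 12 64) Exc n where
  rep := fun i hi => tree_rep Spor.M22 E Gc Tc N k r hgens root tree i (lt_of_lt_of_le hi hn)
  key := by
    intro i hi
    have h := allBelow_spec hkap i hi
    unfold kapOK at h
    rw [withLitB_eq, fld2_ent _ _ _ (show 0 < 64 by norm_num)] at h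
    exact Nat.eq_of_beq_eq_true h
  sort := by
    intro i hi
    have h := allBelow_spec hsort i (by rw [Nat.pred_eq_sub_one]; omega)
    unfold sortOK at h
    rwa [Nat.blt_eq] at h
  nn := by
    intro i hi
    have h := allBelow_spec hnn i hi
    unfold nnB at h
    rwa [withLitB_eq, fld2_ent _ _ _ (show 0 < 64 by norm_num)] at h
  word := by
    intro i hi hne
    have h := allBelow_spec hword i hi
    unfold wordB at h
    have h0 : Exc.any (Nat.beq i) = false := by
      rw [← Bool.not_eq_true, List.any_eq_true]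
      rintro ⟨e, he, hb⟩
      exact hne ((Nat.eq_of_beq_eq_true hb) ▸ he)
    rw [h0] at h
    simp only [cond_false] at h
    rwa [withLitB_eq, fld2_ent _ _ _ (show 0 < 64 by norm_num)] at h
  count := count
  exc := exc

end Cfsg.Agent.Lib.helper34
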