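/-
helper34: shared definitions for S0679 (transitive groups of degree 11).

The model: permutations of the 24 points `GolayPt` that fix every point of index `≥ 11`
(a copy of `S₁₁` acting on the 11 points of index `< 11`).
-/
import Cfsg.Agent.Lib.helper34.M22Dc

set_option autoImplicit false

namespace Cfsg.Agent.Lib.helper34

open Cfsg

/-- Permutations of the 24 points fixing every point of index `≥ 11`. -/
def F11 : Subgroup (Equiv.Perm GolayPt) where
  carrier := {g | ∀ p, 11 ≤ idx p → g p = p}
  one_mem' := fun _ _ => rfl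
  mul_mem' := by
    intro a b ha hb p hp
    show a (b p) = p
    rw [hb p hp, ha p hp]
  inv_mem' := by
    intro a ha p hp
    show a⁻¹ p = p
    rw [Equiv.Perm.inv_eq_iff_eq]
    exact (ha p hp).symm

theorem mem_F11 {g : Equiv.Perm GolayPt} : g ∈ F11 ↔ ∀ p, 11 ≤ idx p → g p = p := Iff.rfl

/-- The 11 model points. -/
abbrev Pt11 : Type := {p : GolayPt // idx p < 11}

/-- Number of model points (index `< 11`) fixed by `g`. -/
def mfix (g : Equiv.Perm GolayPt) : ℕ :=
  ((Finset.range 11).filter (fun t => idx (g (ptOf t)) = t)).card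

/-- Inverse modulo 11 (`inv11 0 = 0`); only the values at `a < 11` matter. -/
def inv11 (a : ℕ) : ℕ := Nat.land (Nat.shiftRight 0xa5782934610 (4 * a)) 15

/-- The `i`-th normalised translate of `f`, evaluated at `u`:
`(f (u+i) - f i) / (f (i+1) - f i)` modulo 11. -/
def cand11 (f : ℕ → ℕ) (i u : ℕ) : ℕ :=
  ((f ((u + i) % 11) + 11 - f i) * inv11 ((f ((i + 1) % 11) + 11 - f i) % 11)) % 11

/-- `c 0 + c 1 * 16 + … + c (n-1) * 16^(n-1)`. -/
def sum16 (c : ℕ → ℕ) : ℕ → ℕ
  | 0 => 0
  | n+1 => sum16 c n + c n * 16 ^ n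

/-- Code of the `i`-th normalised translate. -/
def key11 (f : ℕ → ℕ) (i : ℕ) : ℕ := sum16 (cand11 f i) 11

/-- The double coset invariant: the least code of a normalised translate. -/
def kap11 (f : ℕ → ℕ) : ℕ := minB (key11 f) 10

end Cfsg.Agent.Lib.helper34
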