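/-
helper34: S0679 core (abstract part): permutations given by index functions, the model elements
`dx : t ↦ t + 1`, `dh : t ↦ 2 t` on the 11 points, packed representative records and their
kernel checks.
-/
import Cfsg.Agent.Lib.helper34.Deg11Defs
import Cfsg.Agent.Lib.helper34.GolayClosure
import Cfsg.Agent.Lib.helper34.Chunks
import Cfsg.Agent.Lib.helper34.GolayCode

set_option autoImplicit false

namespace Cfsg.Agent.Lib.helper34

open Cfsg

/-! ### Permutations from index functions -/

/-- `f` and `fi` are mutually inverse on `0..23`. -/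
def FunValid (f fi : ℕ → ℕ) : Prop :=
  ∀ t < 24, f t < 24 ∧ fi t < 24 ∧ fi (f t) = t ∧ f (fi t) = t

/-- The permutation with index function `f`. -/
def permOfFun (f fi : ℕ → ℕ) (h : FunValid f fi) : Equiv.Perm GolayPt where
  toFun p := ptOf (f (idx p))
  invFun p := ptOf (fi (idx p))
  left_inv p := by
    have := h (idx p) (idx_lt p)
    simp only [idx_ptOf this.1, this.2.2.1, ptOf_idx]
  right_inv p := by
    have := h (idx p) (idx_lt p)
    simp only [idx_ptOf this.2.1, this.2.2.2, ptOf_idx]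

theorem permOfFun_prep (f fi : ℕ → ℕ) (h : FunValid f fi) : PRep f (permOfFun f fi h) :=
  fun p => idx_ptOf (h _ (idx_lt p)).1

theorem permOfFun_inv_prep (f fi : ℕ → ℕ) (h : FunValid f fi) :
    PRep fi (permOfFun f fi h)⁻¹ :=
  fun p => idx_ptOf (h _ (idx_lt p)).2.1

theorem PRep.ext {f f' : ℕ → ℕ} {g g' : Equiv.Perm GolayPt} (h : PRep f g) (h' : PRep f' g')
    (e : ∀ t < 24, f t = f' t) : g = g' := by
  apply Equiv.ext
  intro p
  apply idx_injective
  rw [h p, h' p, e _ (idx_lt p)]

theorem PRep.congr {f f' : ℕ → ℕ} {g : Equiv.Perm GolayPt} (h : PRep f g)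
    (e : ∀ t < 24, f t = f' t) : PRep f' g := by
  intro p
  rw [h p, e _ (idx_lt p)]

theorem PRep.pfun_eq {f : ℕ → ℕ} {g : Equiv.Perm GolayPt} (h : PRep f g) {t : ℕ} (ht : t < 24) :
    pfun g t = f t := (h.apply ht).symm

theorem prep_pfun (g : Equiv.Perm GolayPt) : PRep (pfun g) g := by
  intro p
  unfold pfun
  rw [ptOf_idx]

theorem PRep.mem_F11 {f : ℕ → ℕ} {g : Equiv.Perm GolayPt} (h : PRep f g)
    (hf : ∀ t, 11 ≤ t → t < 24 → f t = t) : g ∈ F11 := by
  intro p hp
  apply idx_injective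
  rw [h p, hf _ hp (idx_lt p)]

theorem mfix_of_prep {f : ℕ → ℕ} {g : Equiv.Perm GolayPt} (h : PRep f g) :
    mfix g = countBelow (fun t => Nat.beq (f t) t) 11 := by
  rw [countBelow_eq]
  unfold mfix
  congr 1
  apply Finset.filter_congr
  intro t ht
  rw [Finset.mem_range] at ht
  rw [← h.apply (by omega : t < 24)]
  constructor
  · intro e
    rw [e]
    exact Nat.beq_refl _
  · intro e
    exact Nat.eq_of_beq_eq_true e

theorem pfun_lt_of_mem_F11 {k : Equiv.Perm GolayPt} (hk : k ∈ F11) {t : ℕ} (ht : t < 11) :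
    pfun k t < 11 := by
  by_contra hc
  have h1 : 11 ≤ idx (k (ptOf t)) := not_lt.mp hc
  have h2 := hk _ h1
  have h3 := k.injective h2
  rw [h3, idx_ptOf (by omega)] at h1
  omega

theorem PRep.pow {f : ℕ → ℕ} {g : Equiv.Perm GolayPt} (h : PRep f g) (m : ℕ) :
    PRep (f^[m]) (g ^ m) := by
  induction m with
  | zero => intro p; rfl
  | succ m ih =>
    intro p
    rw [pow_succ, (ih.mul h) p, Function.iterate_succ_apply]

/-! ### The elements `dx` and `dh` -/

def dxtab : List ℕ :=
  [1, 2, 3, 4, 5, 6, 7, 8, 9, 10, 0, 11, 12, 13, 14, 15, 16, 17, 18, 19, 20, 21, 22, 23]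

def dxinv : List ℕ :=
  [10, 0, 1, 2, 3, 4, 5, 6, 7, 8, 9, 11, 12, 13, 14, 15, 16, 17, 18, 19, 20, 21, 22, 23]

def dhtab : List ℕ :=
  [0, 2, 4, 6, 8, 10, 1, 3, 5, 7, 9, 11, 12, 13, 14, 15, 16, 17, 18, 19, 20, 21, 22, 23]

def dhinv : List ℕ :=
  [0, 6, 1, 7, 2, 8, 3, 9, 4, 10, 5, 11, 12, 13, 14, 15, 16, 17, 18, 19, 20, 21, 22, 23]

theorem dx_valid : ValidPerm dxtab dxinv := by decide

theorem dh_valid : ValidPerm dhtab dhinv := by decide

/-- `t ↦ t + 1` on the 11 points. -/
def dx : Equiv.Perm GolayPt := tperm dxtab dxinv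

/-- `t ↦ 2 t` on the 11 points. -/
def dh : Equiv.Perm GolayPt := tperm dhtab dhinv

/-- Index function of `dx ^ m`. -/
def xp (m t : ℕ) : ℕ := bif Nat.blt t 11 then Nat.mod (Nat.add t m) 11 else t

/-- Index function of `dh`. -/
def hfn (t : ℕ) : ℕ := bif Nat.blt t 11 then Nat.mod (Nat.mul 2 t) 11 else t

theorem blt_true {a b : ℕ} (h : a < b) : Nat.blt a b = true := by
  rw [Nat.blt_eq]; exact h

theorem blt_false {a b : ℕ} (h : ¬ a < b) : Nat.blt a b = false := by
  rw [← Bool.not_eq_true, Nat.blt_eq]; exact h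

theorem xp_eq (m t : ℕ) : xp m t = if t < 11 then (t + m) % 11 else t := by
  unfold xp
  by_cases h : t < 11
  · rw [if_pos h, blt_true h]; rfl
  · rw [if_neg h, blt_false h]; rfl

theorem hfn_eq (t : ℕ) : hfn t = if t < 11 then (2 * t) % 11 else t := by
  unfold hfn
  by_cases h : t < 11
  · rw [if_pos h, blt_true h]; rfl
  · rw [if_neg h, blt_false h]; rfl

theorem dx_prep : PRep (xp 1) dx := by
  intro p
  have h : ∀ t < 24, dxtab.getD t 0 = xp 1 t := by decide
  rw [dx, idx_tperm dx_valid, h _ (idx_lt p)]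

theorem dh_prep : PRep hfn dh := by
  intro p
  have h : ∀ t < 24, dhtab.getD t 0 = hfn t := by decide
  rw [dh, idx_tperm dh_valid, h _ (idx_lt p)]

theorem dx_pow_prep (m : ℕ) : PRep (xp m) (dx ^ m) := by
  induction m with
  | zero =>
    intro p
    rw [pow_zero, xp_eq]
    show idx p = _
    split_ifs <;> omega
  | succ m ih =>
    intro p
    rw [pow_succ, (ih.mul dx_prep) p]
    simp only [xp_eq]
    split_ifs <;> omega

theorem dx_mem_F11 : dx ∈ F11 :=
  dx_prep.mem_F11 (fun t h1 _ => by rw [xp_eq, if_neg (by omega)])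

theorem dh_mem_F11 : dh ∈ F11 :=
  dh_prep.mem_F11 (fun t h1 _ => by rw [hfn_eq, if_neg (by omega)])

theorem dx_pow_eleven : dx ^ 11 = 1 :=
  (dx_pow_prep 11).eq_one (fun t _ => by rw [xp_eq]; split_ifs <;> omega)

theorem dx_ne_one : dx ≠ 1 := dx_prep.ne_one (t := 0) (by norm_num) (by decide)

theorem dx_order : orderOf dx = 11 := by
  have : Fact (Nat.Prime 11) := ⟨by norm_num⟩
  exact orderOf_eq_prime dx_pow_eleven dx_ne_one

theorem mem_zpowers_dx {g : Equiv.Perm GolayPt} (h : g ∈ Subgroup.zpowers dx) :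
    ∃ m < 11, g = dx ^ m := by
  obtain ⟨k, rfl⟩ := Subgroup.mem_zpowers_iff.mp h
  refine ⟨(k % 11).toNat, ?_, ?_⟩
  · have := Int.emod_lt_of_pos k (by norm_num : (0 : ℤ) < 11)
    have := Int.emod_nonneg k (by norm_num : (11 : ℤ) ≠ 0)
    omega
  · rw [← zpow_natCast, Int.toNat_of_nonneg (Int.emod_nonneg k (by norm_num))]
    have := zpow_mod_orderOf dx k
    rw [dx_order] at this
    exact this.symm

theorem card_zpowers_dx : Nat.card (Subgroup.zpowers dx) = 11 := by
  rw [Nat.card_zpowers, dx_order]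

/-! ### The key of a permutation -/

/-- The double coset invariant of a permutation. -/
def kapQ (g : Equiv.Perm GolayPt) : ℕ := kap11 (pfun g)

theorem sum16_congr {c c' : ℕ → ℕ} (n : ℕ) (h : ∀ u < n, c u = c' u) : sum16 c n = sum16 c' n := by
  induction n with
  | zero => rfl
  | succ n ih =>
    show sum16 c n + c n * 16 ^ n = sum16 c' n + c' n * 16 ^ n
    rw [ih (fun u hu => h u (by omega)), h n (by omega)]

theorem kap11_congr {f f' : ℕ → ℕ} (h : ∀ t < 11, f t = f' t) : kap11 f = kap11 f' := by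
  unfold kap11
  apply minB_congr
  intro i hi
  unfold key11
  apply sum16_congr
  intro u hu
  unfold cand11
  rw [h _ (Nat.mod_lt _ (by norm_num)), h i (by omega), h _ (Nat.mod_lt _ (by norm_num))]

theorem PRep.kapQ_eq {f : ℕ → ℕ} {g : Equiv.Perm GolayPt} (h : PRep f g) : kapQ g = kap11 f := by
  unfold kapQ
  exact kap11_congr (fun t ht => h.pfun_eq (by omega))

/-! ### Packed representative records

A record packs, in 4-bit fields: the index function on `0..10` (fields `0..10`), its inverse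
(fields `11..21`), the exponents `a, b, c, d` of a word (fields `22..25`) and a power (field `26`). -/

/-- 4-bit field `t` of a record. -/
def nib (c t : ℕ) : ℕ := Nat.land (Nat.shiftRight c (Nat.mul 4 t)) 15

/-- The index function of a record. -/
def rf (c t : ℕ) : ℕ := bif Nat.blt t 11 then nib c t else t

/-- The inverse index function of a record. -/
def rfi (c t : ℕ) : ℕ := bif Nat.blt t 11 then nib c (Nat.add 11 t) else t

/-- The two index functions of a record are mutually inverse permutations of `0..10`. -/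
def rvalid (c : ℕ) : Bool :=
  allBelow (fun t => and (Nat.blt (nib c t) 11) (and (Nat.blt (nib c (Nat.add 11 t)) 11)
    (and (Nat.beq (nib c (Nat.add 11 (nib c t))) t) (Nat.beq (nib c (nib c (Nat.add 11 t))) t)))) 11

theorem rf_lt {c t : ℕ} (h : t < 11) : rf c t = nib c t := by
  unfold rf; rw [blt_true h]; rfl

theorem rf_ge {c t : ℕ} (h : ¬ t < 11) : rf c t = t := by
  unfold rf; rw [blt_false h]; rfl

theorem rfi_lt {c t : ℕ} (h : t < 11) : rfi c t = nib c (Nat.add 11 t) := by
  unfold rfi; rw [blt_true h]; rfl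

theorem rfi_ge {c t : ℕ} (h : ¬ t < 11) : rfi c t = t := by
  unfold rfi; rw [blt_false h]; rfl

theorem rvalid_spec {c : ℕ} (h : rvalid c = true) : FunValid (rf c) (rfi c) := by
  intro t ht
  by_cases h11 : t < 11
  · have h0 := allBelow_spec h t h11
    simp only [Bool.and_eq_true, Nat.blt_eq] at h0
    obtain ⟨h1, h2, h3, h4⟩ := h0
    have e3 := Nat.eq_of_beq_eq_true h3
    have e4 := Nat.eq_of_beq_eq_true h4
    rw [rf_lt h11, rfi_lt h11]
    refine ⟨by omega, ?_, ?_, ?_⟩
    · omega
    · rw [rfi_lt h1]; exact e3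
    · rw [rf_lt h2]; exact e4
  · rw [rf_ge h11, rfi_ge h11]
    exact ⟨ht, ht, rfl, rf_ge h11⟩

/-- The permutation of a record (the identity if the record is not valid). -/
def rOf (c : ℕ) : Equiv.Perm GolayPt :=
  if h : rvalid c = true then permOfFun (rf c) (rfi c) (rvalid_spec h) else 1

theorem rOf_prep {c : ℕ} (h : rvalid c = true) : PRep (rf c) (rOf c) := by
  rw [rOf, dif_pos h]
  exact permOfFun_prep _ _ _

theorem rOf_inv_prep {c : ℕ} (h : rvalid c = true) : PRep (rfi c) (rOf c)⁻¹ := by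
  rw [rOf, dif_pos h]
  exact permOfFun_inv_prep _ _ _

theorem rOf_mem {c : ℕ} (h : rvalid c = true) : rOf c ∈ F11 :=
  (rOf_prep h).mem_F11 (fun t h1 _ => rf_ge (by omega))

/-- The conjugate `r⁻¹ x r` of `dx` by the permutation of a record. -/
def yOf (c : ℕ) : Equiv.Perm GolayPt := (rOf c)⁻¹ * dx * rOf c

/-- Index function of `(yOf c) ^ m`. -/
def yp (c m t : ℕ) : ℕ := rfi c (xp m (rf c t))

theorem yOf_pow (c m : ℕ) : yOf c ^ m = (rOf c)⁻¹ * dx ^ m * rOf c := by
  unfold yOf
  have := conj_pow (a := (rOf c)⁻¹) (b := dx) (i := m)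
  rw [inv_inv] at this
  exact this

theorem yOf_pow_prep {c : ℕ} (h : rvalid c = true) (m : ℕ) : PRep (yp c m) (yOf c ^ m) := by
  rw [yOf_pow]
  exact ((rOf_inv_prep h).mul (dx_pow_prep m)).mul (rOf_prep h)

theorem yOf_prep {c : ℕ} (h : rvalid c = true) : PRep (yp c 1) (yOf c) := by
  have := yOf_pow_prep h 1
  rwa [pow_one] at this

/-- The conjugate of `dx` by the record is not a power of `dx`. -/
def ynotP (c : ℕ) : Bool :=
  not (allBelow (fun t => Nat.beq (yp c 1 t) (xp (yp c 1 0) t)) 11)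

theorem ynotP_spec {c : ℕ} (h : rvalid c = true) (hy : ynotP c = true) :
    yOf c ∉ Subgroup.zpowers dx := by
  intro hmem
  obtain ⟨m, hm, e⟩ := mem_zpowers_dx hmem
  have hp := yOf_prep h
  have hq := dx_pow_prep m
  rw [← e] at hq
  have key : ∀ t < 24, yp c 1 t = xp m t := by
    intro t ht
    rw [hp.apply ht, hq.apply ht]
  have h0 : yp c 1 0 = m := by
    rw [key 0 (by norm_num), xp_eq]
    simp only [Nat.zero_add]
    rw [if_pos (by norm_num), Nat.mod_eq_of_lt hm]
  have : allBelow (fun t => Nat.beq (yp c 1 t) (xp (yp c 1 0) t)) 11 = true := by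
    apply allBelow_of_forall
    intro t ht
    rw [h0, key t (by omega)]
    exact Nat.beq_refl _
  unfold ynotP at hy
  rw [this] at hy
  exact Bool.noConfusion hy

/-! ### Words with a power fixing exactly 8 points -/

/-- Index function of `dx^a * y^b * dx^c * y^d`. -/
def gfn (c a b c' d t : ℕ) : ℕ := xp a (yp c b (xp c' (yp c d t)))

/-- Index function of the `e`-th power (`e = 1, 2`, otherwise `4`). -/
def gpw (c a b c' d e t : ℕ) : ℕ :=
  bif Nat.beq e 1 then gfn c a b c' d t
  else bif Nat.beq e 2 then gfn c a b c' d (gfn c a b c' d t)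
  else gfn c a b c' d (gfn c a b c' d (gfn c a b c' d (gfn c a b c' d t)))

theorem gpw_one (c a b c' d t : ℕ) : gpw c a b c' d 1 t = gfn c a b c' d t := by
  unfold gpw
  rw [show Nat.beq 1 1 = true from rfl, cond_true]

theorem gpw_two (c a b c' d t : ℕ) :
    gpw c a b c' d 2 t = gfn c a b c' d (gfn c a b c' d t) := by
  unfold gpw
  rw [show Nat.beq 2 1 = false from rfl, cond_false, show Nat.beq 2 2 = true from rfl, cond_true]

theorem gpw_four (c a b c' d e t : ℕ) (h1 : e ≠ 1) (h2 : e ≠ 2) :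
    gpw c a b c' d e t = gfn c a b c' d (gfn c a b c' d (gfn c a b c' d (gfn c a b c' d t))) := by
  have b1 : Nat.beq e 1 = false := by
    rw [← Bool.not_eq_true]; intro hb; exact h1 (Nat.eq_of_beq_eq_true hb)
  have b2 : Nat.beq e 2 = false := by
    rw [← Bool.not_eq_true]; intro hb; exact h2 (Nat.eq_of_beq_eq_true hb)
  unfold gpw
  rw [b1, b2, cond_false, cond_false]

/-- The word of the record has a power with exactly 8 fixed points. -/
def d11wordOK (c : ℕ) : Bool :=
  withLitB (nib c 22) fun a => withLitB (nib c 23) fun b => withLitB (nib c 24) fun c' =>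
  withLitB (nib c 25) fun d => withLitB (nib c 26) fun e =>
    Nat.beq (countBelow (fun t => Nat.beq (gpw c a b c' d e t) t) 11) 8

theorem d11wordOK_spec {c : ℕ} (h : rvalid c = true) (hw : d11wordOK c = true)
    (K : Subgroup (Equiv.Perm GolayPt)) (hx : dx ∈ K) (hy : yOf c ∈ K) :
    ∃ σ ∈ K, mfix σ = 8 := by
  unfold d11wordOK at hw
  simp only [withLitB_eq] at hw
  have hw' := Nat.eq_of_beq_eq_true hw
  generalize nib c 22 = a at hw'
  generalize nib c 23 = b at hw'
  generalize nib c 24 = c' at hw'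
  generalize nib c 25 = d at hw'
  generalize nib c 26 = e at hw'
  have hg : PRep (gfn c a b c' d) (dx ^ a * yOf c ^ b * dx ^ c' * yOf c ^ d) :=
    (((dx_pow_prep a).mul (yOf_pow_prep h b)).mul (dx_pow_prep c')).mul (yOf_pow_prep h d)
  have hgK : dx ^ a * yOf c ^ b * dx ^ c' * yOf c ^ d ∈ K :=
    K.mul_mem (K.mul_mem (K.mul_mem (K.pow_mem hx a) (K.pow_mem hy b)) (K.pow_mem hx c'))
      (K.pow_mem hy d)
  generalize dx ^ a * yOf c ^ b * dx ^ c' * yOf c ^ d = g at hg hgK
  by_cases e1 : e = 1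
  · refine ⟨g, hgK, ?_⟩
    have hfun : (fun t => Nat.beq (gpw c a b c' d e t) t) =
        (fun t => Nat.beq (gfn c a b c' d t) t) := by
      funext t; rw [e1, gpw_one]
    rw [hfun] at hw'
    rw [mfix_of_prep hg]
    exact hw'
  · by_cases e2 : e = 2
    · refine ⟨g * g, K.mul_mem hgK hgK, ?_⟩
      have hfun : (fun t => Nat.beq (gpw c a b c' d e t) t) =
          (fun t => Nat.beq (gfn c a b c' d (gfn c a b c' d t)) t) := by
        funext t; rw [e2, gpw_two]
      rw [hfun] at hw'
      rw [mfix_of_prep (hg.mul hg)]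
      exact hw'
    · refine ⟨g * g * (g * g), K.mul_mem (K.mul_mem hgK hgK) (K.mul_mem hgK hgK), ?_⟩
      have hfun : (fun t => Nat.beq (gpw c a b c' d e t) t) =
          (fun t => Nat.beq (gfn c a b c' d (gfn c a b c' d
            (gfn c a b c' d (gfn c a b c' d t)))) t) := by
        funext t; rw [gpw_four _ _ _ _ _ _ _ e1 e2]
      rw [hfun] at hw'
      rw [mfix_of_prep ((hg.mul hg).mul (hg.mul hg))]
      exact hw'

/-! ### The fast key of a record -/

/-- Partial sums of the code of the `i`-th normalised translate (`s`, `m` precomputed). -/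
def sumF (c i s m : ℕ) : ℕ → ℕ
  | 0 => 0
  | n+1 => Nat.add (sumF c i s m n)
      (Nat.shiftLeft (Nat.mod (Nat.mul (Nat.sub (Nat.add (nib c (Nat.mod (Nat.add n i) 11)) 11) s) m) 11)
        (Nat.mul 4 n))

/-- Code of the `i`-th normalised translate of a record. -/
def keyF (c i : ℕ) : ℕ :=
  withLit (nib c i) fun s =>
  withLit (inv11 (Nat.mod (Nat.sub (Nat.add (nib c (Nat.mod (Nat.add i 1) 11)) 11) s) 11)) fun m =>
    sumF c i s m 11

/-- The key of a record. -/
def kapF (c : ℕ) : ℕ := minB (keyF c) 10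

theorem sumF_eq (c i : ℕ) (hi : i < 11) (n : ℕ) :
    sumF c i (nib c i) (inv11 ((nib c ((i + 1) % 11) + 11 - nib c i) % 11)) n =
      sum16 (cand11 (rf c) i) n := by
  induction n with
  | zero => rfl
  | succ n ih =>
    show sumF c i (nib c i) (inv11 ((nib c ((i + 1) % 11) + 11 - nib c i) % 11)) n +
      (((nib c ((n + i) % 11) + 11 - nib c i) *
        inv11 ((nib c ((i + 1) % 11) + 11 - nib c i) % 11)) % 11) <<< (4 * n) =
      sum16 (cand11 (rf c) i) n + cand11 (rf c) i n * 16 ^ n
    rw [ih, Nat.shiftLeft_eq, pow_mul]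
    unfold cand11
    rw [rf_lt (Nat.mod_lt _ (by norm_num)), rf_lt hi, rf_lt (Nat.mod_lt _ (by norm_num))]
    norm_num

theorem keyF_eq (c i : ℕ) (hi : i < 11) : keyF c i = key11 (rf c) i := by
  unfold keyF key11
  rw [withLit_eq, withLit_eq]
  exact sumF_eq c i hi 11

theorem kapF_eq (c : ℕ) : kapF c = kap11 (rf c) := by
  unfold kapF kap11
  exact minB_congr (fun i hi => keyF_eq c i (by omega))

theorem kapQ_rOf {c : ℕ} (h : rvalid c = true) : kapQ (rOf c) = kapF c := by
  rw [(rOf_prep h).kapQ_eq, kapF_eq]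

/-- Key of the identity. -/
def IDC : ℕ := 0xa9876543210

theorem kapQ_one : kapQ 1 = IDC := by
  rw [prep_one.kapQ_eq]
  decide +kernel

/-! ### The fast key check of a record -/

/-- Lexicographic comparison from the top digit: the number with digits `A` is at least the one
with digits `B`. -/
def lexGE (A B : ℕ → ℕ) : ℕ → Bool
  | 0 => true
  | n+1 => withLitB (A n) fun a => withLitB (B n) fun b =>
      bif Nat.blt b a then true else bif Nat.blt a b then false else lexGE A B n

theorem sum16_lt (c : ℕ → ℕ) (n : ℕ) (h : ∀ u < n, c u < 16) : sum16 c n < 16 ^ n := by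
  induction n with
  | zero => show 0 < 16 ^ 0; norm_num
  | succ n ih =>
    show sum16 c n + c n * 16 ^ n < 16 ^ (n + 1)
    have h1 := ih (fun u hu => h u (by omega))
    have h2 : c n + 1 ≤ 16 := h n (by omega)
    have h3 : (c n + 1) * 16 ^ n ≤ 16 * 16 ^ n := Nat.mul_le_mul_right _ h2
    rw [pow_succ]
    nlinarith

theorem lexGE_spec (A B : ℕ → ℕ) (n : ℕ) (hB : ∀ u < n, B u < 16) (h : lexGE A B n = true) :
    sum16 B n ≤ sum16 A n := by
  induction n with
  | zero => exact le_rfl
  | succ n ih =>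
    show sum16 B n + B n * 16 ^ n ≤ sum16 A n + A n * 16 ^ n
    have hlt := sum16_lt B n (fun u hu => hB u (by omega))
    unfold lexGE at h
    rw [withLitB_eq, withLitB_eq] at h
    cases h1 : Nat.blt (B n) (A n)
    · rw [h1, cond_false] at h
      cases h2 : Nat.blt (A n) (B n)
      · rw [h2, cond_false] at h
        have e1 : ¬ B n < A n := by rw [← Nat.blt_eq, h1]; exact Bool.false_ne_true
        have e2 : ¬ A n < B n := by rw [← Nat.blt_eq, h2]; exact Bool.false_ne_true
        have e : A n = B n := by omega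
        have := ih (fun u hu => hB u (by omega)) h
        rw [e]
        omega
      · rw [h2, cond_true] at h
        exact Bool.noConfusion h
    · have e1 : B n < A n := Nat.blt_eq.mp h1
      have h3 : (B n + 1) * 16 ^ n ≤ A n * 16 ^ n := Nat.mul_le_mul_right _ e1
      nlinarith

theorem nib_eq (c u : ℕ) : nib c u = (c / 16 ^ u) % 16 := by
  show (c >>> (4 * u)) &&& 15 = _
  rw [Nat.shiftRight_eq_div_pow, pow_mul]
  exact Nat.and_two_pow_sub_one_eq_mod _ 4

theorem sum16_nib (c n : ℕ) : sum16 (nib c) n = c % 16 ^ n := by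
  induction n with
  | zero => show 0 = c % 16 ^ 0; simp [Nat.mod_one]
  | succ n ih =>
    show sum16 (nib c) n + nib c n * 16 ^ n = c % 16 ^ (n + 1)
    rw [ih, nib_eq, Nat.mod_pow_succ, mul_comm]

/-- The stored key of a record. -/
def fcode (c : ℕ) : ℕ := Nat.land c 0xfffffffffff

theorem fcode_eq (c : ℕ) : fcode c = sum16 (nib c) 11 := by
  rw [sum16_nib]
  exact Nat.and_two_pow_sub_one_eq_mod _ 44

/-- Digit `u` of the `i`-th normalised translate (`s`, `m` precomputed). -/
def candF (c i s m u : ℕ) : ℕ :=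
  Nat.mod (Nat.mul (Nat.sub (Nat.add (nib c (Nat.mod (Nat.add u i) 11)) 11) s) m) 11

/-- The code of the `i`-th normalised translate is at least the stored key. -/
def geF (c i : ℕ) : Bool :=
  withLitB (nib c i) fun s =>
  withLitB (inv11 (Nat.mod (Nat.sub (Nat.add (nib c (Nat.mod (Nat.add i 1) 11)) 11) s) 11)) fun m =>
    lexGE (candF c i s m) (nib c) 11

/-- The stored key is the key of the record. -/
def d11kapOK (c : ℕ) : Bool :=
  and (Nat.beq (keyF c 0) (fcode c)) (allBelow (fun i => geF c (Nat.succ i)) 10)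

theorem geF_spec {c i : ℕ} (hi : i < 11) (h : geF c i = true) : fcode c ≤ key11 (rf c) i := by
  unfold geF at h
  rw [withLitB_eq, withLitB_eq] at h
  have h1 := lexGE_spec _ _ 11 (fun u _ => by
    rw [nib_eq]; exact Nat.mod_lt _ (by norm_num)) h
  rw [fcode_eq]
  refine le_trans h1 (le_of_eq ?_)
  unfold key11
  apply sum16_congr
  intro u hu
  unfold candF cand11
  rw [rf_lt (Nat.mod_lt _ (by norm_num)), rf_lt hi, rf_lt (Nat.mod_lt _ (by norm_num))]
  rfl

theorem kapOK_spec {c : ℕ} (h : d11kapOK c = true) : kap11 (rf c) = fcode c := by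
  unfold d11kapOK at h
  rw [Bool.and_eq_true] at h
  obtain ⟨h1, h2⟩ := h
  have e0 : key11 (rf c) 0 = fcode c := by
    rw [← keyF_eq c 0 (by norm_num)]; exact Nat.eq_of_beq_eq_true h1
  unfold kap11
  apply le_antisymm
  · rw [← e0]; exact minB_le _ 10 0 (by norm_num)
  · obtain ⟨j, hj, e⟩ := minB_mem (key11 (rf c)) 10
    rw [e]
    rcases Nat.eq_zero_or_pos j with h0 | h0
    · rw [h0, e0]
    · have := allBelow_spec h2 (j - 1) (by omega)
      have e1 : Nat.succ (j - 1) = j := by omega
      rw [e1] at this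
      exact geF_spec (by omega) this

/-! ### The check of one record -/

/-- All checks on the record `c` with index `j` (`c'` is the next record). -/
def repOK (spec : ℕ → Bool) (j c c' : ℕ) : Bool :=
  and (rvalid c) (and (d11kapOK c) (and (Nat.blt (fcode c) (fcode c'))
    (and (not (Nat.beq (fcode c) IDC)) (and (ynotP c)
      (bif Nat.beq (nib c 26) 0 then spec j else d11wordOK c)))))

theorem lt_of_step {F : ℕ → ℕ} {J : ℕ} (h : ∀ j < J, F j < F (j + 1)) :
    ∀ j, j ≤ J → ∀ i < j, F i < F j := by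
  intro j
  induction j with
  | zero => intro _ i hi; omega
  | succ j ih =>
    intro hj i hi
    rcases Nat.lt_succ_iff_lt_or_eq.mp hi with h1 | h1
    · exact lt_trans (ih (by omega) i h1) (h j (by omega))
    · rw [h1]; exact h j (by omega)

/-- What the record checks give. -/
theorem rep_facts (spec : ℕ → Bool) (rec : ℕ → ℕ) (J : ℕ)
    (hall : ∀ j < J, repOK spec j (rec j) (rec (j + 1)) = true) :
    (∀ j < J, rvalid (rec j) = true) ∧
    (∀ j < J, rOf (rec j) ∈ F11) ∧
    (∀ i < J, ∀ j < J, kapQ (rOf (rec i)) = kapQ (rOf (rec j)) → i = j) ∧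
    (∀ j < J, kapQ (rOf (rec j)) ≠ kapQ 1) ∧
    (∀ j < J, yOf (rec j) ∉ Subgroup.zpowers dx) ∧
    (∀ j < J, (nib (rec j) 26 = 0 ∧ spec j = true) ∨
      ∀ K : Subgroup (Equiv.Perm GolayPt), dx ∈ K → yOf (rec j) ∈ K → ∃ σ ∈ K, mfix σ = 8) := by
  have hall' : ∀ j < J, rvalid (rec j) = true ∧ kap11 (rf (rec j)) = fcode (rec j) ∧
      fcode (rec j) < fcode (rec (j + 1)) ∧ fcode (rec j) ≠ IDC ∧ ynotP (rec j) = true ∧
      (bif Nat.beq (nib (rec j) 26) 0 then spec j else d11wordOK (rec j)) = true := by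
    intro j hj
    have h := hall j hj
    unfold repOK at h
    simp only [Bool.and_eq_true, Nat.blt_eq, Bool.not_eq_true'] at h
    obtain ⟨h1, h2, h3, h4, h5, h6⟩ := h
    refine ⟨h1, kapOK_spec h2, h3, ?_, h5, h6⟩
    intro e
    rw [e] at h4
    have : Nat.beq IDC IDC = true := Nat.beq_refl _
    rw [this] at h4
    exact Bool.noConfusion h4
  have hv : ∀ j < J, rvalid (rec j) = true := fun j hj => (hall' j hj).1
  have hk : ∀ j < J, kapQ (rOf (rec j)) = fcode (rec j) := fun j hj => by
    rw [(rOf_prep (hv j hj)).kapQ_eq]; exact (hall' j hj).2.1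
  have hmono := lt_of_step (F := fun j => fcode (rec j)) (J := J) (fun j hj => (hall' j hj).2.2.1)
  refine ⟨hv, fun j hj => rOf_mem (hv j hj), ?_, ?_, ?_, ?_⟩
  · intro i hi j hj e
    rw [hk i hi, hk j hj] at e
    rcases Nat.lt_trichotomy i j with h | h | h
    · have := hmono j (by omega) i h
      omega
    · exact h
    · have := hmono i (by omega) j h
      omega
  · intro j hj
    rw [hk j hj, kapQ_one]
    exact (hall' j hj).2.2.2.1
  · intro j hj
    exact ynotP_spec (hv j hj) (hall' j hj).2.2.2.2.1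
  · intro j hj
    have h6 := (hall' j hj).2.2.2.2.2
    cases hb : Nat.beq (nib (rec j) 26) 0
    · rw [hb] at h6
      right
      intro K hx hy
      exact d11wordOK_spec (hv j hj) h6 K hx hy
    · rw [hb] at h6
      left
      exact ⟨Nat.eq_of_beq_eq_true hb, h6⟩

/-! ### Words -/

/-- Index function of a word in the letters `fs`. -/
def wev (fs : List (ℕ → ℕ)) : List ℕ → ℕ → ℕ
  | [], t => t
  | (i :: w), t => (fs.getD i (fun t => t)) (wev fs w t)

/-- The product of a word in the letters `gs`. -/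
def wel (gs : List (Equiv.Perm GolayPt)) : List ℕ → Equiv.Perm GolayPt
  | [] => 1
  | (i :: w) => gs.getD i 1 * wel gs w

theorem getD_prep {fs : List (ℕ → ℕ)} {gs : List (Equiv.Perm GolayPt)}
    (h : List.Forall₂ PRep fs gs) (i : ℕ) : PRep (fs.getD i (fun t => t)) (gs.getD i 1) := by
  induction h generalizing i with
  | nil => exact prep_one
  | cons hab _ ih =>
    cases i with
    | zero => exact hab
    | succ i => exact ih i

theorem wel_prep {fs : List (ℕ → ℕ)} {gs : List (Equiv.Perm GolayPt)}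
    (h : List.Forall₂ PRep fs gs) (w : List ℕ) : PRep (wev fs w) (wel gs w) := by
  induction w with
  | nil => exact prep_one
  | cons i w ih => exact (getD_prep h i).mul ih

theorem getD_mem_sub {gs : List (Equiv.Perm GolayPt)} {K : Subgroup (Equiv.Perm GolayPt)}
    (h : ∀ g ∈ gs, g ∈ K) (i : ℕ) : gs.getD i 1 ∈ K := by
  rw [List.getD_eq_getElem?_getD]
  cases hg : gs[i]? with
  | none => exact K.one_mem
  | some g => exact h g (List.mem_of_getElem? hg)

theorem wel_mem {gs : List (Equiv.Perm GolayPt)} {K : Subgroup (Equiv.Perm GolayPt)}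
    (h : ∀ g ∈ gs, g ∈ K) (w : List ℕ) : wel gs w ∈ K := by
  induction w with
  | nil => exact K.one_mem
  | cons i w ih => exact K.mul_mem (getD_mem_sub h i) ih

theorem tperm_prep {f fi : List ℕ} (hv : ValidPerm f fi) :
    PRep (fun t => f.getD t 0) (tperm f fi) := fun p => idx_tperm hv p

/-! ### Enumerated subgroups -/

theorem EnumOK.mem_of_prep {T : Subgroup (Equiv.Perm GolayPt)} {E Gc Tc Rt n k r : ℕ}
    (h : EnumOK T E Gc Tc Rt n k r) {i : ℕ} (hi : i < n) {f : ℕ → ℕ} {g : Equiv.Perm GolayPt}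
    (hg : PRep f g) (e : allBelow (fun t => Nat.beq (f t) (dig (ent E i) t)) 24 = true) :
    g ∈ T := by
  obtain ⟨g', hg', hr⟩ := h.exists_rep i hi
  rw [hg.ext hr.prep (fun t ht => Nat.eq_of_beq_eq_true (allBelow_spec e t ht))]
  exact hg'

/-- Every element of the enumerated group normalises `dx` (exponent table `MT`). -/
theorem norm_of_check {T : Subgroup (Equiv.Perm GolayPt)} {E Gc Tc Rt n k r : ℕ}
    (h : EnumOK T E Gc Tc Rt n k r) (MT : ℕ)
    (hc : allBelow (fun i => allBelow (fun t =>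
      Nat.beq (dig (ent E i) (xp 1 t)) (xp (nib MT i) (dig (ent E i) t))) 24) n = true) :
    ∀ g ∈ T, g * dx * g⁻¹ ∈ Subgroup.zpowers dx := by
  apply h.forall_mem
  intro i hi g hr
  have h1 : PRep (fun t => dig (ent E i) (xp 1 t)) (g * dx) := hr.prep.mul dx_prep
  have h2 : PRep (fun t => xp (nib MT i) (dig (ent E i) t)) (dx ^ (nib MT i) * g) :=
    (dx_pow_prep _).mul hr.prep
  have e : g * dx = dx ^ (nib MT i) * g :=
    h1.ext h2 (fun t ht => Nat.eq_of_beq_eq_true (allBelow_spec (allBelow_spec hc i hi) t ht))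
  rw [e, mul_inv_cancel_right]
  exact (Subgroup.zpowers dx).pow_mem (Subgroup.mem_zpowers dx) _

/-- The packed table is a power of `dx`, or its 11th power is not the identity. -/
def ordOK (c : ℕ) : Bool :=
  or (allBelow (fun t => Nat.beq (dig c t) (xp (dig c 0) t)) 24)
    (not (allBelow (fun t => Nat.beq ((dig c)^[11] t) t) 24))

theorem ord_of_check {T : Subgroup (Equiv.Perm GolayPt)} {E Gc Tc Rt n k r : ℕ}
    (h : EnumOK T E Gc Tc Rt n k r)
    (hc : allBelow (fun i => ordOK (ent E i)) n = true) :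
    ∀ g ∈ T, g ^ 11 = 1 → g ∈ Subgroup.zpowers dx := by
  apply h.forall_mem
  intro i hi g hr hg
  have h0 := allBelow_spec hc i hi
  unfold ordOK at h0
  rw [Bool.or_eq_true] at h0
  rcases h0 with h0 | h0
  · have e : g = dx ^ (dig (ent E i) 0) :=
      hr.prep.ext (dx_pow_prep _) (fun t ht => Nat.eq_of_beq_eq_true (allBelow_spec h0 t ht))
    rw [e]
    exact (Subgroup.zpowers dx).pow_mem (Subgroup.mem_zpowers dx) _
  · exfalso
    have hp := hr.prep.pow 11
    rw [hg] at hp
    have : allBelow (fun t => Nat.beq ((dig (ent E i))^[11] t) t) 24 = true := by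
      apply allBelow_of_forall
      intro t ht
      rw [hp.apply ht]
      show Nat.beq (idx (ptOf t)) t = true
      rw [idx_ptOf ht]
      exact Nat.beq_refl _
    rw [this] at h0
    exact Bool.noConfusion h0

/-- Entry `i` of the coset table `NT`: the element, or its product with `dh`, has index
`NT i mod 2^15` in the second enumeration. -/
def nlOK (EN EL NT nL i : ℕ) : Bool :=
  withLitB (cd16 NT i) fun e => and (Nat.blt (Nat.land e 32767) nL)
    (bif Nat.beq (Nat.shiftRight e 15) 0
      then allBelow (fun t => Nat.beq (dig (ent EN i) t) (dig (ent EL (Nat.land e 32767)) t)) 24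
      else allBelow (fun t => Nat.beq (dig (ent EN i) (hfn t)) (dig (ent EL (Nat.land e 32767)) t)) 24)

theorem nl_of_check {N L : Subgroup (Equiv.Perm GolayPt)} {EN GcN TcN RtN nN kN rN : ℕ}
    {EL GcL TcL RtL nL kL rL : ℕ}
    (hN : EnumOK N EN GcN TcN RtN nN kN rN) (hL : EnumOK L EL GcL TcL RtL nL kL rL) (NT : ℕ)
    (hc : allBelow (nlOK EN EL NT nL) nN = true) :
    ∀ g ∈ N, g ∈ L ∨ g * dh ∈ L := by
  apply hN.forall_mem
  intro i hi g hr
  have h0 := allBelow_spec hc i hi
  unfold nlOK at h0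
  rw [withLitB_eq, Bool.and_eq_true, Nat.blt_eq] at h0
  obtain ⟨h1, h2⟩ := h0
  cases hb : Nat.beq (Nat.shiftRight (cd16 NT i) 15) 0
  · rw [hb] at h2
    right
    exact hL.mem_of_prep h1 (hr.prep.mul dh_prep) h2
  · rw [hb] at h2
    left
    exact hL.mem_of_prep h1 hr.prep h2

/-- Non-identity tables fix at most three of the 11 points. -/
def fixOK (c : ℕ) : Bool :=
  or (idOK c) (Nat.ble (countBelow (fun t => Nat.beq (dig c t) t) 11) 3)

theorem fix_of_check {T : Subgroup (Equiv.Perm GolayPt)} {E Gc Tc Rt n k r : ℕ}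
    (h : EnumOK T E Gc Tc Rt n k r) (hc : ∀ i < n, fixOK (ent E i) = true) :
    ∀ g ∈ T, g ≠ 1 → mfix g ≤ 3 := by
  apply h.forall_mem
  intro i hi g hr hg
  have h0 := hc i hi
  unfold fixOK at h0
  rw [Bool.or_eq_true] at h0
  rcases h0 with h0 | h0
  · exact absurd (hr.eq_one h0) hg
  · rw [mfix_of_prep hr.prep]
    exact Nat.le_of_ble_eq_true h0

/-! ### The special representatives -/

/-- A special representative: a left multiple by an element of the first enumerated group lies in
the second one, which is generated by `dx` and a word in `dx` and the conjugate. -/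
theorem spec_sound {N : Subgroup (Equiv.Perm GolayPt)} {EN GcN TcN RtN nN kN rN : ℕ}
    (hN : EnumOK N EN GcN TcN RtN nN kN rN) (btab binv : List ℕ) (hv : ValidPerm btab binv)
    {ET GcT TcT RtT nT kT rT : ℕ}
    (hT : EnumOK (genSub [(dxtab, dxinv), (btab, binv)]) ET GcT TcT RtT nT kT rT)
    {c : ℕ} (hval : rvalid c = true) (i k : ℕ) (hi : i < nN) (hk : k < nT)
    (hm : allBelow (fun t => Nat.beq (dig (ent EN i) (rf c t)) (dig (ent ET k) t)) 24 = true)
    (w : List ℕ)
    (hw : allBelow (fun t => Nat.beq (wev [xp 1, yp c 1] w t) (btab.getD t 0)) 24 = true)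
    (K : Subgroup (Equiv.Perm GolayPt)) (hx : dx ∈ K) (hy : yOf c ∈ K) :
    (∃ n ∈ N, n * rOf c ∈ genSub [(dxtab, dxinv), (btab, binv)]) ∧
      genSub [(dxtab, dxinv), (btab, binv)] ≤ K := by
  obtain ⟨n, hn, hr⟩ := hN.exists_rep i hi
  refine ⟨⟨n, hn, hT.mem_of_prep hk (hr.prep.mul (rOf_prep hval)) hm⟩, ?_⟩
  apply genSub_le
  intro p hp
  rcases List.mem_cons.mp hp with rfl | hp
  · exact hx
  · rw [List.mem_singleton.mp hp]
    have h2 : List.Forall₂ PRep [xp 1, yp c 1] [dx, yOf c] :=
      List.Forall₂.cons dx_prep (List.Forall₂.cons (yOf_prep hval) List.Forall₂.nil)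
    have e : wel [dx, yOf c] w = tperm btab binv :=
      (wel_prep h2 w).ext (tperm_prep hv)
        (fun t ht => Nat.eq_of_beq_eq_true (allBelow_spec hw t ht))
    show tperm btab binv ∈ K
    rw [← e]
    apply wel_mem
    intro g hg
    rcases List.mem_cons.mp hg with rfl | hg
    · exact hx
    · rw [List.mem_singleton.mp hg]; exact hy

/-- Two generated groups whose second generators are conjugate under `dh`. -/
theorem conj_gen {b1 b1i b2 b2i : List ℕ} (h1 : ValidPerm b1 b1i) (h2 : ValidPerm b2 b2i)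
    (hc : allBelow (fun t => Nat.beq (b2.getD (hfn t) 0) (hfn (b1.getD t 0))) 24 = true) :
    tperm b2 b2i = dh * tperm b1 b1i * dh⁻¹ := by
  have e : tperm b2 b2i * dh = dh * tperm b1 b1i :=
    ((tperm_prep h2).mul dh_prep).ext (dh_prep.mul (tperm_prep h1))
      (fun t ht => Nat.eq_of_beq_eq_true (allBelow_spec hc t ht))
  rw [← e, mul_inv_cancel_right]

/-- A word in three letters with exactly 8 fixed points. -/
theorem word3_sound {b1 b1i b2 b2i : List ℕ} (h1 : ValidPerm b1 b1i) (h2 : ValidPerm b2 b2i)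
    (w : List ℕ)
    (hw : countBelow (fun t => Nat.beq
      (wev [xp 1, fun t => b1.getD t 0, fun t => b2.getD t 0] w t) t) 11 = 8)
    (K : Subgroup (Equiv.Perm GolayPt)) (hx : dx ∈ K) (hb1 : tperm b1 b1i ∈ K)
    (hb2 : tperm b2 b2i ∈ K) : ∃ σ ∈ K, mfix σ = 8 := by
  have hf : List.Forall₂ PRep [xp 1, fun t => b1.getD t 0, fun t => b2.getD t 0]
      [dx, tperm b1 b1i, tperm b2 b2i] :=
    List.Forall₂.cons dx_prep (List.Forall₂.cons (tperm_prep h1)
      (List.Forall₂.cons (tperm_prep h2) List.Forall₂.nil))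
  refine ⟨wel [dx, tperm b1 b1i, tperm b2 b2i] w, ?_, ?_⟩
  · apply wel_mem
    intro g hg
    rcases List.mem_cons.mp hg with rfl | hg
    · exact hx
    · rcases List.mem_cons.mp hg with rfl | hg
      · exact hb1
      · rw [List.mem_singleton.mp hg]; exact hb2
  · rw [mfix_of_prep (wel_prep hf w)]
    exact hw

end Cfsg.Agent.Lib.helper34
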