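/-
helper34: S0679 data (generated): all records pass their checks; the special records.
-/
import Cfsg.Agent.Lib.helper34.Deg11Chk0
import Cfsg.Agent.Lib.helper34.Deg11Chk1
import Cfsg.Agent.Lib.helper34.Deg11Chk2
import Cfsg.Agent.Lib.helper34.Deg11Chk3
import Cfsg.Agent.Lib.helper34.Deg11GrpM1
import Cfsg.Agent.Lib.helper34.Deg11GrpM2

set_option autoImplicit false

namespace Cfsg.Agent.Lib.helper34

open Cfsg

theorem d11_all : allBelow (fun j => withLitB (d11rec j) fun c => withLitB (d11rec (Nat.succ j)) fun c' => repOK d11spec j c c') 32989 = true :=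
  allBelow_append (allBelow_append (allBelow_append (allBelow_append (allBelow_append (allBelow_append (allBelow_append (allBelow_append (allBelow_append (allBelow_append (allBelow_append (allBelow_append (allBelow_append (allBelow_append (allBelow_append (allBelow_append (allBelow_append (allBelow_append (allBelow_append (allBelow_append (allBelow_append (allBelow_append (allBelow_append (allBelow_append (allBelow_append (allBelow_append (allBelow_append (allBelow_append (allBelow_append (allBelow_append (allBelow_append (allBelow_append (allBelow_append (allBelow_append (allBelow_append (allBelow_append (allBelow_append (allBelow_append (allBelow_append (allBelow_append (allBelow_append (allBelow_append (allBelow_append (allBelow_append (allBelow_append (allBelow_append (d11_c0) d11_c1 (rfl : Nat.add 700 700 = 1400)) d11_c2 (rfl : Nat.add 1400 700 = 2100)) d11_c3 (rfl : Nat.add 2100 700 = 2800)) d11_c4 (rfl : Nat.add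 2800 700 = 3500)) d11_c5 (rfl : Nat.add 3500 700 = 4200)) d11_c6 (rfl : Nat.add 4200 700 = 4900)) d11_c7 (rfl : Nat.add 4900 700 = 5600)) d11_c8 (rfl : Nat.add 5600 700 = 6300)) d11_c9 (rfl : Nat.add 6300 700 = 7000)) d11_c10 (rfl : Nat.add 7000 700 = 7700)) d11_c11 (rfl : Nat.add 7700 700 = 8400)) d11_c12 (rfl : Nat.add 8400 700 = 9100)) d11_c13 (rfl : Nat.add 9100 700 = 9800)) d11_c14 (rfl : Nat.add 9800 700 = 10500)) d11_c15 (rfl : Nat.add 10500 700 = 11200)) d11_c16 (rfl : Nat.add 11200 700 = 11900)) d11_c17 (rfl : Nat.add 11900 700 = 12600)) d11_c18 (rfl : Nat.add 12600 700 = 13300)) d11_c19 (rfl : Nat.add 13300 700 = 14000)) d11_c20 (rfl : Nat.add 14000 700 = 14700)) d11_c21 (rfl : Nat.add 14700 700 = 15400)) d11_c22 (rfl : Nat.add 15400 700 = 16100)) d11_c23 (rfl : Nat.add 16100 700 = 16800)) d11_c24 (rfl : Nat.add 16800 700 = 17500)) d11_c25 (rfl : Nat.add 17500 700 = 18200)) d11_c26 (rfl : Nat.add 18200 700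 = 18900)) d11_c27 (rfl : Nat.add 18900 700 = 19600)) d11_c28 (rfl : Nat.add 19600 700 = 20300)) d11_c29 (rfl : Nat.add 20300 700 = 21000)) d11_c30 (rfl : Nat.add 21000 700 = 21700)) d11_c31 (rfl : Nat.add 21700 700 = 22400)) d11_c32 (rfl : Nat.add 22400 700 = 23100)) d11_c33 (rfl : Nat.add 23100 700 = 23800)) d11_c34 (rfl : Nat.add 23800 700 = 24500)) d11_c35 (rfl : Nat.add 24500 700 = 25200)) d11_c36 (rfl : Nat.add 25200 700 = 25900)) d11_c37 (rfl : Nat.add 25900 700 = 26600)) d11_c38 (rfl : Nat.add 26600 700 = 27300)) d11_c39 (rfl : Nat.add 27300 700 = 28000)) d11_c40 (rfl : Nat.add 28000 700 = 28700)) d11_c41 (rfl : Nat.add 28700 700 = 29400)) d11_c42 (rfl : Nat.add 29400 700 = 30100)) d11_c43 (rfl : Nat.add 30100 700 = 30800)) d11_c44 (rfl : Nat.add 30800 700 = 31500)) d11_c45 (rfl : Nat.add 31500 700 = 32200)) d11_c46 (rfl : Nat.add 32200 789 = 32989)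

theorem d11_all' : ∀ j < 32989, repOK d11spec j (d11rec j) (d11rec (j + 1)) = true := by
  intro j hj
  have h := allBelow_spec d11_all j hj
  rw [withLitB_eq, withLitB_eq] at h
  exact h

theorem d11_sp1663 (hv : rvalid (d11rec 1663) = true) (K : Subgroup (Equiv.Perm GolayPt))
    (hx : dx ∈ K) (hy : yOf (d11rec 1663) ∈ K) :
    (∃ n ∈ d11N, n * rOf (d11rec 1663) ∈ d11M2) ∧ d11M2 ≤ K :=
  spec_sound d11N_enum d11m2 d11m2i d11m2_valid d11M2_enum hv 1 100 (by norm_num) (by norm_num)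
    (by decide +kernel) [1] (by decide +kernel) K hx hy

theorem d11_sp2326 (hv : rvalid (d11rec 2326) = true) (K : Subgroup (Equiv.Perm GolayPt))
    (hx : dx ∈ K) (hy : yOf (d11rec 2326) ∈ K) :
    (∃ n ∈ d11N, n * rOf (d11rec 2326) ∈ d11L1) ∧ d11L1 ≤ K :=
  spec_sound d11N_enum d11b1 d11b1i d11b1_valid d11L1_enum hv 1 8 (by norm_num) (by norm_num)
    (by decide +kernel) [1] (by decide +kernel) K hx hy

theorem d11_sp2702 (hv : rvalid (d11rec 2702) = true) (K : Subgroup (Equiv.Perm GolayPt))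
    (hx : dx ∈ K) (hy : yOf (d11rec 2702) ∈ K) :
    (∃ n ∈ d11N, n * rOf (d11rec 2702) ∈ d11M1) ∧ d11M1 ≤ K :=
  spec_sound d11N_enum d11m1 d11m1i d11m1_valid d11M1_enum hv 0 21 (by norm_num) (by norm_num)
    (by decide +kernel) [1] (by decide +kernel) K hx hy

theorem d11_sp4580 (hv : rvalid (d11rec 4580) = true) (K : Subgroup (Equiv.Perm GolayPt))
    (hx : dx ∈ K) (hy : yOf (d11rec 4580) ∈ K) :
    (∃ n ∈ d11N, n * rOf (d11rec 4580) ∈ d11M2) ∧ d11M2 ≤ K :=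
  spec_sound d11N_enum d11m2 d11m2i d11m2_valid d11M2_enum hv 0 35 (by norm_num) (by norm_num)
    (by decide +kernel) [1, 1, 0, 1, 0, 0, 1, 0, 0, 1, 1, 0, 1] (by decide +kernel) K hx hy

theorem d11_sp5001 (hv : rvalid (d11rec 5001) = true) (K : Subgroup (Equiv.Perm GolayPt))
    (hx : dx ∈ K) (hy : yOf (d11rec 5001) ∈ K) :
    (∃ n ∈ d11N, n * rOf (d11rec 5001) ∈ d11M2) ∧ d11M2 ≤ K :=
  spec_sound d11N_enum d11m2 d11m2i d11m2_valid d11M2_enum hv 0 55 (by norm_num) (by norm_num)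
    (by decide +kernel) [0, 1, 1, 1, 0, 0, 1, 1, 1, 0, 0] (by decide +kernel) K hx hy

theorem d11_sp5056 (hv : rvalid (d11rec 5056) = true) (K : Subgroup (Equiv.Perm GolayPt))
    (hx : dx ∈ K) (hy : yOf (d11rec 5056) ∈ K) :
    (∃ n ∈ d11N, n * rOf (d11rec 5056) ∈ d11M1) ∧ d11M1 ≤ K :=
  spec_sound d11N_enum d11m1 d11m1i d11m1_valid d11M1_enum hv 0 60 (by norm_num) (by norm_num)
    (by decide +kernel) [0, 0, 1, 0, 0, 1, 0, 0, 1, 1] (by decide +kernel) K hx hy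

theorem d11_sp6747 (hv : rvalid (d11rec 6747) = true) (K : Subgroup (Equiv.Perm GolayPt))
    (hx : dx ∈ K) (hy : yOf (d11rec 6747) ∈ K) :
    (∃ n ∈ d11N, n * rOf (d11rec 6747) ∈ d11M1) ∧ d11M1 ≤ K :=
  spec_sound d11N_enum d11m1 d11m1i d11m1_valid d11M1_enum hv 1 115 (by norm_num) (by norm_num)
    (by decide +kernel) [0, 0, 0, 0, 1, 0, 1, 0, 1, 1, 1, 0] (by decide +kernel) K hx hy

theorem d11_sp8847 (hv : rvalid (d11rec 8847) = true) (K : Subgroup (Equiv.Perm GolayPt))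
    (hx : dx ∈ K) (hy : yOf (d11rec 8847) ∈ K) :
    (∃ n ∈ d11N, n * rOf (d11rec 8847) ∈ d11M2) ∧ d11M2 ≤ K :=
  spec_sound d11N_enum d11m2 d11m2i d11m2_valid d11M2_enum hv 1 72 (by norm_num) (by norm_num)
    (by decide +kernel) [1, 0, 0, 0, 0, 0, 1, 1, 0, 0, 1] (by decide +kernel) K hx hy

theorem d11_sp9714 (hv : rvalid (d11rec 9714) = true) (K : Subgroup (Equiv.Perm GolayPt))
    (hx : dx ∈ K) (hy : yOf (d11rec 9714) ∈ K) :
    (∃ n ∈ d11N, n * rOf (d11rec 9714) ∈ d11M2) ∧ d11M2 ≤ K :=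
  spec_sound d11N_enum d11m2 d11m2i d11m2_valid d11M2_enum hv 1 120 (by norm_num) (by norm_num)
    (by decide +kernel) [1, 1, 1, 0, 0, 1, 0, 1, 1, 1] (by decide +kernel) K hx hy

theorem d11_sp11639 (hv : rvalid (d11rec 11639) = true) (K : Subgroup (Equiv.Perm GolayPt))
    (hx : dx ∈ K) (hy : yOf (d11rec 11639) ∈ K) :
    (∃ n ∈ d11N, n * rOf (d11rec 11639) ∈ d11M1) ∧ d11M1 ≤ K :=
  spec_sound d11N_enum d11m1 d11m1i d11m1_valid d11M1_enum hv 1 84 (by norm_num) (by norm_num)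
    (by decide +kernel) [1, 1, 0, 0, 1, 0, 0, 1, 0, 1, 0, 0] (by decide +kernel) K hx hy

theorem d11_sp15625 (hv : rvalid (d11rec 15625) = true) (K : Subgroup (Equiv.Perm GolayPt))
    (hx : dx ∈ K) (hy : yOf (d11rec 15625) ∈ K) :
    (∃ n ∈ d11N, n * rOf (d11rec 15625) ∈ d11M2) ∧ d11M2 ≤ K :=
  spec_sound d11N_enum d11m2 d11m2i d11m2_valid d11M2_enum hv 0 30 (by norm_num) (by norm_num)
    (by decide +kernel) [0, 0, 1, 0, 0, 1, 1, 0, 1, 1] (by decide +kernel) K hx hy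

theorem d11_sp15945 (hv : rvalid (d11rec 15945) = true) (K : Subgroup (Equiv.Perm GolayPt))
    (hx : dx ∈ K) (hy : yOf (d11rec 15945) ∈ K) :
    (∃ n ∈ d11N, n * rOf (d11rec 15945) ∈ d11M2) ∧ d11M2 ≤ K :=
  spec_sound d11N_enum d11m2 d11m2i d11m2_valid d11M2_enum hv 1 87 (by norm_num) (by norm_num)
    (by decide +kernel) [1, 0, 0, 0, 1, 0, 0, 0, 1, 1, 1, 1, 0] (by decide +kernel) K hx hy

theorem d11_sp16388 (hv : rvalid (d11rec 16388) = true) (K : Subgroup (Equiv.Perm GolayPt))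
    (hx : dx ∈ K) (hy : yOf (d11rec 16388) ∈ K) :
    (∃ n ∈ d11N, n * rOf (d11rec 16388) ∈ d11M1) ∧ d11M1 ≤ K :=
  spec_sound d11N_enum d11m1 d11m1i d11m1_valid d11M1_enum hv 1 127 (by norm_num) (by norm_num)
    (by decide +kernel) [0, 0, 0, 1, 1, 0, 1, 1, 1, 0, 1, 1, 1] (by decide +kernel) K hx hy

theorem d11_sp17818 (hv : rvalid (d11rec 17818) = true) (K : Subgroup (Equiv.Perm GolayPt))
    (hx : dx ∈ K) (hy : yOf (d11rec 17818) ∈ K) :
    (∃ n ∈ d11N, n * rOf (d11rec 17818) ∈ d11M1) ∧ d11M1 ≤ K :=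
  spec_sound d11N_enum d11m1 d11m1i d11m1_valid d11M1_enum hv 1 109 (by norm_num) (by norm_num)
    (by decide +kernel) [0, 0, 0, 1, 0, 1, 1, 1, 1] (by decide +kernel) K hx hy

theorem d11_sp18564 (hv : rvalid (d11rec 18564) = true) (K : Subgroup (Equiv.Perm GolayPt))
    (hx : dx ∈ K) (hy : yOf (d11rec 18564) ∈ K) :
    (∃ n ∈ d11N, n * rOf (d11rec 18564) ∈ d11M1) ∧ d11M1 ≤ K :=
  spec_sound d11N_enum d11m1 d11m1i d11m1_valid d11M1_enum hv 0 10 (by norm_num) (by norm_num)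
    (by decide +kernel) [0, 0, 0, 0, 1, 0, 0, 1, 1, 1, 0, 1, 0] (by decide +kernel) K hx hy

theorem d11_sp19567 (hv : rvalid (d11rec 19567) = true) (K : Subgroup (Equiv.Perm GolayPt))
    (hx : dx ∈ K) (hy : yOf (d11rec 19567) ∈ K) :
    (∃ n ∈ d11N, n * rOf (d11rec 19567) ∈ d11M1) ∧ d11M1 ≤ K :=
  spec_sound d11N_enum d11m1 d11m1i d11m1_valid d11M1_enum hv 1 143 (by norm_num) (by norm_num)
    (by decide +kernel) [0, 1, 0, 0, 1, 0, 1, 1, 1, 0, 0, 0] (by decide +kernel) K hx hy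

theorem d11_sp21178 (hv : rvalid (d11rec 21178) = true) (K : Subgroup (Equiv.Perm GolayPt))
    (hx : dx ∈ K) (hy : yOf (d11rec 21178) ∈ K) :
    (∃ n ∈ d11N, n * rOf (d11rec 21178) ∈ d11L2) ∧ d11L2 ≤ K :=
  spec_sound d11N_enum d11b2 d11b2i d11b2_valid d11L2_enum hv 0 5 (by norm_num) (by norm_num)
    (by decide +kernel) [0, 0, 1, 1, 1, 1, 0, 0, 1] (by decide +kernel) K hx hy

theorem d11_sp21931 (hv : rvalid (d11rec 21931) = true) (K : Subgroup (Equiv.Perm GolayPt))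
    (hx : dx ∈ K) (hy : yOf (d11rec 21931) ∈ K) :
    (∃ n ∈ d11N, n * rOf (d11rec 21931) ∈ d11M1) ∧ d11M1 ≤ K :=
  spec_sound d11N_enum d11m1 d11m1i d11m1_valid d11M1_enum hv 1 132 (by norm_num) (by norm_num)
    (by decide +kernel) [1, 1, 0, 1, 1, 0, 1, 0, 1, 0] (by decide +kernel) K hx hy

theorem d11_sp26575 (hv : rvalid (d11rec 26575) = true) (K : Subgroup (Equiv.Perm GolayPt))
    (hx : dx ∈ K) (hy : yOf (d11rec 26575) ∈ K) :
    (∃ n ∈ d11N, n * rOf (d11rec 26575) ∈ d11M2) ∧ d11M2 ≤ K :=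
  spec_sound d11N_enum d11m2 d11m2i d11m2_valid d11M2_enum hv 1 131 (by norm_num) (by norm_num)
    (by decide +kernel) [1, 1, 0, 0, 0, 0, 0, 1, 0, 0, 0] (by decide +kernel) K hx hy

theorem d11_sp26850 (hv : rvalid (d11rec 26850) = true) (K : Subgroup (Equiv.Perm GolayPt))
    (hx : dx ∈ K) (hy : yOf (d11rec 26850) ∈ K) :
    (∃ n ∈ d11N, n * rOf (d11rec 26850) ∈ d11M2) ∧ d11M2 ≤ K :=
  spec_sound d11N_enum d11m2 d11m2i d11m2_valid d11M2_enum hv 0 28 (by norm_num) (by norm_num)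
    (by decide +kernel) [1, 0, 1, 1, 0, 1, 1, 0, 0, 0, 0, 1] (by decide +kernel) K hx hy

theorem d11_sp26893 (hv : rvalid (d11rec 26893) = true) (K : Subgroup (Equiv.Perm GolayPt))
    (hx : dx ∈ K) (hy : yOf (d11rec 26893) ∈ K) :
    (∃ n ∈ d11N, n * rOf (d11rec 26893) ∈ d11M1) ∧ d11M1 ≤ K :=
  spec_sound d11N_enum d11m1 d11m1i d11m1_valid d11M1_enum hv 0 54 (by norm_num) (by norm_num)
    (by decide +kernel) [1, 0, 1, 1, 0, 1, 1, 1, 0, 0] (by decide +kernel) K hx hy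

theorem d11_sp27274 (hv : rvalid (d11rec 27274) = true) (K : Subgroup (Equiv.Perm GolayPt))
    (hx : dx ∈ K) (hy : yOf (d11rec 27274) ∈ K) :
    (∃ n ∈ d11N, n * rOf (d11rec 27274) ∈ d11M2) ∧ d11M2 ≤ K :=
  spec_sound d11N_enum d11m2 d11m2i d11m2_valid d11M2_enum hv 0 40 (by norm_num) (by norm_num)
    (by decide +kernel) [1, 1, 1, 0, 1, 1, 1, 1, 1, 1, 1, 0] (by decide +kernel) K hx hy

theorem d11_sp31016 (hv : rvalid (d11rec 31016) = true) (K : Subgroup (Equiv.Perm GolayPt))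
    (hx : dx ∈ K) (hy : yOf (d11rec 31016) ∈ K) :
    (∃ n ∈ d11N, n * rOf (d11rec 31016) ∈ d11M1) ∧ d11M1 ≤ K :=
  spec_sound d11N_enum d11m1 d11m1i d11m1_valid d11M1_enum hv 1 111 (by norm_num) (by norm_num)
    (by decide +kernel) [0, 0, 1, 0, 1, 0, 0, 0, 0, 1, 0, 0, 0, 0] (by decide +kernel) K hx hy

theorem d11_sp31327 (hv : rvalid (d11rec 31327) = true) (K : Subgroup (Equiv.Perm GolayPt))
    (hx : dx ∈ K) (hy : yOf (d11rec 31327) ∈ K) :
    (∃ n ∈ d11N, n * rOf (d11rec 31327) ∈ d11M1) ∧ d11M1 ≤ K :=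
  spec_sound d11N_enum d11m1 d11m1i d11m1_valid d11M1_enum hv 0 3 (by norm_num) (by norm_num)
    (by decide +kernel) [1, 0, 0, 1, 1, 0, 0, 1, 1, 1, 1, 1, 1] (by decide +kernel) K hx hy

theorem d11_sp32275 (hv : rvalid (d11rec 32275) = true) (K : Subgroup (Equiv.Perm GolayPt))
    (hx : dx ∈ K) (hy : yOf (d11rec 32275) ∈ K) :
    (∃ n ∈ d11N, n * rOf (d11rec 32275) ∈ d11M2) ∧ d11M2 ≤ K :=
  spec_sound d11N_enum d11m2 d11m2i d11m2_valid d11M2_enum hv 1 83 (by norm_num) (by norm_num)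
    (by decide +kernel) [0, 0, 1, 1, 1, 1, 1, 0, 0, 1, 0, 1, 1] (by decide +kernel) K hx hy

theorem d11_sp32579 (hv : rvalid (d11rec 32579) = true) (K : Subgroup (Equiv.Perm GolayPt))
    (hx : dx ∈ K) (hy : yOf (d11rec 32579) ∈ K) :
    (∃ n ∈ d11N, n * rOf (d11rec 32579) ∈ d11M2) ∧ d11M2 ≤ K :=
  spec_sound d11N_enum d11m2 d11m2i d11m2_valid d11M2_enum hv 0 65 (by norm_num) (by norm_num)
    (by decide +kernel) [0, 0, 0, 1, 1, 1, 0, 0] (by decide +kernel) K hx hy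

theorem d11_special (j : ℕ) (hs : d11spec j = true) (hv : rvalid (d11rec j) = true)
    (K : Subgroup (Equiv.Perm GolayPt)) (hx : dx ∈ K) (hy : yOf (d11rec j) ∈ K) :
    ((∃ n ∈ d11N, n * rOf (d11rec j) ∈ d11L1) ∧ d11L1 ≤ K) ∨
    ((∃ n ∈ d11N, n * rOf (d11rec j) ∈ d11L2) ∧ d11L2 ≤ K) ∨
    ((∃ n ∈ d11N, n * rOf (d11rec j) ∈ d11M1) ∧ d11M1 ≤ K) ∨
    ((∃ n ∈ d11N, n * rOf (d11rec j) ∈ d11M2) ∧ d11M2 ≤ K) := by
  unfold d11spec at hs
  simp only [Bool.or_eq_true] at hs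
  rcases hs with h | h | h | h | h | h | h | h | h | h | h | h | h | h | h | h | h | h | h | h | h | h | h | h | h | h
  · have e := Nat.eq_of_beq_eq_true h
    subst e
    exact Or.inr (Or.inr (Or.inr (d11_sp1663 hv K hx hy)))
  · have e := Nat.eq_of_beq_eq_true h
    subst e
    exact Or.inl (d11_sp2326 hv K hx hy)
  · have e := Nat.eq_of_beq_eq_true h
    subst e
    exact Or.inr (Or.inr (Or.inl (d11_sp2702 hv K hx hy)))
  · have e := Nat.eq_of_beq_eq_true h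
    subst e
    exact Or.inr (Or.inr (Or.inr (d11_sp4580 hv K hx hy)))
  · have e := Nat.eq_of_beq_eq_true h
    subst e
    exact Or.inr (Or.inr (Or.inr (d11_sp5001 hv K hx hy)))
  · have e := Nat.eq_of_beq_eq_true h
    subst e
    exact Or.inr (Or.inr (Or.inl (d11_sp5056 hv K hx hy)))
  · have e := Nat.eq_of_beq_eq_true h
    subst e
    exact Or.inr (Or.inr (Or.inl (d11_sp6747 hv K hx hy)))
  · have e := Nat.eq_of_beq_eq_true h
    subst e
    exact Or.inr (Or.inr (Or.inr (d11_sp8847 hv K hx hy)))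
  · have e := Nat.eq_of_beq_eq_true h
    subst e
    exact Or.inr (Or.inr (Or.inr (d11_sp9714 hv K hx hy)))
  · have e := Nat.eq_of_beq_eq_true h
    subst e
    exact Or.inr (Or.inr (Or.inl (d11_sp11639 hv K hx hy)))
  · have e := Nat.eq_of_beq_eq_true h
    subst e
    exact Or.inr (Or.inr (Or.inr (d11_sp15625 hv K hx hy)))
  · have e := Nat.eq_of_beq_eq_true h
    subst e
    exact Or.inr (Or.inr (Or.inr (d11_sp15945 hv K hx hy)))
  · have e := Nat.eq_of_beq_eq_true h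
    subst e
    exact Or.inr (Or.inr (Or.inl (d11_sp16388 hv K hx hy)))
  · have e := Nat.eq_of_beq_eq_true h
    subst e
    exact Or.inr (Or.inr (Or.inl (d11_sp17818 hv K hx hy)))
  · have e := Nat.eq_of_beq_eq_true h
    subst e
    exact Or.inr (Or.inr (Or.inl (d11_sp18564 hv K hx hy)))
  · have e := Nat.eq_of_beq_eq_true h
    subst e
    exact Or.inr (Or.inr (Or.inl (d11_sp19567 hv K hx hy)))
  · have e := Nat.eq_of_beq_eq_true h
    subst e
    exact Or.inr (Or.inl (d11_sp21178 hv K hx hy))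
  · have e := Nat.eq_of_beq_eq_true h
    subst e
    exact Or.inr (Or.inr (Or.inl (d11_sp21931 hv K hx hy)))
  · have e := Nat.eq_of_beq_eq_true h
    subst e
    exact Or.inr (Or.inr (Or.inr (d11_sp26575 hv K hx hy)))
  · have e := Nat.eq_of_beq_eq_true h
    subst e
    exact Or.inr (Or.inr (Or.inr (d11_sp26850 hv K hx hy)))
  · have e := Nat.eq_of_beq_eq_true h
    subst e
    exact Or.inr (Or.inr (Or.inl (d11_sp26893 hv K hx hy)))
  · have e := Nat.eq_of_beq_eq_true h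
    subst e
    exact Or.inr (Or.inr (Or.inr (d11_sp27274 hv K hx hy)))
  · have e := Nat.eq_of_beq_eq_true h
    subst e
    exact Or.inr (Or.inr (Or.inl (d11_sp31016 hv K hx hy)))
  · have e := Nat.eq_of_beq_eq_true h
    subst e
    exact Or.inr (Or.inr (Or.inl (d11_sp31327 hv K hx hy)))
  · have e := Nat.eq_of_beq_eq_true h
    subst e
    exact Or.inr (Or.inr (Or.inr (d11_sp32275 hv K hx hy)))
  · have e := Nat.eq_of_beq_eq_true h
    subst e
    exact Or.inr (Or.inr (Or.inr (d11_sp32579 hv K hx hy)))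

end Cfsg.Agent.Lib.helper34
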