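/-
helper34 shared library: quartets of a dodecad.  Equivariance of hexads and quartets under `M24`,
transitivity of `M24` on triples `(d, t, u)` with `t ∪ u` a hexad on the dodecad `d`, the unique
quartet through two triples, and the order 432 of the stabiliser of a quartet.
-/
import Cfsg.Agent.Lib.helper34.GolayM12
import Cfsg.Agent.Lib.helper34.GolayRigid
import Cfsg.Prelude.Def_SporadicCombinatorics

set_option autoImplicit false

namespace Cfsg.Agent.Lib.helper34

open Cfsg
open scoped Pointwise

/-! ### Generalities -/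

/-- Membership of a number in a list, as a kernel-friendly Boolean. -/
def elemN : List ℕ → ℕ → Bool
  | [], _ => false
  | b :: l, a => or (Nat.beq a b) (elemN l a)

theorem elemN_iff {l : List ℕ} {a : ℕ} : elemN l a = true ↔ a ∈ l := by
  induction l with
  | nil => simp [elemN]
  | cons b l ih =>
    rw [elemN, Bool.or_eq_true, ih, List.mem_cons, Nat.beq_eq]

theorem card_unmask {m : ℕ} (h : m < 2 ^ 24) : (unmask m).card = popF m := by
  rw [card_eq_popF, mask_unmask h]

theorem unmask_inj {a b : ℕ} (ha : a < 2 ^ 24) (hb : b < 2 ^ 24) (h : unmask a = unmask b) :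
    a = b := by
  rw [← mask_unmask ha, ← mask_unmask hb, h]

theorem unmask_sdiff (a b : ℕ) : unmask a \ unmask b = unmask (a &&& (a ^^^ b)) := by
  ext p
  rw [Finset.mem_sdiff, mem_unmask, mem_unmask, mem_unmask, Nat.testBit_and, Nat.testBit_xor]
  cases a.testBit (idx p) <;> cases b.testBit (idx p) <;> simp

theorem or_xor_of_disjoint {a b : ℕ} (h : a &&& b = 0) : (a ||| b) ^^^ a = b := by
  apply Nat.eq_of_testBit_eq
  intro i
  have hi : (a &&& b).testBit i = false := by rw [h]; exact Nat.zero_testBit i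
  rw [Nat.testBit_and] at hi
  rw [Nat.testBit_xor, Nat.testBit_or]
  cases ha : a.testBit i <;> cases hb : b.testBit i <;> simp_all

/-- The family of sets with masks in a list. -/
def unmaskQ (l : List ℕ) : Finset (Finset GolayPt) := l.toFinset.image unmask

theorem mem_unmaskQ {l : List ℕ} {t : Finset GolayPt} : t ∈ unmaskQ l ↔ ∃ a ∈ l, unmask a = t := by
  unfold unmaskQ
  rw [Finset.mem_image]
  simp only [List.mem_toFinset]

theorem card_unmaskQ {l : List ℕ} (hlt : ∀ a ∈ l, a < 2 ^ 24) (hnd : l.Nodup) :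
    (unmaskQ l).card = l.length := by
  unfold unmaskQ
  rw [Finset.card_image_of_injOn, List.toFinset_card_of_nodup hnd]
  intro a ha b hb h
  rw [Finset.mem_coe, List.mem_toFinset] at ha hb
  exact unmask_inj (hlt a ha) (hlt b hb) h

theorem mask_mem_of_mem_unmaskQ {l : List ℕ} (hlt : ∀ a ∈ l, a < 2 ^ 24) {t : Finset GolayPt}
    (ht : t ∈ unmaskQ l) : mask t ∈ l := by
  obtain ⟨a, ha, rfl⟩ := mem_unmaskQ.mp ht
  rw [mask_unmask (hlt a ha)]
  exact ha

/-- The number of sets whose masks form a given duplicate-free list. -/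
theorem ncard_of_list (S : Set (Finset GolayPt)) (L : List ℕ) (hnd : L.Nodup)
    (hlt : ∀ m ∈ L, m < 2 ^ 24) (hS : ∀ s, s ∈ S ↔ mask s ∈ L) : S.ncard = L.length := by
  have e : S = ↑(unmaskQ L) := by
    ext s
    rw [hS, Finset.mem_coe, mem_unmaskQ]
    constructor
    · intro h
      exact ⟨mask s, h, unmask_mask s⟩
    · rintro ⟨a, ha, rfl⟩
      rw [mask_unmask (hlt a ha)]
      exact ha
  rw [e, Set.ncard_coe_finset, card_unmaskQ hlt hnd]

theorem ncard_smul_transport {α : Type*} [MulAction (Equiv.Perm GolayPt) α]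
    (h : Equiv.Perm GolayPt) (S T : Set α) (hST : ∀ s, s ∈ S ↔ h • s ∈ T) : S.ncard = T.ncard := by
  have e : T = (fun s => h • s) '' S := by
    ext t
    constructor
    · intro ht
      exact ⟨h⁻¹ • t, (hST _).mpr (by rw [smul_inv_smul]; exact ht), smul_inv_smul h t⟩
    · rintro ⟨s, hs, rfl⟩
      exact (hST s).mp hs
  rw [e, Set.InjOn.ncard_image]
  exact fun a _ b _ hab => smul_left_cancel h hab

theorem mem_octads_encF {u : ℕ} (hu : u < 4096) (hp : popF (encF u) = 8) :
    unmask (encF u) ∈ octads := by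
  rw [mem_octads_iff, mask_unmask (encF_lt u), isCodeB_iff]
  exact ⟨isCode_encF hu, hp⟩

/-! ### Equivariance -/

theorem smul_mem_hexadsOn {g : Equiv.Perm GolayPt} (hg : g ∈ M24) {d h : Finset GolayPt}
    (hh : h ∈ hexadsOn d) : g • h ∈ hexadsOn (g • d) := by
  obtain ⟨hc, o, ho, e⟩ := hh
  exact ⟨by rw [Finset.card_smul_finset]; exact hc, g • o, (smul_mem_octads_iff hg o).mpr ho,
    by rw [← Finset.smul_finset_inter, e]⟩

theorem smul_mem_quartets {g : Equiv.Perm GolayPt} (hg : g ∈ M24) {d : Finset GolayPt}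
    {Q : Finset (Finset GolayPt)} (hQ : Q ∈ quartets d) : g • Q ∈ quartets (g • d) := by
  obtain ⟨hc, h3, hh⟩ := hQ
  refine ⟨by rw [Finset.card_smul_finset]; exact hc, ?_, ?_⟩
  · intro t ht
    obtain ⟨t', ht', rfl⟩ := Finset.mem_smul_finset.mp ht
    exact ⟨by rw [Finset.card_smul_finset]; exact (h3 t' ht').1,
      Finset.smul_finset_subset_smul_finset_iff.mpr (h3 t' ht').2⟩
  · intro t ht u hu hne
    obtain ⟨t', ht', rfl⟩ := Finset.mem_smul_finset.mp ht
    obtain ⟨u', hu', rfl⟩ := Finset.mem_smul_finset.mp hu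
    rw [← Finset.smul_finset_union]
    exact smul_mem_hexadsOn hg (hh t' ht' u' hu' (fun e => hne (by rw [e])))

theorem smul_mem_quartets_iff {g : Equiv.Perm GolayPt} (hg : g ∈ M24) {d : Finset GolayPt}
    {Q : Finset (Finset GolayPt)} : g • Q ∈ quartets (g • d) ↔ Q ∈ quartets d :=
  ⟨fun h => by
    have := smul_mem_quartets (M24.inv_mem hg) h
    rwa [inv_smul_smul, inv_smul_smul] at this, fun h => smul_mem_quartets hg h⟩

/-- Two distinct triples of a quartet are disjoint. -/
theorem quartet_disjoint {d : Finset GolayPt} {Q : Finset (Finset GolayPt)} (hQ : Q ∈ quartets d)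
    {t u : Finset GolayPt} (ht : t ∈ Q) (hu : u ∈ Q) (hne : t ≠ u) : Disjoint t u := by
  have h6 := (hQ.2.2 t ht u hu hne).1
  rw [← Finset.card_union_eq_card_add_card, h6, (hQ.2.1 t ht).1, (hQ.2.1 u hu).1]

/-! ### The base configuration -/

theorem unmask7 : unmask 7 = {ptOf 0, ptOf 1, ptOf 2} := by
  rw [show (7 : ℕ) = 2 ^ 0 ||| (2 ^ 1 ||| 2 ^ 2) by decide, unmask_or, unmask_or,
    unmask_two_pow (by norm_num), unmask_two_pow (by norm_num), unmask_two_pow (by norm_num)]
  rfl

theorem unmask31 : unmask 31 = {ptOf 0, ptOf 1, ptOf 2, ptOf 3, ptOf 4} := by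
  rw [show (31 : ℕ) = 2 ^ 0 ||| (2 ^ 1 ||| (2 ^ 2 ||| (2 ^ 3 ||| 2 ^ 4))) by decide, unmask_or,
    unmask_or, unmask_or, unmask_or, unmask_two_pow (by norm_num), unmask_two_pow (by norm_num),
    unmask_two_pow (by norm_num), unmask_two_pow (by norm_num), unmask_two_pow (by norm_num)]
  rfl

/-- The octad through the points `0, 1, 2, 3, 4` is `encF 1183`. -/
theorem octad5_unique : allBelow (fun j => bif and (Nat.beq (popF (encF j)) 8)
    (Nat.beq (Nat.land (encF j) 31) 31) then Nat.beq j 1183 else true) 4096 = true := by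
  decide +kernel

theorem octad5_sdiff : (encF 1183 &&& dodecad0) &&& ((encF 1183 &&& dodecad0) ^^^ 7) = 4120 := by
  decide +kernel

/-- `M24` is transitive on triples `(d, t, u)`: a dodecad and two disjoint triples in it whose
union is a hexad on `d`.  The base triple is `(dodecad0, {0, 1, 2}, {3, 4, 12})`. -/
theorem flag_quartet_pair {d t u : Finset GolayPt} (hd : d ∈ dodecads) (ht : t.card = 3)
    (hu : u.card = 3) (htu : Disjoint t u) (hh : t ∪ u ∈ hexadsOn d) :
    ∃ h ∈ M24, h • d = unmask dodecad0 ∧ h • t = unmask 7 ∧ h • u = unmask 4120 := by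
  obtain ⟨a, b, c, hab, hac, hbc, rfl⟩ := Finset.card_eq_three.mp ht
  obtain ⟨e, f, g, hef, heg, hfg, rfl⟩ := Finset.card_eq_three.mp hu
  obtain ⟨hc6, o, ho, hod⟩ := hh
  have hsub : ({a, b, c} ∪ {e, f, g} : Finset GolayPt) ⊆ d := by
    rw [← hod]; exact Finset.inter_subset_right
  have hsubo : ({a, b, c} ∪ {e, f, g} : Finset GolayPt) ⊆ o := by
    rw [← hod]; exact Finset.inter_subset_left
  have hdis := Finset.disjoint_left.mp htu
  have hae : a ≠ e := fun h => hdis (a := a) (by simp) (by simp [h])
  have haf : a ≠ f := fun h => hdis (a := a) (by simp) (by simp [h])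
  have hbe : b ≠ e := fun h => hdis (a := b) (by simp) (by simp [h])
  have hbf : b ≠ f := fun h => hdis (a := b) (by simp) (by simp [h])
  have hce : c ≠ e := fun h => hdis (a := c) (by simp) (by simp [h])
  have hcf : c ≠ f := fun h => hdis (a := c) (by simp) (by simp [h])
  obtain ⟨h, hh, hd0, e0, e1, e2, e3, e4⟩ := flag_dodecad_in5 hd (hsub (by simp))
    (hsub (by simp)) (hsub (by simp)) (hsub (by simp)) (hsub (by simp) : f ∈ d)
    hab hac hae haf hbc hbe hbf hce hcf hef
  have ht7 : h • ({a, b, c} : Finset GolayPt) = unmask 7 := by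
    rw [unmask7, ← e0, ← e1, ← e2]
    ext x
    simp [Finset.mem_smul_finset, eq_comm]
  have h31 : unmask 31 ⊆ h • o := by
    rw [unmask31, ← e0, ← e1, ← e2, ← e3, ← e4]
    intro x hx
    simp only [Finset.mem_insert, Finset.mem_singleton] at hx
    rcases hx with rfl | rfl | rfl | rfl | rfl
    · exact Finset.smul_mem_smul_finset (hsubo (by simp))
    · exact Finset.smul_mem_smul_finset (hsubo (by simp))
    · exact Finset.smul_mem_smul_finset (hsubo (by simp))
    · exact Finset.smul_mem_smul_finset (hsubo (by simp))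
    · exact Finset.smul_mem_smul_finset (hsubo (by simp))
  have ho5 : h • o = unmask (encF 1183) := by
    have ho' : h • o ∈ octads := (smul_mem_octads_iff hh o).mpr ho
    obtain ⟨hs, hp⟩ := (mem_octads_iff _).mp ho'
    obtain ⟨hlt, ee⟩ := code_index ((mem_supports_iffB _).mpr hs)
    have hl := allBelow_spec octad5_unique _ hlt
    rw [subset_iff_mask, mask_unmask (by norm_num), Nat.and_comm] at h31
    have h31' : Nat.land (mask (h • o)) 31 = 31 := h31
    rw [ee, hp, h31'] at hl
    simp only [Nat.beq_refl, Bool.and_self, cond_true] at hl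
    rw [Nat.eq_of_beq_eq_true hl] at ee
    rw [ee, unmask_mask]
  refine ⟨h, hh, hd0, ht7, ?_⟩
  have hu3 : (h • ({e, f, g} : Finset GolayPt)).card = 3 := by
    rw [Finset.card_smul_finset]; exact hu
  have hsub2 : h • ({e, f, g} : Finset GolayPt) ⊆ unmask 4120 := by
    rw [← octad5_sdiff, ← unmask_sdiff, unmask_and, ← ho5, ← hd0, ← Finset.smul_finset_inter, hod,
      ← ht7, ← Finset.smul_finset_sdiff, Finset.smul_finset_subset_smul_finset_iff]
    intro x hx
    rw [Finset.mem_sdiff]
    exact ⟨Finset.mem_union_right _ hx, fun hx' => hdis hx' hx⟩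
  exact Finset.eq_of_subset_of_card_le hsub2 (by rw [hu3, card_unmask (by norm_num)]; decide +kernel)

/-- Octad indices of the twelve hexads of `dodecad0` through `{0, 1, 2}`. -/
def hexJt : List ℕ := [15, 23, 103, 271, 343, 519, 567, 903, 1095, 1183, 2311, 2639]

/-- Octad indices of the twelve hexads of `dodecad0` through `{3, 4, 12}`. -/
def hexJu : List ℕ := [28, 57, 90, 216, 282, 284, 537, 636, 1183, 1816, 2393, 2586]

/-- Masks of the hexads cut out on `dodecad0` by the octads with the given indices. -/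
def hexMasks (J : List ℕ) : List ℕ := J.map (fun j => Nat.land (encF j) dodecad0)

theorem hexJt_complete : allBelow (fun j => bif and (Nat.beq (popF (encF j)) 8)
    (and (Nat.beq (popF (Nat.land (encF j) dodecad0)) 6) (Nat.beq (Nat.land (encF j) 7) 7)) then
    elemN (hexMasks hexJt) (Nat.land (encF j) dodecad0) else true) 4096 = true := by decide +kernel

theorem hexJu_complete : allBelow (fun j => bif and (Nat.beq (popF (encF j)) 8)
    (and (Nat.beq (popF (Nat.land (encF j) dodecad0)) 6) (Nat.beq (Nat.land (encF j) 4120) 4120)) then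
    elemN (hexMasks hexJu) (Nat.land (encF j) dodecad0) else true) 4096 = true := by decide +kernel

/-- A hexad on `dodecad0` containing the set with mask `T` has its mask in the list `L`, when `L`
contains the traces of all octads through `T` meeting `dodecad0` in six points. -/
theorem hex_through (T : ℕ) (hT : T < 2 ^ 24) (L : List ℕ)
    (hL : allBelow (fun j => bif and (Nat.beq (popF (encF j)) 8)
      (and (Nat.beq (popF (Nat.land (encF j) dodecad0)) 6) (Nat.beq (Nat.land (encF j) T) T)) then
      elemN L (Nat.land (encF j) dodecad0) else true) 4096 = true)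
    {h : Finset GolayPt} (hh : h ∈ hexadsOn (unmask dodecad0)) (hsub : unmask T ⊆ h) :
    mask h ∈ L := by
  obtain ⟨hc, o, ho, e⟩ := hh
  obtain ⟨hs, hp⟩ := (mem_octads_iff o).mp ho
  obtain ⟨hlt, ee⟩ := code_index ((mem_supports_iffB o).mpr hs)
  have hl := allBelow_spec hL _ hlt
  rw [ee] at hl
  have hm : mask h = Nat.land (mask o) dodecad0 := by
    rw [← e, mask_inter, mask_dodecad0]; rfl
  have h2 : popF (Nat.land (mask o) dodecad0) = 6 := by rw [← hm, ← card_eq_popF, hc]
  have h3 : Nat.land (mask o) T = T := by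
    have hso : unmask T ⊆ o := hsub.trans (by rw [← e]; exact Finset.inter_subset_left)
    rw [subset_iff_mask, mask_unmask hT, Nat.and_comm] at hso
    exact hso
  rw [hp, h2, h3] at hl
  simp only [Nat.beq_refl, Bool.and_self, cond_true] at hl
  rw [hm]
  exact elemN_iff.mp hl

/-- The masks of the four triples of the base quartet. -/
def quartet0 : List ℕ := [7, 4120, 327744, 8960]

theorem quartet0_lt : ∀ a ∈ quartet0, a < 2 ^ 24 := by decide

theorem quartet_cands : ∀ x ∈ (hexMasks hexJt).map (fun m => m ^^^ 7),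
    x ∈ (hexMasks hexJu).map (fun m => m ^^^ 4120) → x = 327744 ∨ x = 8960 := by decide +kernel

/-- The mask of a triple `v` completing the triple with mask `T` to a hexad is among the masks
`m ^^^ T` for `m` in the list of hexads through `T`. -/
theorem triple_cand (T : ℕ) (hT : T < 2 ^ 24) (hT3 : popF T = 3) (L : List ℕ)
    (hL : allBelow (fun j => bif and (Nat.beq (popF (encF j)) 8)
      (and (Nat.beq (popF (Nat.land (encF j) dodecad0)) 6) (Nat.beq (Nat.land (encF j) T) T)) then
      elemN L (Nat.land (encF j) dodecad0) else true) 4096 = true)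
    {v : Finset GolayPt} (hv : v.card = 3) (hh : unmask T ∪ v ∈ hexadsOn (unmask dodecad0)) :
    mask v ∈ L.map (fun m => m ^^^ T) := by
  have h1 := hex_through T hT L hL hh Finset.subset_union_left
  have hdis : Disjoint (unmask T) v := by
    rw [← Finset.card_union_eq_card_add_card, hh.1, hv, card_unmask hT, hT3]
  rw [disjoint_iff_mask, mask_unmask hT] at hdis
  rw [mask_union, mask_unmask hT] at h1
  rw [List.mem_map]
  exact ⟨_, h1, or_xor_of_disjoint hdis⟩

theorem quartet0_wit : ∀ a ∈ quartet0, ∀ b ∈ quartet0, a ≠ b →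
    ∃ j ∈ [216, 903, 1095, 1183, 1816, 1984], j < 4096 ∧ popF (encF j) = 8 ∧ encF j &&& dodecad0 = a ||| b ∧
      popF (a ||| b) = 6 := by decide +kernel

theorem quartet0_triples : ∀ a ∈ quartet0, popF a = 3 ∧ a &&& dodecad0 = a := by decide +kernel

/-- The base quartet is a quartet of the base dodecad. -/
theorem quartet0_mem : unmaskQ quartet0 ∈ quartets (unmask dodecad0) := by
  refine ⟨by rw [card_unmaskQ quartet0_lt (by decide)]; rfl, ?_, ?_⟩
  · intro t ht
    obtain ⟨a, ha, rfl⟩ := mem_unmaskQ.mp ht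
    have hlt := quartet0_lt a ha
    obtain ⟨h3, hs⟩ := quartet0_triples a ha
    exact ⟨by rw [card_unmask hlt, h3], by
      rw [subset_iff_mask, mask_unmask hlt, mask_dodecad0]; exact hs⟩
  · intro t ht u hu hne
    obtain ⟨a, ha, rfl⟩ := mem_unmaskQ.mp ht
    obtain ⟨b, hb, rfl⟩ := mem_unmaskQ.mp hu
    have hab : a ≠ b := fun e => hne (by rw [e])
    obtain ⟨j, _, hj, h8, he, h6⟩ := quartet0_wit a ha b hb hab
    have hlt : a ||| b < 2 ^ 24 := Nat.or_lt_two_pow (quartet0_lt a ha) (quartet0_lt b hb)
    refine ⟨by rw [← unmask_or, card_unmask hlt, h6], unmask (encF j), mem_octads_encF hj h8, ?_⟩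
    rw [← unmask_and, he, unmask_or]

/-- The base quartet is the only quartet of the base dodecad containing its first two triples. -/
theorem quartet0_unique {Q : Finset (Finset GolayPt)} (hQ : Q ∈ quartets (unmask dodecad0))
    (ht : unmask 7 ∈ Q) (hu : unmask 4120 ∈ Q) : Q = unmaskQ quartet0 := by
  have hsub : Q ⊆ unmaskQ quartet0 := by
    intro v hv
    rw [mem_unmaskQ]
    by_cases h7 : v = unmask 7
    · exact ⟨7, by decide, h7.symm⟩
    by_cases h8 : v = unmask 4120
    · exact ⟨4120, by decide, h8.symm⟩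
    have hv3 := (hQ.2.1 v hv).1
    have c1 := triple_cand 7 (by norm_num) (by decide +kernel) _ hexJt_complete hv3
      (hQ.2.2 _ ht v hv (Ne.symm h7))
    have c2 := triple_cand 4120 (by norm_num) (by decide +kernel) _ hexJu_complete hv3
      (hQ.2.2 _ hu v hv (Ne.symm h8))
    rcases quartet_cands _ c1 c2 with h | h
    · exact ⟨327744, by decide, by rw [← h, unmask_mask]⟩
    · exact ⟨8960, by decide, by rw [← h, unmask_mask]⟩
  exact Finset.eq_of_subset_of_card_le hsub (by
    rw [card_unmaskQ quartet0_lt (by decide), hQ.1]; decide)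

/-! ### Orders -/

/-- The stabiliser of the base dodecad and the base quartet. -/
def stabQuartet0 : Subgroup (Equiv.Perm GolayPt) where
  carrier := {g | g ∈ stabMasks [dodecad0] ∧ g • unmaskQ quartet0 = unmaskQ quartet0}
  mul_mem' := fun {a b} ha hb =>
    ⟨(stabMasks _).mul_mem ha.1 hb.1, by rw [mul_smul, hb.2, ha.2]⟩
  one_mem' := ⟨(stabMasks _).one_mem, one_smul _ _⟩
  inv_mem' := fun {a} ha => ⟨(stabMasks _).inv_mem ha.1, by rw [inv_smul_eq_iff, ha.2]⟩

theorem mem_stabQuartet0 {g : Equiv.Perm GolayPt} : g ∈ stabQuartet0 ↔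
    g ∈ stabMasks [dodecad0] ∧ g • unmaskQ quartet0 = unmaskQ quartet0 := Iff.rfl

theorem stabQuartet0_le : stabQuartet0 ≤ M24 := fun _ hg => hg.1.1

theorem mem_quartet0_7 : unmask 7 ∈ unmaskQ quartet0 := mem_unmaskQ.mpr ⟨7, by decide, rfl⟩

theorem mem_quartet0_u : unmask 4120 ∈ unmaskQ quartet0 := mem_unmaskQ.mpr ⟨4120, by decide, rfl⟩

theorem unmask7_ne : unmask 7 ≠ unmask 4120 :=
  fun h => absurd (unmask_inj (by norm_num) (by norm_num) h) (by norm_num)

/-- An element of `M24` fixing the base dodecad and the first two triples of the base quartet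
fixes the base quartet. -/
theorem smul_quartet0 {g : Equiv.Perm GolayPt} (hg : g ∈ M24)
    (hd : g • unmask dodecad0 = unmask dodecad0) (ht : g • unmask 7 = unmask 7)
    (hu : g • unmask 4120 = unmask 4120) : g • unmaskQ quartet0 = unmaskQ quartet0 := by
  have h1 : g • unmaskQ quartet0 ∈ quartets (unmask dodecad0) := by
    have := smul_mem_quartets hg quartet0_mem
    rwa [hd] at this
  refine quartet0_unique h1 ?_ ?_
  · rw [← ht]; exact Finset.smul_mem_smul_finset mem_quartet0_7
  · rw [← hu]; exact Finset.smul_mem_smul_finset mem_quartet0_u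

theorem card_stab_triple : Nat.card (stabMasks [7, dodecad0]) = 432 := by
  have h := card_orbit_stab (α := Finset GolayPt) (stabMasks [dodecad0]) (stabMasks [7, dodecad0])
    (unmask 7) (↑(Finset.powersetCard 3 (unmask dodecad0))) ?_ (fun g => mem_stabMasks_cons)
  · rw [card_stabM12_0, Set.ncard_coe_finset, Finset.card_powersetCard, card_unmask dodecad0_lt] at h
    have e : Nat.choose (popF dodecad0) 3 = 220 := by decide +kernel
    rw [e] at h
    omega
  · intro s
    rw [Finset.mem_coe, Finset.mem_powersetCard]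
    constructor
    · rintro ⟨hsub, hc⟩
      obtain ⟨a, b, c, hab, hac, hbc, rfl⟩ := Finset.card_eq_three.mp hc
      obtain ⟨h, hh, hd0, e0, e1, e2⟩ := flag_dodecad_in3 dodecad0_mem (hsub (by simp))
        (hsub (by simp)) (hsub (by simp)) hab hac hbc
      refine ⟨h⁻¹, ⟨M24.inv_mem hh, ?_⟩, ?_⟩
      · intro m hm
        rw [List.mem_singleton] at hm
        rw [hm, inv_smul_eq_iff, hd0]
      · rw [inv_smul_eq_iff, unmask7, ← e0, ← e1, ← e2]
        ext x
        simp [Finset.mem_smul_finset, eq_comm]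
    · rintro ⟨g, hg, rfl⟩
      refine ⟨?_, by rw [Finset.card_smul_finset, card_unmask (by norm_num)]; decide +kernel⟩
      rw [← stabMasks_set hg (by simp : dodecad0 ∈ [dodecad0]),
        Finset.smul_finset_subset_smul_finset_iff, subset_iff_mask, mask_unmask (by norm_num),
        mask_dodecad0]
      decide +kernel

theorem hexJt_valid : ∀ j ∈ hexJt, j < 4096 ∧ popF (encF j) = 8 ∧
    popF ((Nat.land (encF j) dodecad0) ^^^ 7) = 3 ∧
    7 ||| ((Nat.land (encF j) dodecad0) ^^^ 7) = Nat.land (encF j) dodecad0 ∧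
    popF (Nat.land (encF j) dodecad0) = 6 := by decide +kernel

theorem hexJt_nodup : ((hexMasks hexJt).map (fun m => m ^^^ 7)).Nodup := by decide +kernel

theorem hexJt_lt : ∀ m ∈ (hexMasks hexJt).map (fun m => m ^^^ 7), m < 2 ^ 24 := by decide +kernel

theorem base_hexad : unmask 7 ∪ unmask 4120 ∈ hexadsOn (unmask dodecad0) :=
  quartet0_mem.2.2 _ mem_quartet0_7 _ mem_quartet0_u unmask7_ne

theorem card_stab_pair : Nat.card (stabMasks [4120, 7, dodecad0]) = 36 := by
  have h := card_orbit_stab (α := Finset GolayPt) (stabMasks [7, dodecad0])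
    (stabMasks [4120, 7, dodecad0]) (unmask 4120)
    {u : Finset GolayPt | u.card = 3 ∧ unmask 7 ∪ u ∈ hexadsOn (unmask dodecad0)} ?_
    (fun g => mem_stabMasks_cons)
  · rw [card_stab_triple, ncard_of_list _ _ hexJt_nodup hexJt_lt ?_] at h
    · have e : ((hexMasks hexJt).map (fun m => m ^^^ 7)).length = 12 := by decide +kernel
      rw [e] at h
      omega
    · intro u
      constructor
      · rintro ⟨hu3, hh⟩
        exact triple_cand 7 (by norm_num) (by decide +kernel) _ hexJt_complete hu3 hh
      · intro hm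
        rw [List.mem_map] at hm
        obtain ⟨m, hm1, hm2⟩ := hm
        unfold hexMasks at hm1
        rw [List.mem_map] at hm1
        obtain ⟨j, hj, rfl⟩ := hm1
        obtain ⟨hj1, hj2, hj3, hj4, hj5⟩ := hexJt_valid j hj
        have hu : u = unmask ((Nat.land (encF j) dodecad0) ^^^ 7) := by
          rw [hm2, unmask_mask]
        have hlt : (Nat.land (encF j) dodecad0) ^^^ 7 < 2 ^ 24 := by
          rw [hm2]; exact mask_lt u
        have hlt2 : Nat.land (encF j) dodecad0 < 2 ^ 24 :=
          lt_of_le_of_lt Nat.and_le_left (encF_lt j)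
        refine ⟨by rw [hu, card_unmask hlt, hj3], ?_⟩
        rw [hu, ← unmask_or, hj4]
        exact ⟨by rw [card_unmask hlt2, hj5], unmask (encF j), mem_octads_encF hj1 hj2,
          (unmask_and _ _).symm⟩
  · intro u
    constructor
    · rintro ⟨hu3, hh⟩
      have hdis : Disjoint (unmask 7) u := by
        rw [← Finset.card_union_eq_card_add_card, hh.1, hu3, card_unmask (by norm_num)]
        decide +kernel
      obtain ⟨h, hh', hd0, e7, eu⟩ := flag_quartet_pair dodecad0_mem
        (by rw [card_unmask (by norm_num)]; decide +kernel) hu3 hdis hh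
      refine ⟨h⁻¹, ⟨M24.inv_mem hh', ?_⟩, by rw [inv_smul_eq_iff, eu]⟩
      intro m hm
      simp only [List.mem_cons, List.not_mem_nil, or_false] at hm
      rcases hm with rfl | rfl
      · rw [inv_smul_eq_iff, e7]
      · rw [inv_smul_eq_iff, hd0]
    · rintro ⟨g, hg, rfl⟩
      refine ⟨by rw [Finset.card_smul_finset, card_unmask (by norm_num)]; decide +kernel, ?_⟩
      have h7 := stabMasks_set hg (by simp : 7 ∈ [7, dodecad0])
      have hd := stabMasks_set hg (by simp : dodecad0 ∈ [7, dodecad0])
      have := smul_mem_hexadsOn hg.1 base_hexad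
      rwa [Finset.smul_finset_union, h7, hd] at this

theorem card_stabQuartet0 : Nat.card stabQuartet0 = 432 := by
  have h := card_orbit_stab (α := Finset GolayPt × Finset GolayPt) stabQuartet0
    (stabMasks [4120, 7, dodecad0]) (unmask 7, unmask 4120) (↑((unmaskQ quartet0).offDiag)) ?_ ?_
  · rw [card_stab_pair, Set.ncard_coe_finset, Finset.offDiag_card,
      card_unmaskQ quartet0_lt (by decide)] at h
    exact h
  · rintro ⟨t, u⟩
    rw [Finset.mem_coe, Finset.mem_offDiag]
    constructor
    · rintro ⟨ht, hu, hne⟩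
      obtain ⟨h, hh, hd0, e7, eu⟩ := flag_quartet_pair dodecad0_mem (quartet0_mem.2.1 t ht).1
        (quartet0_mem.2.1 u hu).1 (quartet_disjoint quartet0_mem ht hu hne)
        (quartet0_mem.2.2 t ht u hu hne)
      have hQ : h • unmaskQ quartet0 = unmaskQ quartet0 := by
        have h1 : h • unmaskQ quartet0 ∈ quartets (unmask dodecad0) := by
          have := smul_mem_quartets hh quartet0_mem
          rwa [hd0] at this
        refine quartet0_unique h1 ?_ ?_
        · rw [← e7]; exact Finset.smul_mem_smul_finset ht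
        · rw [← eu]; exact Finset.smul_mem_smul_finset hu
      refine ⟨h⁻¹, stabQuartet0.inv_mem ⟨⟨hh, ?_⟩, hQ⟩, ?_⟩
      · intro m hm
        rw [List.mem_singleton] at hm
        rw [hm, hd0]
      · rw [Prod.smul_mk, inv_smul_eq_iff.mpr e7.symm, inv_smul_eq_iff.mpr eu.symm]
    · rintro ⟨g, hg, e⟩
      rw [Prod.smul_mk, Prod.mk.injEq] at e
      obtain ⟨rfl, rfl⟩ := e
      refine ⟨?_, ?_, fun e => unmask7_ne (smul_left_cancel g e)⟩
      · rw [← hg.2]; exact Finset.smul_mem_smul_finset mem_quartet0_7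
      · rw [← hg.2]; exact Finset.smul_mem_smul_finset mem_quartet0_u
  · intro g
    rw [Prod.smul_mk, Prod.mk.injEq]
    constructor
    · intro hg
      have h7 := stabMasks_set hg (by simp : 7 ∈ [4120, 7, dodecad0])
      have hu := stabMasks_set hg (by simp : 4120 ∈ [4120, 7, dodecad0])
      have hd := stabMasks_set hg (by simp : dodecad0 ∈ [4120, 7, dodecad0])
      refine ⟨⟨⟨hg.1, ?_⟩, smul_quartet0 hg.1 hd h7 hu⟩, h7, hu⟩
      intro m hm
      rw [List.mem_singleton] at hm
      rw [hm, hd]
    · rintro ⟨⟨hg1, _⟩, h7, hu⟩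
      refine ⟨hg1.1, ?_⟩
      intro m hm
      simp only [List.mem_cons, List.not_mem_nil, or_false] at hm
      rcases hm with rfl | rfl | rfl
      · exact hu
      · exact h7
      · exact stabMasks_set hg1 (by simp)

/-- Every quartet of a dodecad can be moved to the base quartet of the base dodecad. -/
theorem quartet_trans {d : Finset GolayPt} (hd : d ∈ dodecads) {Q : Finset (Finset GolayPt)}
    (hQ : Q ∈ quartets d) : ∃ h ∈ M24, h • d = unmask dodecad0 ∧ h • Q = unmaskQ quartet0 := by
  have h1 : 1 < Q.card := by rw [hQ.1]; norm_num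
  obtain ⟨t, ht, u, hu, hne⟩ := Finset.one_lt_card.mp h1
  obtain ⟨h, hh, hd0, e7, eu⟩ := flag_quartet_pair hd (hQ.2.1 t ht).1 (hQ.2.1 u hu).1
    (quartet_disjoint hQ ht hu hne) (hQ.2.2 t ht u hu hne)
  refine ⟨h, hh, hd0, ?_⟩
  have h2 : h • Q ∈ quartets (unmask dodecad0) := by
    have := smul_mem_quartets hh hQ
    rwa [hd0] at this
  refine quartet0_unique h2 ?_ ?_
  · rw [← e7]; exact Finset.smul_mem_smul_finset ht
  · rw [← eu]; exact Finset.smul_mem_smul_finset hu

theorem ncard_quartets0 : (quartets (unmask dodecad0)).ncard = 220 := by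
  have h := card_orbit_stab (α := Finset (Finset GolayPt)) (stabMasks [dodecad0]) stabQuartet0
    (unmaskQ quartet0) (quartets (unmask dodecad0)) ?_ (fun g => mem_stabQuartet0)
  · rw [card_stabM12_0, card_stabQuartet0] at h
    omega
  · intro Q
    constructor
    · intro hQ
      obtain ⟨h, hh, hd0, e⟩ := quartet_trans dodecad0_mem hQ
      refine ⟨h⁻¹, ⟨M24.inv_mem hh, ?_⟩, by rw [inv_smul_eq_iff, e]⟩
      intro m hm
      rw [List.mem_singleton] at hm
      rw [hm, inv_smul_eq_iff, hd0]
    · rintro ⟨g, hg, rfl⟩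
      have := smul_mem_quartets hg.1 quartet0_mem
      rwa [stabMasks_set hg (by simp)] at this

end Cfsg.Agent.Lib.helper34
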