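/-
helper34 shared library: an orbit checker for table permutations acting on families of sets
(lists of masks, e.g. quartets), in the style of `GolayOrbit`, and the transport of an orbit of a
subgroup of `↥M24` along conjugation.
-/
import Cfsg.Agent.Lib.helper34.GolayQuartets

set_option autoImplicit false

namespace Cfsg.Agent.Lib.helper34

open Cfsg
open scoped Pointwise

/-- Generic entry check: as `entryOK`, with the action step given as a Boolean relation on object
indices. -/
def entryOKR (step : ℕ → ℕ → ℕ → Bool) (C N k : ℕ) : Bool :=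
  bif Nat.beq (eDepth (certEntry C k)) 0 then Nat.beq (eRoot (certEntry C k)) k
  else
    and (Nat.blt (ePar (certEntry C k)) N)
      (and (Nat.blt (eDepth (certEntry C (ePar (certEntry C k)))) (eDepth (certEntry C k)))
        (and (Nat.beq (eRoot (certEntry C (ePar (certEntry C k)))) (eRoot (certEntry C k)))
          (step (eGen (certEntry C k)) (ePar (certEntry C k)) k)))

theorem orbCheckR_sound {step : ℕ → ℕ → ℕ → Bool} {C N : ℕ}
    {R : ℕ → ℕ → Prop} (hrefl : ∀ a, R a a) (htrans : ∀ a b c, R a b → R b c → R a c)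
    (hstep : ∀ gi a b, step gi a b = true → R a b)
    (h : allBelow (entryOKR step C N) N = true) :
    ∀ k < N, R (rootOf C k) k := by
  have hall := allBelow_spec h
  have key : ∀ d, ∀ k < N, eDepth (certEntry C k) = d → R (eRoot (certEntry C k)) k := by
    intro d
    induction d using Nat.strong_induction_on with
    | _ d ih =>
      intro k hk hd
      have hk' := hall k hk
      unfold entryOKR at hk'
      cases h0 : Nat.beq (eDepth (certEntry C k)) 0
      · rw [h0] at hk'
        simp only [cond_false, Bool.and_eq_true] at hk'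
        obtain ⟨h1, h2, h3, h4⟩ := hk'
        have h1' : ePar (certEntry C k) < N := by rwa [Nat.blt_eq] at h1
        have h2' : eDepth (certEntry C (ePar (certEntry C k))) < d := by
          rw [← hd]; rwa [Nat.blt_eq] at h2
        have h3' := Nat.eq_of_beq_eq_true h3
        have := ih _ h2' _ h1' rfl
        rw [h3'] at this
        exact htrans _ _ _ this (hstep _ _ _ h4)
      · rw [h0] at hk'
        simp only [cond_true] at hk'
        rw [Nat.eq_of_beq_eq_true hk']
        exact hrefl _
  intro k hk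
  exact key _ k hk rfl

/-- Every element of the first list occurs in the second. -/
def subL : List ℕ → List ℕ → Bool
  | [], _ => true
  | a :: l, l' => and (elemN l' a) (subL l l')

theorem subL_iff {l l' : List ℕ} : subL l l' = true ↔ ∀ a ∈ l, a ∈ l' := by
  induction l with
  | nil => simp [subL]
  | cons a l ih => rw [subL, Bool.and_eq_true, ih, elemN_iff, List.forall_mem_cons]

/-- The two lists have the same elements. -/
def sameQ (l l' : List ℕ) : Bool := and (subL l l') (subL l' l)

theorem unmaskQ_eq_of_sameQ {l l' : List ℕ} (h : sameQ l l' = true) : unmaskQ l = unmaskQ l' := by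
  unfold sameQ at h
  rw [Bool.and_eq_true, subL_iff, subL_iff] at h
  unfold unmaskQ
  congr 1
  ext a
  rw [List.mem_toFinset, List.mem_toFinset]
  exact ⟨h.1 a, h.2 a⟩

theorem smul_unmaskQ {f fi : List ℕ} (hv : ValidPerm f fi) (l : List ℕ) :
    tperm f fi • unmaskQ l = unmaskQ (l.map (permMask fi)) := by
  ext t
  rw [Finset.mem_smul_finset, mem_unmaskQ]
  constructor
  · rintro ⟨s, hs, rfl⟩
    obtain ⟨a, ha, rfl⟩ := mem_unmaskQ.mp hs
    exact ⟨permMask fi a, List.mem_map_of_mem ha, unmask_permMask hv a⟩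
  · rintro ⟨b, hb, rfl⟩
    obtain ⟨a, ha, rfl⟩ := List.mem_map.mp hb
    exact ⟨unmask a, mem_unmaskQ.mpr ⟨a, ha, rfl⟩, (unmask_permMask hv a).symm⟩

/-- The `gi`-th generator maps the family `qobj a` onto the family `qobj b`. -/
def qstep (gens : List (List ℕ × List ℕ)) (qobj : ℕ → List ℕ) (gi a b : ℕ) : Bool :=
  sameQ ((qobj a).map (genAct gens gi)) (qobj b)

/-- Soundness of the orbit checker on families of sets. -/
theorem qorbit_cert (H : Subgroup (Equiv.Perm GolayPt)) (gens : List (List ℕ × List ℕ))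
    (hgens : ∀ g ∈ gens, ValidPerm g.1 g.2 ∧ tperm g.1 g.2 ∈ H)
    (qobj : ℕ → List ℕ) (C N : ℕ) (h : allBelow (entryOKR (qstep gens qobj) C N) N = true) :
    ∀ k < N, ∃ g ∈ H, g • unmaskQ (qobj (rootOf C k)) = unmaskQ (qobj k) := by
  refine orbCheckR_sound (R := fun a b => ∃ g ∈ H, g • unmaskQ (qobj a) = unmaskQ (qobj b))
    ?_ ?_ ?_ h
  · intro a
    exact ⟨1, H.one_mem, one_smul _ _⟩
  · rintro a b c ⟨g, hg, e1⟩ ⟨g', hg', e2⟩
    exact ⟨g' * g, H.mul_mem hg' hg, by rw [mul_smul, e1, e2]⟩
  · intro gi a b hs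
    unfold qstep at hs
    have e := unmaskQ_eq_of_sameQ hs
    cases hn : nthInv gens gi with
    | none =>
      have e1 : (qobj a).map (genAct gens gi) = qobj a := by
        have : genAct gens gi = id := by
          funext m
          unfold genAct
          rw [hn]
          rfl
        rw [this, List.map_id]
      rw [e1] at e
      exact ⟨1, H.one_mem, by rw [one_smul, e]⟩
    | some fi =>
      obtain ⟨f, hf⟩ := nthInv_mem hn
      obtain ⟨hv, hm⟩ := hgens _ hf
      have e1 : (qobj a).map (genAct gens gi) = (qobj a).map (permMask fi) := by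
        have : genAct gens gi = permMask fi := by
          funext m
          unfold genAct
          rw [hn]
        rw [this]
      rw [e1] at e
      exact ⟨tperm f fi, hm, by rw [smul_unmaskQ hv, e]⟩

/-- The orbit of a subgroup `K` of `↥M24`, carried by conjugation with `h` onto `T`, is the
`h⁻¹`-image of the `T`-orbit of the transported object. -/
theorem orbit_conj {α : Type*} [MulAction (Equiv.Perm GolayPt) α] (K : Subgroup ↥M24)
    (T : Subgroup (Equiv.Perm GolayPt)) (hT : T ≤ M24) (h : Equiv.Perm GolayPt) (hh : h ∈ M24)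
    (hK : ∀ g : ↥M24, g ∈ K ↔ h * (g : Equiv.Perm GolayPt) * h⁻¹ ∈ T) (X : α) :
    MulAction.orbit ↥K X = (fun Y => h⁻¹ • Y) '' {Y | ∃ g ∈ T, g • (h • X) = Y} := by
  ext Y
  constructor
  · rintro ⟨k, rfl⟩
    refine ⟨h • ((k.1 : Equiv.Perm GolayPt) • X),
      ⟨h * (k.1 : Equiv.Perm GolayPt) * h⁻¹, (hK k.1).mp k.2, ?_⟩, ?_⟩
    · rw [mul_smul, mul_smul, inv_smul_smul]
    · show h⁻¹ • h • ((k.1 : Equiv.Perm GolayPt) • X) = _
      rw [inv_smul_smul]
      rfl
  · rintro ⟨Y', ⟨g, hg, rfl⟩, rfl⟩
    have hm : h⁻¹ * g * h ∈ M24 := M24.mul_mem (M24.mul_mem (M24.inv_mem hh) (hT hg)) hh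
    have hk : (⟨h⁻¹ * g * h, hm⟩ : ↥M24) ∈ K := by
      rw [hK]
      have e : h * (h⁻¹ * g * h) * h⁻¹ = g := by group
      show h * (h⁻¹ * g * h) * h⁻¹ ∈ T
      rw [e]
      exact hg
    refine ⟨⟨⟨h⁻¹ * g * h, hm⟩, hk⟩, ?_⟩
    show (h⁻¹ * g * h) • X = h⁻¹ • g • h • X
    rw [mul_smul, mul_smul]

end Cfsg.Agent.Lib.helper34
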