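/-
helper34 shared library: a concrete model of a field with four elements `0, 1, ω, ω + 1`
(codes `0, 1, 2, 3`), packing of length-6 words into 12-bit numbers, and the hexacode as an
explicit set of 64 packed words.
-/
import Mathlib
import Cfsg.Prelude.Def_SporadicCombinatorics
import Cfsg.Agent.Lib.helper34.GolayCode

set_option autoImplicit false

namespace Cfsg.Agent.Lib.helper34

open Cfsg

/-! ### Small search primitives -/

/-- Some index below `n` satisfies `P`. -/
def anyBelow (P : ℕ → Bool) : ℕ → Bool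
  | 0 => false
  | k+1 => or (P k) (anyBelow P k)

theorem anyBelow_spec {P : ℕ → Bool} {n : ℕ} (h : anyBelow P n = true) : ∃ k < n, P k = true := by
  induction n with
  | zero => exact absurd h Bool.false_ne_true
  | succ n ih =>
    rw [anyBelow, Bool.or_eq_true] at h
    rcases h with h | h
    · exact ⟨n, Nat.lt_succ_self n, h⟩
    · obtain ⟨k, hk, hP⟩ := ih h
      exact ⟨k, Nat.lt_succ_of_lt hk, hP⟩

/-! ### The field with four elements -/

section GF4

variable {F : Type*} [Field F]

/-- The element with code `c`: `0, 1, ω, ω + 1`. -/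
def g4 (ω : F) (c : ℕ) : F :=
  if c = 0 then 0 else if c = 1 then 1 else if c = 2 then ω else ω + 1

/-- Multiplication on codes. -/
def mul4 (a b : ℕ) : ℕ :=
  Nat.land (Nat.shiftRight (nat_lit 0x9c78e400) (Nat.mul 2 (Nat.add (Nat.mul 4 a) b))) 3

theorem mul4_lt (a b : ℕ) : mul4 a b < 4 := by
  have : mul4 a b ≤ 3 := Nat.and_le_right
  omega

variable {ω : F}

theorem g4_add (h2 : (2 : F) = 0) {a b : ℕ} (ha : a < 4) (hb : b < 4) :
    g4 ω (Nat.xor a b) = g4 ω a + g4 ω b := by
  interval_cases a <;> interval_cases b <;> simp [g4] <;>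
    first
    | ring1
    | linear_combination (-1 : F) * h2
    | linear_combination (-ω) * h2
    | linear_combination (-(ω + 1)) * h2
    | linear_combination h2
    | linear_combination ω * h2
    | linear_combination (ω + 1) * h2

theorem g4_mul (h2 : (2 : F) = 0) (hω : ω ^ 2 + ω + 1 = 0) {a b : ℕ} (ha : a < 4) (hb : b < 4) :
    g4 ω (mul4 a b) = g4 ω a * g4 ω b := by
  interval_cases a <;> interval_cases b <;> simp [g4, mul4] <;>
    first
    | ring1
    | linear_combination (-1 : F) * hω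
    | linear_combination (-1 : F) * hω + h2
    | linear_combination (-1 : F) * hω + (ω + 1) * h2
    | linear_combination hω
    | linear_combination hω - h2
    | linear_combination hω - (ω + 1) * h2

theorem two_eq_zero_of_card [Fintype F] (hF : Fintype.card F = 4) : (2 : F) = 0 := by
  have h4 : ((Fintype.card F : ℕ) : F) = 0 := FiniteField.cast_card_eq_zero F
  rw [hF] at h4
  have h22 : (2 : F) * 2 = 0 := by
    have e : (2 : F) * 2 = ((4 : ℕ) : F) := by norm_num
    rw [e, h4]
  exact mul_self_eq_zero.mp h22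

theorem omega_ne_zero (hω : ω ^ 2 + ω + 1 = 0) : ω ≠ 0 := by
  intro h
  rw [h] at hω
  simp at hω

theorem omega_ne_one (h2 : (2 : F) = 0) (hω : ω ^ 2 + ω + 1 = 0) : ω ≠ 1 := by
  intro h
  rw [h] at hω
  have : (1 : F) = 0 := by linear_combination hω - h2
  exact one_ne_zero this

theorem g4_inj (h2 : (2 : F) = 0) (hω : ω ^ 2 + ω + 1 = 0) {a b : ℕ} (ha : a < 4) (hb : b < 4)
    (h : g4 ω a = g4 ω b) : a = b := by
  have n0 := omega_ne_zero hω
  have n1 := omega_ne_one h2 hω
  have n2 : ω + 1 ≠ 0 := fun e => n1 (by linear_combination e - h2)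
  have n3 : ω + 1 ≠ 1 := fun e => n0 (by linear_combination e)
  have n4 : ω + 1 ≠ ω := fun e => one_ne_zero (by linear_combination e)
  interval_cases a <;> interval_cases b <;> simp [g4] at h <;>
    first
    | rfl
    | exact absurd h n0
    | exact absurd h.symm n0
    | exact absurd h n1
    | exact absurd h.symm n1
    | exact absurd h n2
    | exact absurd h.symm n2
    | exact absurd h n3
    | exact absurd h.symm n3
    | exact absurd h n4
    | exact absurd h.symm n4
    | exact absurd h one_ne_zero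
    | exact absurd h.symm one_ne_zero

theorem g4_surj [Fintype F] (hF : Fintype.card F = 4) (hω : ω ^ 2 + ω + 1 = 0) (x : F) :
    ∃ c, c < 4 ∧ g4 ω c = x := by
  have h2 := two_eq_zero_of_card hF
  have hinj : Function.Injective (fun c : Fin 4 => g4 ω c.1) := by
    intro a b hab
    exact Fin.ext (g4_inj h2 hω a.2 b.2 hab)
  have hbij : Function.Bijective (fun c : Fin 4 => g4 ω c.1) := by
    rw [Fintype.bijective_iff_injective_and_card]
    exact ⟨hinj, by rw [Fintype.card_fin, hF]⟩
  obtain ⟨c, hc⟩ := hbij.2 x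
  exact ⟨c.1, c.2, hc⟩

variable [DecidableEq F]

/-- The code of an element. -/
def c4 (ω : F) (x : F) : ℕ := if x = 0 then 0 else if x = 1 then 1 else if x = ω then 2 else 3

theorem c4_lt (x : F) : c4 ω x < 4 := by
  unfold c4
  split_ifs <;> norm_num

theorem c4_g4 (h2 : (2 : F) = 0) (hω : ω ^ 2 + ω + 1 = 0) {c : ℕ} (hc : c < 4) :
    c4 ω (g4 ω c) = c := by
  have n0 := omega_ne_zero hω
  have n1 := omega_ne_one h2 hω
  have n2 : ω + 1 ≠ 0 := fun e => n1 (by linear_combination e - h2)
  have n3 : ω + 1 ≠ 1 := fun e => n0 (by linear_combination e)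
  have n4 : ω + 1 ≠ ω := fun e => one_ne_zero (by linear_combination e)
  interval_cases c <;> simp [g4, c4, n0, n1, n2, n3, n4]

theorem g4_c4 [Fintype F] (hF : Fintype.card F = 4) (hω : ω ^ 2 + ω + 1 = 0) (x : F) :
    g4 ω (c4 ω x) = x := by
  obtain ⟨c, hc, rfl⟩ := g4_surj hF hω x
  rw [c4_g4 (two_eq_zero_of_card hF) hω hc]

theorem c4_eq_zero_iff (x : F) : c4 ω x = 0 ↔ x = 0 := by
  unfold c4
  split_ifs with h0 h1 h2 <;> simp [h0]

/-! ### Packed words -/

/-- Digit `i` of a word packed with two bits per coordinate. -/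
def d4 (w i : ℕ) : ℕ := Nat.mod (Nat.div w (Nat.pow 4 i)) 4

theorem d4_eq (w i : ℕ) : d4 w i = w / 4 ^ i % 4 := rfl

theorem d4_lt (w i : ℕ) : d4 w i < 4 := Nat.mod_lt _ (by norm_num)

/-- A word of length 6 packed into a number below 4096. -/
def pack (ω : F) (x : Fin 6 → F) : ℕ :=
  c4 ω (x 0) + 4 * c4 ω (x 1) + 16 * c4 ω (x 2) + 64 * c4 ω (x 3) + 256 * c4 ω (x 4) +
    1024 * c4 ω (x 5)

/-- The word with a given packing. -/
def unpack (ω : F) (w : ℕ) : Fin 6 → F := fun i => g4 ω (d4 w i.1)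

theorem pack_lt (x : Fin 6 → F) : pack ω x < 4096 := by
  have h0 := c4_lt (ω := ω) (x 0)
  have h1 := c4_lt (ω := ω) (x 1)
  have h2 := c4_lt (ω := ω) (x 2)
  have h3 := c4_lt (ω := ω) (x 3)
  have h4 := c4_lt (ω := ω) (x 4)
  have h5 := c4_lt (ω := ω) (x 5)
  unfold pack
  omega

theorem d4_pack (x : Fin 6 → F) (i : Fin 6) : d4 (pack ω x) i.1 = c4 ω (x i) := by
  have h0 := c4_lt (ω := ω) (x 0)
  have h1 := c4_lt (ω := ω) (x 1)
  have h2 := c4_lt (ω := ω) (x 2)
  have h3 := c4_lt (ω := ω) (x 3)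
  have h4 := c4_lt (ω := ω) (x 4)
  have h5 := c4_lt (ω := ω) (x 5)
  rw [d4_eq]
  unfold pack
  fin_cases i <;> simp <;> omega

theorem unpack_pack [Fintype F] (hF : Fintype.card F = 4) (hω : ω ^ 2 + ω + 1 = 0)
    (x : Fin 6 → F) : unpack ω (pack ω x) = x := by
  funext i
  show g4 ω (d4 (pack ω x) i.1) = x i
  rw [d4_pack, g4_c4 hF hω]

theorem pack_unpack (h2 : (2 : F) = 0) (hω : ω ^ 2 + ω + 1 = 0) {w : ℕ} (hw : w < 4096) :
    pack ω (unpack ω w) = w := by
  have e : ∀ i : Fin 6, c4 ω (unpack ω w i) = d4 w i.1 := fun i => c4_g4 h2 hω (d4_lt _ _)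
  unfold pack
  rw [e 0, e 1, e 2, e 3, e 4, e 5]
  simp only [d4_eq]
  norm_num
  omega

/-! ### The hexacode -/

/-- Bit mask of the 64 packed hexacode words. -/
def hexMask : ℕ := nat_lit 0x1000000000000000000200000000000000000040000000000000000008000000040000000000008000000000000000000000000000010000000000002000000000000008000000000000000000004200000000000000000000100000000000000000000000200000000001000000000000008000000000040000000000000000008000000000040000000000000000000000000000002000000000010000000200000000000000000000100000000000000008000000000000000000004000000000000001000000000000200000000000040000000000008000000000000000000000004000000000000000000800100000000000000000020000000000000000000200000000000000000000100008000000000000000000004000000000000000000000008000000000040000000000200000000001000000000000000040000000000000000008000000000000000000000010000000000000000002000000010000000000002000000000000000000000000400000000000080000000000000000000040000000000008000000001000000000000200000000000000000000000100000000000000000020000004000000000000000000800000000000000002000000000010000000000000000000000000080000000000400000008000000000000000000004000000000000000000002000000000000000000001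

/-- The packed word is a hexacode word. -/
def isHex (w : ℕ) : Bool := Nat.testBit hexMask w

/-- Coordinate `i` of the combination of the three basis words with coefficient codes
`a`, `b`, `c`. -/
def lin4 (a b c i : ℕ) : ℕ :=
  Nat.xor (Nat.xor (mul4 a (d4 3006 i)) (mul4 b (d4 3051 i))) (mul4 c (d4 3771 i))

theorem lin4_lt (a b c i : ℕ) : lin4 a b c i < 4 := by
  unfold lin4
  have h1 := mul4_lt a (d4 3006 i)
  have h2 := mul4_lt b (d4 3051 i)
  have h3 := mul4_lt c (d4 3771 i)
  exact Nat.xor_lt_two_pow (n := 2) (Nat.xor_lt_two_pow (n := 2) h1 h2) h3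

/-- Packed combination of the three basis words. -/
def linpack (a b c : ℕ) : ℕ :=
  lin4 a b c 0 + 4 * lin4 a b c 1 + 16 * lin4 a b c 2 + 64 * lin4 a b c 3 + 256 * lin4 a b c 4 +
    1024 * lin4 a b c 5

theorem d4_linpack (a b c : ℕ) (i : Fin 6) : d4 (linpack a b c) i.1 = lin4 a b c i.1 := by
  have h0 := lin4_lt a b c 0
  have h1 := lin4_lt a b c 1
  have h2 := lin4_lt a b c 2
  have h3 := lin4_lt a b c 3
  have h4 := lin4_lt a b c 4
  have h5 := lin4_lt a b c 5
  rw [d4_eq]
  unfold linpack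
  fin_cases i <;> simp <;> omega

theorem isHex_linpack : allBelow (fun a => allBelow (fun b => allBelow (fun c =>
    isHex (linpack a b c)) 4) 4) 4 = true := by decide +kernel

theorem isHex_cases : allBelow (fun w => bif isHex w then anyBelow (fun a => anyBelow (fun b =>
    anyBelow (fun c => Nat.beq (linpack a b c) w) 4) 4) 4 else true) 4096 = true := by
  decide +kernel

omit [DecidableEq F] in
/-- The three basis words of the hexacode in terms of codes. -/
theorem basis_apply (h2 : (2 : F) = 0) (hω : ω ^ 2 + ω + 1 = 0) (i : Fin 6) :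
    (![ω, ω ^ 2, ω ^ 2, ω, ω ^ 2, ω] : Fin 6 → F) i = g4 ω (d4 3006 i.1) ∧
    (![ω ^ 2, ω, ω, ω ^ 2, ω ^ 2, ω] : Fin 6 → F) i = g4 ω (d4 3051 i.1) ∧
    (![ω ^ 2, ω, ω ^ 2, ω, ω, ω ^ 2] : Fin 6 → F) i = g4 ω (d4 3771 i.1) := by
  have hsq : ω ^ 2 = ω + 1 := by linear_combination hω - (ω + 1) * h2
  fin_cases i <;> simp [g4, d4_eq, hsq]

theorem comb_apply (h2 : (2 : F) = 0) (hω : ω ^ 2 + ω + 1 = 0) {a b c : ℕ} (ha : a < 4)
    (hb : b < 4) (hc : c < 4) (i : Fin 6) :
    (g4 ω a • (![ω, ω ^ 2, ω ^ 2, ω, ω ^ 2, ω] : Fin 6 → F) +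
      g4 ω b • (![ω ^ 2, ω, ω, ω ^ 2, ω ^ 2, ω] : Fin 6 → F) +
      g4 ω c • (![ω ^ 2, ω, ω ^ 2, ω, ω, ω ^ 2] : Fin 6 → F)) i = g4 ω (lin4 a b c i.1) := by
  obtain ⟨e1, e2, e3⟩ := basis_apply h2 hω i
  simp only [Pi.add_apply, Pi.smul_apply, smul_eq_mul]
  rw [e1, e2, e3]
  unfold lin4
  have hx : Nat.xor (mul4 a (d4 3006 i.1)) (mul4 b (d4 3051 i.1)) < 4 :=
    Nat.xor_lt_two_pow (n := 2) (mul4_lt _ _) (mul4_lt _ _)
  rw [g4_add h2 hx (mul4_lt _ _), g4_add h2 (mul4_lt _ _) (mul4_lt _ _),
    g4_mul h2 hω ha (d4_lt _ _), g4_mul h2 hω hb (d4_lt _ _), g4_mul h2 hω hc (d4_lt _ _)]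

theorem mem_hexacode_iff [Fintype F] (hF : Fintype.card F = 4) (hω : ω ^ 2 + ω + 1 = 0)
    (x : Fin 6 → F) : x ∈ hexacode F ω ↔ isHex (pack ω x) = true := by
  have h2 := two_eq_zero_of_card hF
  unfold hexacode
  rw [Submodule.mem_span_triple]
  constructor
  · rintro ⟨a, b, c, rfl⟩
    obtain ⟨α, hα, rfl⟩ := g4_surj hF hω a
    obtain ⟨β, hβ, rfl⟩ := g4_surj hF hω b
    obtain ⟨γ, hγ, rfl⟩ := g4_surj hF hω c
    have e : pack ω (g4 ω α • (![ω, ω ^ 2, ω ^ 2, ω, ω ^ 2, ω] : Fin 6 → F) +
        g4 ω β • (![ω ^ 2, ω, ω, ω ^ 2, ω ^ 2, ω] : Fin 6 → F) +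
        g4 ω γ • (![ω ^ 2, ω, ω ^ 2, ω, ω, ω ^ 2] : Fin 6 → F)) = linpack α β γ := by
      unfold pack linpack
      rw [comb_apply h2 hω hα hβ hγ 0, comb_apply h2 hω hα hβ hγ 1, comb_apply h2 hω hα hβ hγ 2,
        comb_apply h2 hω hα hβ hγ 3, comb_apply h2 hω hα hβ hγ 4, comb_apply h2 hω hα hβ hγ 5]
      simp only [c4_g4 h2 hω (lin4_lt _ _ _ _)]
      rfl
    rw [e]
    exact allBelow_spec (allBelow_spec (allBelow_spec isHex_linpack α hα) β hβ) γ hγ
  · intro h
    have h1 := allBelow_spec isHex_cases _ (pack_lt (ω := ω) x)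
    rw [h, cond_true] at h1
    obtain ⟨a, ha, h1⟩ := anyBelow_spec h1
    obtain ⟨b, hb, h1⟩ := anyBelow_spec h1
    obtain ⟨c, hc, h1⟩ := anyBelow_spec h1
    have e := Nat.eq_of_beq_eq_true h1
    refine ⟨g4 ω a, g4 ω b, g4 ω c, ?_⟩
    funext i
    rw [comb_apply h2 hω ha hb hc i, ← d4_linpack, e, d4_pack, g4_c4 hF hω]

/-! ### Weights and counting -/

/-- Number of nonzero coordinates of a packed word. -/
def wt4 (w : ℕ) : ℕ :=
  Nat.add (Nat.add (Nat.add (Nat.add (Nat.add
    (bif Nat.beq (d4 w 0) 0 then 0 else 1) (bif Nat.beq (d4 w 1) 0 then 0 else 1))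
    (bif Nat.beq (d4 w 2) 0 then 0 else 1)) (bif Nat.beq (d4 w 3) 0 then 0 else 1))
    (bif Nat.beq (d4 w 4) 0 then 0 else 1)) (bif Nat.beq (d4 w 5) 0 then 0 else 1)

theorem card_support (x : Fin 6 → F) :
    (Finset.univ.filter fun i => x i ≠ 0).card = wt4 (pack ω x) := by
  have key : ∀ i : Fin 6, (if x i ≠ 0 then 1 else 0) =
      (bif Nat.beq (d4 (pack ω x) i.1) 0 then 0 else 1) := by
    intro i
    rw [d4_pack]
    by_cases h : x i = 0
    · have : c4 ω (x i) = 0 := (c4_eq_zero_iff (ω := ω) (x i)).mpr h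
      rw [this, if_neg (not_not.mpr h)]
      rfl
    · have : c4 ω (x i) ≠ 0 := fun e => h ((c4_eq_zero_iff (ω := ω) (x i)).mp e)
      have hb : Nat.beq (c4 ω (x i)) 0 = false := by
        cases hc : Nat.beq (c4 ω (x i)) 0
        · rfl
        · exact absurd (Nat.eq_of_beq_eq_true hc) this
      rw [hb, if_pos h]
      rfl
  rw [Finset.card_filter, Fin.sum_univ_six, key 0, key 1, key 2, key 3, key 4, key 5]
  rfl

theorem pack_eq_zero_iff [Fintype F] (hF : Fintype.card F = 4) (hω : ω ^ 2 + ω + 1 = 0)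
    (x : Fin 6 → F) : pack ω x = 0 ↔ x = 0 := by
  constructor
  · intro h
    have e := unpack_pack hF hω x
    rw [h] at e
    rw [← e]
    funext i
    simp [unpack, d4_eq, g4]
  · rintro rfl
    simp [pack, c4]

/-- Counting words through their packing. -/
theorem ncard_packed [Fintype F] (hF : Fintype.card F = 4) (hω : ω ^ 2 + ω + 1 = 0)
    (S : Set (Fin 6 → F)) (Q : ℕ → Bool) (h : ∀ x, x ∈ S ↔ Q (pack ω x) = true) :
    S.ncard = countBelow Q 4096 := by
  have h2 := two_eq_zero_of_card hF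
  rw [countBelow_eq]
  have hS : S = unpack ω ''
      (((Finset.range 4096).filter (fun u => Q u = true) : Finset ℕ) : Set ℕ) := by
    ext x
    rw [h]
    constructor
    · intro hx
      refine ⟨pack ω x, ?_, unpack_pack hF hω x⟩
      rw [Finset.mem_coe, Finset.mem_filter, Finset.mem_range]
      exact ⟨pack_lt x, hx⟩
    · rintro ⟨w, hw, rfl⟩
      rw [Finset.mem_coe, Finset.mem_filter, Finset.mem_range] at hw
      rw [pack_unpack h2 hω hw.1]
      exact hw.2
  rw [hS, Set.InjOn.ncard_image, Set.ncard_coe_finset]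
  intro a ha b hb hab
  rw [Finset.mem_coe, Finset.mem_filter, Finset.mem_range] at ha hb
  have := congrArg (pack ω) hab
  rwa [pack_unpack h2 hω ha.1, pack_unpack h2 hω hb.1] at this

end GF4

end Cfsg.Agent.Lib.helper34
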