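/-
helper34 shared library: monomial maps preserving a linear code: closure under composition and
inverse, the subgroup of permutation parts, and the count of the monomial group through its
permutation parts when the diagonal automorphisms are scalar.
-/
import Mathlib
import Cfsg.Prelude.Def_SporadicCombinatorics

set_option autoImplicit false

namespace Cfsg.Agent.Lib.helper34

open Cfsg

section Monomial

variable {α F : Type*} [Field F]

/-- The monomial map with permutation `σ` and scalars `c` maps the code `C` into itself. -/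
def MValid (C : Submodule F (α → F)) (σ : Equiv.Perm α) (c : α → Fˣ) : Prop :=
  ∀ x ∈ C, monomialMap σ c x ∈ C

theorem monomialMap_apply (σ : Equiv.Perm α) (c : α → Fˣ) (x : α → F) (i : α) :
    monomialMap σ c x i = (c i : F) * x (σ.symm i) := rfl

/-- A monomial map as a linear map. -/
def monomialLin (σ : Equiv.Perm α) (c : α → Fˣ) : (α → F) →ₗ[F] (α → F) where
  toFun := monomialMap σ c
  map_add' x y := by
    funext i
    simp only [monomialMap_apply, Pi.add_apply, mul_add]
  map_smul' a x := by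
    funext i
    simp only [monomialMap_apply, Pi.smul_apply, smul_eq_mul, RingHom.id_apply]
    ring

theorem mvalid_of_span (S : Set (α → F)) (σ : Equiv.Perm α) (c : α → Fˣ)
    (h : ∀ v ∈ S, monomialMap σ c v ∈ Submodule.span F S) : MValid (Submodule.span F S) σ c := by
  have h1 : Submodule.span F S ≤ (Submodule.span F S).comap (monomialLin σ c) :=
    Submodule.span_le.mpr (fun v hv => h v hv)
  exact fun x hx => h1 hx

theorem mvalid_mul {C : Submodule F (α → F)} {σ τ : Equiv.Perm α} {c d : α → Fˣ}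
    (h1 : MValid C σ c) (h2 : MValid C τ d) :
    MValid C (σ * τ) (fun i => c i * d (σ.symm i)) := by
  intro x hx
  have e : monomialMap (σ * τ) (fun i => c i * d (σ.symm i)) x =
      monomialMap σ c (monomialMap τ d x) := by
    funext i
    simp only [monomialMap_apply, Units.val_mul, mul_assoc]
    rfl
  rw [e]
  exact h1 _ (h2 x hx)

theorem monomialMap_injective (σ : Equiv.Perm α) (c : α → Fˣ) :
    Function.Injective (monomialMap σ c : (α → F) → (α → F)) := by
  intro x y h
  funext j
  have := congrFun h (σ j)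
  simp only [monomialMap_apply, Equiv.symm_apply_apply] at this
  exact mul_left_cancel₀ (Units.ne_zero _) this

theorem mvalid_surj [Finite F] [Finite α] {C : Submodule F (α → F)} {σ : Equiv.Perm α}
    {c : α → Fˣ} (h : MValid C σ c) : ∀ y ∈ C, ∃ x ∈ C, monomialMap σ c x = y := by
  let φ : ↥C → ↥C := fun x => ⟨monomialMap σ c x.1, h x.1 x.2⟩
  have hinj : Function.Injective φ := fun a b hab =>
    Subtype.ext (monomialMap_injective σ c (congrArg Subtype.val hab))
  have hsurj := Finite.surjective_of_injective hinj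
  intro y hy
  obtain ⟨x, hx⟩ := hsurj ⟨y, hy⟩
  exact ⟨x.1, x.2, congrArg Subtype.val hx⟩

theorem mvalid_inv [Finite F] [Finite α] {C : Submodule F (α → F)} {σ : Equiv.Perm α}
    {c : α → Fˣ} (h : MValid C σ c) : MValid C σ⁻¹ (fun i => (c (σ i))⁻¹) := by
  intro y hy
  obtain ⟨x, hx, rfl⟩ := mvalid_surj h y hy
  have e : monomialMap σ⁻¹ (fun i => (c (σ i))⁻¹) (monomialMap σ c x) = x := by
    funext i
    show (((c (σ i))⁻¹ : Fˣ) : F) * ((c (σ i) : F) * x (σ.symm (σ i))) = x i
    rw [Equiv.symm_apply_apply, ← mul_assoc, ← Units.val_mul, inv_mul_cancel, Units.val_one,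
      one_mul]
  rw [e]
  exact hx

theorem mvalid_one (C : Submodule F (α → F)) :
    MValid C (1 : Equiv.Perm α) (fun _ => (1 : Fˣ)) := by
  intro x hx
  have e : monomialMap (1 : Equiv.Perm α) (fun _ => (1 : Fˣ)) x = x := by
    funext i
    show ((1 : Fˣ) : F) * x i = x i
    rw [Units.val_one, one_mul]
  rw [e]
  exact hx

theorem mvalid_smul {C : Submodule F (α → F)} {σ : Equiv.Perm α} {c : α → Fˣ}
    (h : MValid C σ c) (u : Fˣ) : MValid C σ (fun i => u * c i) := by
  intro x hx
  have e : monomialMap σ (fun i => u * c i) x = (u : F) • monomialMap σ c x := by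
    funext i
    simp only [monomialMap_apply, Pi.smul_apply, smul_eq_mul, Units.val_mul, mul_assoc]
  rw [e]
  exact C.smul_mem _ (h x hx)

theorem mvalid_ratio [Finite F] [Finite α] {C : Submodule F (α → F)} {σ : Equiv.Perm α}
    {c c0 : α → Fˣ} (h : MValid C σ c) (h0 : MValid C σ c0) :
    MValid C (1 : Equiv.Perm α) (fun i => c i * (c0 i)⁻¹) := by
  intro y hy
  obtain ⟨x, hx, rfl⟩ := mvalid_surj h0 y hy
  have e : monomialMap (1 : Equiv.Perm α) (fun i => c i * (c0 i)⁻¹) (monomialMap σ c0 x) =
      monomialMap σ c x := by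
    funext i
    show ((c i * (c0 i)⁻¹ : Fˣ) : F) * ((c0 i : F) * x (σ.symm i)) = (c i : F) * x (σ.symm i)
    rw [← mul_assoc, ← Units.val_mul, inv_mul_cancel_right]
  rw [e]
  exact h x hx

/-- The permutation parts of the monomial maps preserving a code. -/
def permParts [Finite F] [Finite α] (C : Submodule F (α → F)) : Subgroup (Equiv.Perm α) where
  carrier := {σ | ∃ c, MValid C σ c}
  mul_mem' := fun ⟨_, hc⟩ ⟨_, hd⟩ => ⟨_, mvalid_mul hc hd⟩
  one_mem' := ⟨_, mvalid_one C⟩
  inv_mem' := fun ⟨_, hc⟩ => ⟨_, mvalid_inv hc⟩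

theorem mem_permParts [Finite F] [Finite α] {C : Submodule F (α → F)} {σ : Equiv.Perm α} :
    σ ∈ permParts C ↔ ∃ c, MValid C σ c := Iff.rfl

/-- If the diagonal automorphisms are scalar, the monomial group has as many elements as
permutation parts times nonzero scalars. -/
theorem card_monomial [Finite F] [Finite α] (C : Submodule F (α → F)) (i0 : α)
    (hdiag : ∀ c : α → Fˣ, MValid C (1 : Equiv.Perm α) c → ∀ i j, c i = c j) :
    Nat.card {f : Equiv.Perm α × (α → Fˣ) // MValid C f.1 f.2} =
      Nat.card (permParts C) * Nat.card Fˣ := by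
  classical
  let c0 : ↥(permParts C) → (α → Fˣ) := fun σ => Classical.choose σ.2
  have hc0 : ∀ σ : ↥(permParts C), MValid C σ.1 (c0 σ) := fun σ => Classical.choose_spec σ.2
  let Ψ : ↥(permParts C) × Fˣ → {f : Equiv.Perm α × (α → Fˣ) // MValid C f.1 f.2} :=
    fun p => ⟨(p.1.1, fun i => p.2 * c0 p.1 i), mvalid_smul (hc0 p.1) p.2⟩
  have hinj : Function.Injective Ψ := by
    rintro ⟨σ, u⟩ ⟨τ, v⟩ h
    have h1 : σ.1 = τ.1 := congrArg (fun f => f.1.1) h
    have hστ : σ = τ := Subtype.ext h1
    subst hστ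
    have h2 : (fun i => u * c0 σ i) = (fun i => v * c0 σ i) := congrArg (fun f => f.1.2) h
    have h3 : u * c0 σ i0 = v * c0 σ i0 := congrFun h2 i0
    rw [mul_right_cancel h3]
  have hsurj : Function.Surjective Ψ := by
    rintro ⟨⟨σ, c⟩, hv⟩
    have hσ : σ ∈ permParts C := ⟨c, hv⟩
    have hr := mvalid_ratio hv (hc0 ⟨σ, hσ⟩)
    have hconst := hdiag _ hr
    refine ⟨(⟨σ, hσ⟩, c i0 * (c0 ⟨σ, hσ⟩ i0)⁻¹), ?_⟩
    apply Subtype.ext
    show (σ, fun i => c i0 * (c0 ⟨σ, hσ⟩ i0)⁻¹ * c0 ⟨σ, hσ⟩ i) = (σ, c)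
    congr 1
    funext i
    rw [← hconst i i0, inv_mul_cancel_right]
  rw [← Nat.card_eq_of_bijective Ψ ⟨hinj, hsurj⟩, Nat.card_prod]

end Monomial

end Cfsg.Agent.Lib.helper34
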