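/-
helper34 shared library: monomial maps of the hexacode on packed words: permutations of six
points from packed tables, the packed image of a word under a monomial map, and the check that
a monomial map preserves the hexacode.
-/
import Mathlib
import Cfsg.Prelude.Def_SporadicCombinatorics
import Cfsg.Agent.Lib.helper34.Hexacode
import Cfsg.Agent.Lib.helper34.Monomial

set_option autoImplicit false

namespace Cfsg.Agent.Lib.helper34

open Cfsg

theorem allBelow_intro {P : ℕ → Bool} {n : ℕ} (h : ∀ k < n, P k = true) :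
    allBelow P n = true := by
  induction n with
  | zero => rfl
  | succ n ih =>
    have h1 := h n (Nat.lt_succ_self n)
    have h2 := ih (fun k hk => h k (Nat.lt_succ_of_lt hk))
    unfold allBelow
    simp [h1, h2]

/-! ### Permutations of six points from packed tables -/

/-- Digit `i` of a table packed with three bits per entry. -/
def dg8 (t i : ℕ) : ℕ := Nat.mod (Nat.div t (Nat.pow 8 i)) 8

theorem dg8_eq (t i : ℕ) : dg8 t i = t / 8 ^ i % 8 := rfl

/-- The two tables describe mutually inverse maps of `{0, …, 5}`. -/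
def okTab (t ti : ℕ) : Bool :=
  allBelow (fun i => and (Nat.blt (dg8 t i) 6) (and (Nat.blt (dg8 ti i) 6)
    (and (Nat.beq (dg8 ti (dg8 t i)) i) (Nat.beq (dg8 t (dg8 ti i)) i)))) 6

theorem okTab_spec {t ti : ℕ} (h : okTab t ti = true) {i : ℕ} (hi : i < 6) :
    dg8 t i < 6 ∧ dg8 ti i < 6 ∧ dg8 ti (dg8 t i) = i ∧ dg8 t (dg8 ti i) = i := by
  have h1 := allBelow_spec h i hi
  simp only [Bool.and_eq_true] at h1
  obtain ⟨a, b, c, d⟩ := h1
  exact ⟨Nat.blt_eq.mp a, Nat.blt_eq.mp b, Nat.eq_of_beq_eq_true c, Nat.eq_of_beq_eq_true d⟩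

/-- The permutation with the given packed table and inverse table (the identity when the tables
are not valid). -/
def sig (t ti : ℕ) : Equiv.Perm (Fin 6) :=
  if h : okTab t ti = true then
    { toFun := fun i => ⟨dg8 t i.1, (okTab_spec h i.2).1⟩
      invFun := fun i => ⟨dg8 ti i.1, (okTab_spec h i.2).2.1⟩
      left_inv := fun i => Fin.ext (okTab_spec h i.2).2.2.1
      right_inv := fun i => Fin.ext (okTab_spec h i.2).2.2.2 }
  else 1

theorem sig_apply {t ti : ℕ} (h : okTab t ti = true) (i : Fin 6) :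
    (sig t ti i).1 = dg8 t i.1 := by
  unfold sig
  rw [dif_pos h]
  rfl

theorem sig_symm_apply {t ti : ℕ} (h : okTab t ti = true) (i : Fin 6) :
    ((sig t ti).symm i).1 = dg8 ti i.1 := by
  unfold sig
  rw [dif_pos h]
  rfl

theorem eq_of_dg8 {a b : ℕ} (ha : a < 262144) (hb : b < 262144)
    (h : ∀ i < 6, dg8 a i = dg8 b i) : a = b := by
  have h0 := h 0 (by norm_num)
  have h1 := h 1 (by norm_num)
  have h2 := h 2 (by norm_num)
  have h3 := h 3 (by norm_num)
  have h4 := h 4 (by norm_num)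
  have h5 := h 5 (by norm_num)
  simp only [dg8_eq] at h0 h1 h2 h3 h4 h5
  norm_num at h0 h1 h2 h3 h4 h5
  omega

theorem sig_injective {a ai b bi : ℕ} (ha : okTab a ai = true) (hb : okTab b bi = true)
    (ha' : a < 262144) (hb' : b < 262144) (h : sig a ai = sig b bi) : a = b := by
  apply eq_of_dg8 ha' hb'
  intro i hi
  have e1 := sig_apply ha ⟨i, hi⟩
  have e2 := sig_apply hb ⟨i, hi⟩
  rw [h] at e1
  exact e1.symm.trans e2

/-- A strictly increasing step condition gives strict monotonicity below `n`. -/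
theorem hex_lt_of_step (f : ℕ → ℕ) (n : ℕ) (h : ∀ k < n, f k < f (k + 1)) :
    ∀ a b, a < b → b ≤ n → f a < f b := by
  intro a b hab
  induction b with
  | zero => omega
  | succ b ih =>
    intro hb
    rcases Nat.lt_succ_iff_lt_or_eq.mp hab with hlt | rfl
    · exact lt_trans (ih hlt (by omega)) (h b (by omega))
    · exact h a (by omega)

/-! ### Monomial maps on packed words -/

/-- Packed image of the packed word `v` under the monomial map with inverse table `ti` and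
packed scalars `cw`. -/
def mp (ti cw v : ℕ) : ℕ :=
  mul4 (d4 cw 0) (d4 v (dg8 ti 0)) + 4 * mul4 (d4 cw 1) (d4 v (dg8 ti 1)) +
    16 * mul4 (d4 cw 2) (d4 v (dg8 ti 2)) + 64 * mul4 (d4 cw 3) (d4 v (dg8 ti 3)) +
    256 * mul4 (d4 cw 4) (d4 v (dg8 ti 4)) + 1024 * mul4 (d4 cw 5) (d4 v (dg8 ti 5))

/-- The monomial map with inverse table `ti` and packed scalars `cw` maps the three basis words
of the hexacode to hexacode words. -/
def chkV (ti cw : ℕ) : Bool :=
  and (isHex (mp ti cw 3006)) (and (isHex (mp ti cw 3051)) (isHex (mp ti cw 3771)))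

/-- All six digits of the packed word are nonzero. -/
def nzd (cw : ℕ) : Bool := allBelow (fun i => not (Nat.beq (d4 cw i) 0)) 6

section GF4

variable {F : Type*} [Field F] {ω : F} [DecidableEq F]

/-- The packed scalars of a monomial map. -/
def packc (ω : F) (c : Fin 6 → Fˣ) : ℕ := pack ω (fun i => (c i : F))

theorem packc_lt (c : Fin 6 → Fˣ) : packc ω c < 4096 := pack_lt _

theorem d4_packc (c : Fin 6 → Fˣ) (i : Fin 6) : d4 (packc ω c) i.1 = c4 ω (c i : F) :=
  d4_pack _ i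

theorem nzd_packc (c : Fin 6 → Fˣ) : nzd (packc ω c) = true := by
  apply allBelow_intro
  intro k hk
  have e := d4_packc (ω := ω) c ⟨k, hk⟩
  have hne : c4 ω (c ⟨k, hk⟩ : F) ≠ 0 := fun h =>
    Units.ne_zero (c ⟨k, hk⟩) ((c4_eq_zero_iff (ω := ω) _).mp h)
  show (!(Nat.beq (d4 (packc ω c) k) 0)) = true
  rw [e]
  cases hb : Nat.beq (c4 ω (c ⟨k, hk⟩ : F)) 0
  · rfl
  · exact absurd (Nat.eq_of_beq_eq_true hb) hne

theorem pack_monomialMap [Fintype F] (hF : Fintype.card F = 4) (hω : ω ^ 2 + ω + 1 = 0)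
    (σ : Equiv.Perm (Fin 6)) (ti : ℕ) (hσ : ∀ i : Fin 6, (σ.symm i).1 = dg8 ti i.1)
    (c : Fin 6 → Fˣ) (v : Fin 6 → F) :
    pack ω (monomialMap σ c v) = mp ti (packc ω c) (pack ω v) := by
  have h2 := two_eq_zero_of_card hF
  have key : ∀ i : Fin 6, c4 ω (monomialMap σ c v i) =
      mul4 (d4 (packc ω c) i.1) (d4 (pack ω v) (dg8 ti i.1)) := by
    intro i
    rw [monomialMap_apply, ← hσ i, d4_packc, d4_pack]
    have e : (c i : F) * v (σ.symm i) =
        g4 ω (mul4 (c4 ω (c i : F)) (c4 ω (v (σ.symm i)))) := by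
      rw [g4_mul h2 hω (c4_lt _) (c4_lt _), g4_c4 hF hω, g4_c4 hF hω]
    rw [e, c4_g4 h2 hω (mul4_lt _ _)]
  show c4 ω (monomialMap σ c v 0) + 4 * c4 ω (monomialMap σ c v 1) +
    16 * c4 ω (monomialMap σ c v 2) + 64 * c4 ω (monomialMap σ c v 3) +
    256 * c4 ω (monomialMap σ c v 4) + 1024 * c4 ω (monomialMap σ c v 5) = _
  rw [key 0, key 1, key 2, key 3, key 4, key 5]
  rfl

theorem pack_basis [Fintype F] (hF : Fintype.card F = 4) (hω : ω ^ 2 + ω + 1 = 0) :
    pack ω (![ω, ω ^ 2, ω ^ 2, ω, ω ^ 2, ω] : Fin 6 → F) = 3006 ∧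
    pack ω (![ω ^ 2, ω, ω, ω ^ 2, ω ^ 2, ω] : Fin 6 → F) = 3051 ∧
    pack ω (![ω ^ 2, ω, ω ^ 2, ω, ω, ω ^ 2] : Fin 6 → F) = 3771 := by
  have h2 := two_eq_zero_of_card hF
  have e1 : (![ω, ω ^ 2, ω ^ 2, ω, ω ^ 2, ω] : Fin 6 → F) = unpack ω 3006 :=
    funext fun i => (basis_apply h2 hω i).1
  have e2 : (![ω ^ 2, ω, ω, ω ^ 2, ω ^ 2, ω] : Fin 6 → F) = unpack ω 3051 :=
    funext fun i => (basis_apply h2 hω i).2.1
  have e3 : (![ω ^ 2, ω, ω ^ 2, ω, ω, ω ^ 2] : Fin 6 → F) = unpack ω 3771 :=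
    funext fun i => (basis_apply h2 hω i).2.2
  rw [e1, e2, e3]
  exact ⟨pack_unpack h2 hω (by norm_num), pack_unpack h2 hω (by norm_num),
    pack_unpack h2 hω (by norm_num)⟩

theorem mvalid_of_chk [Fintype F] (hF : Fintype.card F = 4) (hω : ω ^ 2 + ω + 1 = 0)
    (σ : Equiv.Perm (Fin 6)) (ti : ℕ) (hσ : ∀ i : Fin 6, (σ.symm i).1 = dg8 ti i.1)
    (c : Fin 6 → Fˣ) (h : chkV ti (packc ω c) = true) : MValid (hexacode F ω) σ c := by
  obtain ⟨p1, p2, p3⟩ := pack_basis hF hω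
  unfold chkV at h
  simp only [Bool.and_eq_true] at h
  obtain ⟨h1, h2, h3⟩ := h
  apply mvalid_of_span
  intro v hv
  show monomialMap σ c v ∈ hexacode F ω
  rw [mem_hexacode_iff hF hω, pack_monomialMap hF hω σ ti hσ]
  rcases hv with rfl | rfl | rfl
  · rw [p1]; exact h1
  · rw [p2]; exact h2
  · rw [p3]; exact h3

theorem chk_of_mvalid [Fintype F] (hF : Fintype.card F = 4) (hω : ω ^ 2 + ω + 1 = 0)
    (σ : Equiv.Perm (Fin 6)) (ti : ℕ) (hσ : ∀ i : Fin 6, (σ.symm i).1 = dg8 ti i.1)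
    (c : Fin 6 → Fˣ) (h : MValid (hexacode F ω) σ c) : chkV ti (packc ω c) = true := by
  obtain ⟨p1, p2, p3⟩ := pack_basis hF hω
  have m1 : (![ω, ω ^ 2, ω ^ 2, ω, ω ^ 2, ω] : Fin 6 → F) ∈ hexacode F ω :=
    Submodule.subset_span (by simp)
  have m2 : (![ω ^ 2, ω, ω, ω ^ 2, ω ^ 2, ω] : Fin 6 → F) ∈ hexacode F ω :=
    Submodule.subset_span (by simp)
  have m3 : (![ω ^ 2, ω, ω ^ 2, ω, ω, ω ^ 2] : Fin 6 → F) ∈ hexacode F ω :=
    Submodule.subset_span (by simp)
  have q1 := (mem_hexacode_iff hF hω _).mp (h _ m1)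
  have q2 := (mem_hexacode_iff hF hω _).mp (h _ m2)
  have q3 := (mem_hexacode_iff hF hω _).mp (h _ m3)
  rw [pack_monomialMap hF hω σ ti hσ, p1] at q1
  rw [pack_monomialMap hF hω σ ti hσ, p2] at q2
  rw [pack_monomialMap hF hω σ ti hσ, p3] at q3
  unfold chkV
  rw [q1, q2, q3]
  rfl

omit [DecidableEq F] in
theorem g4_ne_zero (h2 : (2 : F) = 0) (hω : ω ^ 2 + ω + 1 = 0) {d : ℕ} (hd : d < 4)
    (h0 : d ≠ 0) : g4 ω d ≠ 0 := by
  intro h
  have e : g4 ω d = g4 ω 0 := by rw [h]; simp [g4]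
  exact h0 (g4_inj h2 hω hd (by norm_num) e)

/-- The scalars with a given packing. -/
noncomputable def unpackc (ω : F) (cw : ℕ) : Fin 6 → Fˣ := fun i =>
  if h : g4 ω (d4 cw i.1) = 0 then 1 else Units.mk0 _ h

theorem packc_unpackc (h2 : (2 : F) = 0) (hω : ω ^ 2 + ω + 1 = 0) {cw : ℕ} (hcw : cw < 4096)
    (hnz : nzd cw = true) : packc ω (unpackc ω cw) = cw := by
  have e : (fun i => ((unpackc ω cw i : Fˣ) : F)) = unpack ω cw := by
    funext i
    have hb := allBelow_spec hnz i.1 i.2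
    have hd : d4 cw i.1 ≠ 0 := by
      intro h0
      rw [h0] at hb
      exact absurd hb (by decide)
    have hne := g4_ne_zero h2 hω (d4_lt cw i.1) hd
    unfold unpackc
    rw [dif_neg hne]
    rfl
  unfold packc
  rw [e]
  exact pack_unpack h2 hω hcw

end GF4

end Cfsg.Agent.Lib.helper34
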