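/-
helper34 shared library: maximality certificates for subgroups of `M24` and of `Spor.M23`
containing a conjugate of the element `x11` of order 11.  All double cosets of the group
generated by `x11` in `Spor.M22`, straight-line programs with stabiliser chains showing that a
subgroup is large, and the resulting criterion for a subgroup to be maximal.
-/
import Cfsg.Agent.Lib.helper34.M22DcData
import Cfsg.Agent.Lib.helper9.M24Order

set_option autoImplicit false

namespace Cfsg.Agent.Lib.helper34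

open Cfsg
open scoped Pointwise

/-! ### All double cosets of the group generated by `x11` -/

/-- Every element of `Spor.M22` lies in a double coset of one of the listed representatives:
`n` representatives with double cosets of 121 elements, and five normalising ones. -/
theorem m22_complete (E : ℕ) (Kf : ℕ → ℕ) (NK : List ℕ) (n : ℕ)
    (hrep : ∀ k < n + 5, ∃ g ∈ Spor.M22, Rep (ent E k) g)
    (hkey : ∀ k < n, Kf k = kap (dig (ent E k)))
    (hsort : ∀ k, k + 1 < n → Kf k < Kf (k + 1))
    (hnn : ∀ k < n, nnOK (ent E k) = true)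
    (hnk : ∀ c < 5, kap (dig (ent E (n + c))) = NK.getD c 0)
    (hnd : NK.Nodup) (hlen : NK.length = 5)
    (hne : ∀ k < n, ∀ c < 5, Kf k ≠ NK.getD c 0)
    (hcount : n * 121 + 55 = 443520) :
    ∀ h ∈ Spor.M22, ∃ k < n + 5, ∃ i j : ℕ, ∃ g, Rep (ent E k) g ∧ h = x11 ^ i * g * x11 ^ j := by
  classical
  have hR : ∀ k, ∃ g, k < n + 5 → g ∈ Spor.M22 ∧ Rep (ent E k) g := by
    intro k
    by_cases hk : k < n + 5
    · obtain ⟨g, h1, h2⟩ := hrep k hk
      exact ⟨g, fun _ => ⟨h1, h2⟩⟩
    · exact ⟨1, fun h => absurd h hk⟩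
  choose R hR using hR
  have hmono : ∀ k', ∀ k, k < k' → k' < n → Kf k < Kf k' := by
    intro k'
    induction k' with
    | zero => intro k hk; omega
    | succ k' ih =>
      intro k hk hk'
      have h1 := hsort k' hk'
      rcases Nat.lt_succ_iff_lt_or_eq.mp hk with h2 | h2
      · exact lt_trans (ih k h2 (by omega)) h1
      · rw [h2]; exact h1
  have hKK : ∀ k < n + 5, kapP (R k) = if k < n then Kf k else NK.getD (k - n) 0 := by
    intro k hk
    rw [← (hR k hk).2.kap_eq]
    by_cases h : k < n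
    · rw [if_pos h]
      exact (hkey k h).symm
    · rw [if_neg h]
      have h1 := hnk (k - n) (by omega)
      rwa [show n + (k - n) = k by omega] at h1
  have hkinj : ∀ k < n + 5, ∀ k' < n + 5, kapP (R k) = kapP (R k') → k = k' := by
    intro k hk k' hk' e
    rw [hKK k hk, hKK k' hk'] at e
    by_cases h : k < n <;> by_cases h' : k' < n
    · rw [if_pos h, if_pos h'] at e
      rcases Nat.lt_trichotomy k k' with h1 | h1 | h1
      · exact absurd e (ne_of_lt (hmono k' k h1 h'))
      · exact h1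
      · exact absurd e.symm (ne_of_lt (hmono k k' h1 h))
    · rw [if_pos h, if_neg h'] at e
      exact absurd e (hne k h (k' - n) (by omega))
    · rw [if_neg h, if_pos h'] at e
      exact absurd e.symm (hne k' h' (k - n) (by omega))
    · rw [if_neg h, if_neg h'] at e
      have h1 : k - n < NK.length := by omega
      have h2 : k' - n < NK.length := by omega
      rw [List.getD_eq_getElem _ _ h1, List.getD_eq_getElem _ _ h2] at e
      have h3 := (hnd.getElem_inj_iff).mp e
      omega
  let Φ : ℕ × ℕ × ℕ → Equiv.Perm GolayPt := fun a => x11 ^ a.2.1 * R a.1 * x11 ^ a.2.2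
  let D1 : Finset (ℕ × ℕ × ℕ) := Finset.range n ×ˢ Finset.range 11 ×ˢ Finset.range 11
  let D2 : Finset (ℕ × ℕ × ℕ) := Finset.Ico n (n + 5) ×ˢ Finset.range 11 ×ˢ Finset.range 1
  have hD1 : ∀ a, a ∈ D1 ↔ a.1 < n ∧ a.2.1 < 11 ∧ a.2.2 < 11 := by
    intro a
    simp [D1]
  have hD2 : ∀ a, a ∈ D2 ↔ (n ≤ a.1 ∧ a.1 < n + 5) ∧ a.2.1 < 11 ∧ a.2.2 < 1 := by
    intro a
    simp only [D2, Finset.mem_product, Finset.mem_Ico, Finset.mem_range]
  have hdisj : Disjoint D1 D2 := by
    rw [Finset.disjoint_left]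
    intro a h1 h2
    rw [hD1] at h1
    rw [hD2] at h2
    omega
  have hinj : Set.InjOn Φ ((D1 ∪ D2 : Finset (ℕ × ℕ × ℕ)) : Set (ℕ × ℕ × ℕ)) := by
    rintro ⟨k, i, j⟩ ha ⟨k', i', j'⟩ ha' e
    rw [Finset.mem_coe, Finset.mem_union, hD1, hD2] at ha ha'
    simp only at ha ha'
    have hk : k < n + 5 := by omega
    have hk' : k' < n + 5 := by omega
    have e' : x11 ^ i * R k * x11 ^ j = x11 ^ i' * R k' * x11 ^ j' := e
    have ek : k = k' := by
      apply hkinj k hk k' hk'
      rw [← kapP_double (R k) (fix2_of_mem (hR k hk).1) i j, e',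
        kapP_double (R k') (fix2_of_mem (hR k' hk').1) i' j']
    subst ek
    by_cases hkn : k < n
    · have h1 : i < 11 ∧ j < 11 := by omega
      have h2 : i' < 11 ∧ j' < 11 := by omega
      have hij := double_inj (nnOK_spec (hnn k hkn) (hR k hk).2) h1.1 h1.2 h2.1 h2.2 e'
      rw [hij.1, hij.2]
    · have h1 : i < 11 ∧ j = 0 := by omega
      have h2 : i' < 11 ∧ j' = 0 := by omega
      obtain ⟨hi, rfl⟩ := h1
      obtain ⟨hi', rfl⟩ := h2
      rw [pow_zero, mul_one, mul_one] at e'
      have e2 : x11 ^ i = x11 ^ i' := mul_right_cancel e'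
      have e3 : i = i' := pow_injOn_Iio_orderOf (by rw [x11_order]; exact hi)
        (by rw [x11_order]; exact hi') e2
      rw [e3]
  let M : Finset (Equiv.Perm GolayPt) := Finset.univ.filter (fun g => g ∈ Spor.M22)
  have hM : M.card = 443520 := by
    rw [← card_sporM22, Nat.card_eq_fintype_card, Fintype.card_subtype]
  have hT : (D1 ∪ D2).image Φ ⊆ M := by
    intro g hg
    obtain ⟨a, ha, rfl⟩ := Finset.mem_image.mp hg
    rw [Finset.mem_union, hD1, hD2] at ha
    rw [Finset.mem_filter]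
    have hk : a.1 < n + 5 := by omega
    exact ⟨Finset.mem_univ _, Spor.M22.mul_mem (Spor.M22.mul_mem (Spor.M22.pow_mem x11_mem _)
      (hR a.1 hk).1) (Spor.M22.pow_mem x11_mem _)⟩
  have hc : ((D1 ∪ D2).image Φ).card = 443520 := by
    rw [Finset.card_image_of_injOn hinj, Finset.card_union_of_disjoint hdisj]
    simp [D1, D2]
    omega
  have heq : (D1 ∪ D2).image Φ = M := Finset.eq_of_subset_of_card_le hT (by rw [hM, hc])
  intro h hh
  have hm : h ∈ M := Finset.mem_filter.mpr ⟨Finset.mem_univ _, hh⟩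
  rw [← heq] at hm
  obtain ⟨a, ha, rfl⟩ := Finset.mem_image.mp hm
  rw [Finset.mem_union, hD1, hD2] at ha
  exact ⟨a.1, by omega, a.2.1, a.2.2, R a.1, (hR a.1 (by omega)).2, rfl⟩

/-- The keys of the five normalising representatives. -/
def normK : List ℕ := [2252511457, 18396523201, 19733530209, 6726011521, 11220453857]

theorem dc_normk : ∀ c < 5, kap (dig (ent dcE (3665 + c))) = normK.getD c 0 := by
  decide +kernel

set_option maxRecDepth 100000 in
theorem dc_normk_ne : allBelow (fun k => allBelow (fun c =>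
    not (Nat.beq (fld2 dcK 40 64 k) (normK.getD c 0))) 5) 3665 = true := by
  decide +kernel

/-- Every element of `Spor.M22` is `x11 ^ i * g * x11 ^ j` for one of the 3670 listed
representatives `g`. -/
theorem m22_double : ∀ h ∈ Spor.M22, ∃ k < 3670, ∃ i j : ℕ, ∃ g,
    Rep (ent dcE k) g ∧ h = x11 ^ i * g * x11 ^ j := by
  refine m22_complete dcE (fld2 dcK 40 64) normK 3665
    (tree_rep Spor.M22 dcE dcG dcT 3670 22 3665 dcG_rep (by decide +kernel) dc_tree)
    dc_cert.key dc_cert.sort dc_cert.nn dc_normk (by decide) rfl ?_ (by norm_num)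
  intro k hk c hc e
  have h1 := allBelow_spec (allBelow_spec dc_normk_ne k hk) c hc
  rw [e] at h1
  have h2 : Nat.beq (normK.getD c 0) (normK.getD c 0) = true := Nat.beq_refl _
  rw [h2] at h1
  exact absurd h1 (by decide)

/-! ### Stabiliser chains -/

/-- The elements of `K` fixing the points with indices in `l`. -/
def fixSub (K : Subgroup (Equiv.Perm GolayPt)) (l : List ℕ) : Subgroup (Equiv.Perm GolayPt) where
  carrier := {g | g ∈ K ∧ ∀ b ∈ l, g (ptOf b) = ptOf b}
  mul_mem' := by
    rintro g g' ⟨h1, h2⟩ ⟨h1', h2'⟩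
    refine ⟨K.mul_mem h1 h1', fun b hb => ?_⟩
    show g (g' (ptOf b)) = ptOf b
    rw [h2' b hb, h2 b hb]
  one_mem' := ⟨K.one_mem, fun _ _ => rfl⟩
  inv_mem' := by
    rintro g ⟨h1, h2⟩
    refine ⟨K.inv_mem h1, fun b hb => ?_⟩
    have h3 := h2 b hb
    show g⁻¹ (ptOf b) = ptOf b
    conv_lhs => rw [← h3]
    exact perm_inv_apply g _

theorem mem_fixSub {K : Subgroup (Equiv.Perm GolayPt)} {l : List ℕ} {g : Equiv.Perm GolayPt} :
    g ∈ fixSub K l ↔ g ∈ K ∧ ∀ b ∈ l, g (ptOf b) = ptOf b := Iff.rfl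

theorem fixSub_le (K : Subgroup (Equiv.Perm GolayPt)) (l : List ℕ) : fixSub K l ≤ K :=
  fun _ h => h.1

theorem fixSub_step (K : Subgroup (Equiv.Perm GolayPt)) (l : List ℕ) (b : ℕ) (pts : List ℕ)
    (hnd : pts.Nodup) (hlt : ∀ p ∈ pts, p < 24)
    (h : ∀ p ∈ pts, ∃ u ∈ fixSub K l, u (ptOf b) = ptOf p) :
    pts.length * Nat.card (fixSub K (b :: l)) ≤ Nat.card (fixSub K l) := by
  classical
  have h1 := card_orbit_stab (α := GolayPt) (fixSub K l) (fixSub K (b :: l)) (ptOf b)
    {q | ∃ g ∈ fixSub K l, g • ptOf b = q} (fun _ => Iff.rfl) ?_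
  · rw [h1]
    apply Nat.mul_le_mul_right
    have h2 : ((pts.toFinset.image ptOf : Finset GolayPt) : Set GolayPt) ⊆
        {q | ∃ g ∈ fixSub K l, g • ptOf b = q} := by
      intro q hq
      rw [Finset.mem_coe, Finset.mem_image] at hq
      obtain ⟨p, hp, rfl⟩ := hq
      rw [List.mem_toFinset] at hp
      obtain ⟨u, hu, e⟩ := h p hp
      exact ⟨u, hu, e⟩
    have h3 := Set.ncard_le_ncard h2 (Set.toFinite _)
    rw [Set.ncard_coe_finset, Finset.card_image_of_injOn, List.toFinset_card_of_nodup hnd] at h3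
    · exact h3
    · intro p hp p' hp' e
      rw [Finset.mem_coe, List.mem_toFinset] at hp hp'
      exact ptOf_injOn (hlt p hp) (hlt p' hp') e
  · intro g
    rw [mem_fixSub, mem_fixSub, List.forall_mem_cons]
    constructor
    · rintro ⟨h1, h2, h3⟩
      exact ⟨⟨h1, h3⟩, h2⟩
    · rintro ⟨⟨h1, h3⟩, h2⟩
      exact ⟨h1, h2, h3⟩

/-- The product of the numbers of points of the levels. -/
def lvProd : List (ℕ × List ℕ) → ℕ
  | [] => 1
  | lv :: rest => lv.2.length * lvProd rest

/-- The levels have base points below 24 and lists of distinct indices below 24. -/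
def lvValid (levels : List (ℕ × List ℕ)) : Prop :=
  ∀ lv ∈ levels, lv.1 < 24 ∧ lv.2.Nodup ∧ ∀ p ∈ lv.2, p < 24

instance (levels : List (ℕ × List ℕ)) : Decidable (lvValid levels) := by
  unfold lvValid
  infer_instance

/-- Every point of every level is reached from the base point of the level by an element of `K`
fixing the earlier base points. -/
def Chain (K : Subgroup (Equiv.Perm GolayPt)) : List ℕ → List (ℕ × List ℕ) → Prop
  | _, [] => True
  | l, lv :: rest =>
    (∀ p ∈ lv.2, ∃ u ∈ fixSub K l, u (ptOf lv.1) = ptOf p) ∧ Chain K (lv.1 :: l) rest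

theorem Chain.card_ge {K : Subgroup (Equiv.Perm GolayPt)} :
    ∀ (levels : List (ℕ × List ℕ)) (l : List ℕ), Chain K l levels → lvValid levels →
      lvProd levels ≤ Nat.card (fixSub K l)
  | [], _, _, _ => Nat.card_pos
  | lv :: rest, l, h, hv => by
    have h1 := Chain.card_ge rest (lv.1 :: l) h.2 (fun x hx => hv x (List.mem_cons_of_mem _ hx))
    have hv1 := hv lv List.mem_cons_self
    have h2 := fixSub_step K l lv.1 lv.2 hv1.2.1 hv1.2.2 h.1
    exact le_trans (Nat.mul_le_mul_left _ h1) h2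

/-! ### Straight-line programs -/

/-- Offset of program `m` in the table of programs. -/
def cOff (SR m : ℕ) : ℕ := Nat.land (fld2 SR 48 64 m) 16777215

/-- Length of program `m`. -/
def cLen (SR m : ℕ) : ℕ := Nat.shiftRight (fld2 SR 48 64 m) 24

/-- The reference `i` is a common entry, or an entry of the current program before `n`. -/
def refOK (nA off n i : ℕ) : Bool := or (Nat.blt i nA) (and (Nat.ble off i) (Nat.blt i n))

theorem refOK_cases {nA off n i : ℕ} (h : refOK nA off n i = true) :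
    i < nA ∨ (off ≤ i ∧ i < n) := by
  unfold refOK at h
  rw [Bool.or_eq_true, Bool.and_eq_true] at h
  rcases h with h | ⟨h1, h2⟩
  · exact Or.inl (Nat.blt_eq.mp h)
  · exact Or.inr ⟨Nat.le_of_ble_eq_true h1, Nat.blt_eq.mp h2⟩

/-- Entry `n` of the program starting at `off`: a product or an inverse of earlier entries, or
the leaf at `off`. -/
def slpOK (SE SO nA off n : ℕ) : Bool :=
  withLitB (fld2 SO 48 64 n) fun op =>
  withLitB (Nat.shiftRight op 40) fun kind =>
  withLitB (Nat.land (Nat.shiftRight op 20) 1048575) fun i =>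
  withLitB (Nat.land op 1048575) fun j =>
  bif Nat.beq kind 1 then
    and (refOK nA off n i) (and (refOK nA off n j)
      (withLitB (fld2 SE 120 64 i) fun a => withLitB (fld2 SE 120 64 j) fun b =>
        withLitB (fld2 SE 120 64 n) fun cc => compU a b cc))
  else bif Nat.beq kind 2 then
    and (refOK nA off n i)
      (withLitB (fld2 SE 120 64 i) fun a => withLitB (fld2 SE 120 64 n) fun cc =>
        allBelow (fun t => Nat.beq (dig cc (dig a t)) t) 24)
  else Nat.beq n off

theorem rep_inv {a cc : ℕ} {u : Equiv.Perm GolayPt} (hr : Rep a u)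
    (h : allBelow (fun t => Nat.beq (dig cc (dig a t)) t) 24 = true) : Rep cc u⁻¹ := by
  intro p
  have h1 := Nat.eq_of_beq_eq_true (allBelow_spec h (idx (u⁻¹ p)) (idx_lt _))
  rw [← hr (u⁻¹ p), perm_apply_inv] at h1
  exact h1.symm

theorem slp_sound {SE SO nA off len : ℕ} (K : Subgroup (Equiv.Perm GolayPt))
    (hcommon : ∀ i < nA, ∃ u ∈ K, Rep (fld2 SE 120 64 i) u)
    (hleaf : ∃ u ∈ K, Rep (fld2 SE 120 64 off) u)
    (h : allBelow (fun d => slpOK SE SO nA off (Nat.add off d)) len = true) :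
    ∀ n, refOK nA off (Nat.add off len) n = true → ∃ u ∈ K, Rep (fld2 SE 120 64 n) u := by
  have key : ∀ d, d < len → ∃ u ∈ K, Rep (fld2 SE 120 64 (off + d)) u := by
    intro d
    induction d using Nat.strong_induction_on with
    | _ d ih =>
      intro hd
      have hd' : slpOK SE SO nA off (off + d) = true := allBelow_spec h d hd
      have href : ∀ i, refOK nA off (off + d) i = true →
          ∃ u ∈ K, Rep (fld2 SE 120 64 i) u := by
        intro i hi
        rcases refOK_cases hi with h1 | ⟨h1, h2⟩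
        · exact hcommon i h1
        · have h3 := ih (i - off) (by omega) (by omega)
          rwa [show off + (i - off) = i by omega] at h3
      unfold slpOK at hd'
      simp only [withLitB_eq] at hd'
      cases h1 : Nat.beq (Nat.shiftRight (fld2 SO 48 64 (off + d)) 40) 1
      · rw [h1] at hd'
        simp only [cond_false] at hd'
        cases h2 : Nat.beq (Nat.shiftRight (fld2 SO 48 64 (off + d)) 40) 2
        · rw [h2] at hd'
          simp only [cond_false] at hd'
          have e : off + d = off := Nat.eq_of_beq_eq_true hd'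
          rw [e]
          exact hleaf
        · rw [h2] at hd'
          simp only [cond_true, Bool.and_eq_true] at hd'
          obtain ⟨r1, r2⟩ := hd'
          obtain ⟨u, hu, hr⟩ := href _ r1
          exact ⟨u⁻¹, K.inv_mem hu, rep_inv hr r2⟩
      · rw [h1] at hd'
        simp only [cond_true, Bool.and_eq_true] at hd'
        obtain ⟨r1, r2, r3⟩ := hd'
        obtain ⟨u, hu, hr⟩ := href _ r1
        obtain ⟨v, hv, hr'⟩ := href _ r2
        rw [compU_eq] at r3
        exact ⟨u * v, K.mul_mem hu hv, hr.mul hr' r3⟩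
  intro n hn
  rcases refOK_cases hn with h1 | ⟨h1, h2⟩
  · exact hcommon n h1
  · have h2' : n < off + len := h2
    have h3 := key (n - off) (by omega)
    rwa [show off + (n - off) = n by omega] at h3

/-- The transversal entries for the points `pts` of the level with base point `b`, read from
position `pos`: each is an available entry mapping `b` to the point and fixing the earlier base
points `l`. -/
def ptsOK (SE ST nA off top : ℕ) (l : List ℕ) (b : ℕ) : List ℕ → ℕ → Bool
  | [], _ => true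
  | p :: ps, pos =>
    and (withLitB (fld2 ST 24 64 pos) fun n =>
        and (refOK nA off top n)
          (withLitB (fld2 SE 120 64 n) fun cc =>
            and (Nat.beq (dig cc b) p) (l.all fun f => Nat.beq (dig cc f) f)))
      (withLitB (Nat.succ pos) fun pos' => ptsOK SE ST nA off top l b ps pos')

/-- The transversal entries of all levels, read from position `pos`. -/
def lvsOK (SE ST nA off top : ℕ) : List ℕ → List (ℕ × List ℕ) → ℕ → Bool
  | _, [], _ => true
  | l, lv :: rest, pos =>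
    and (ptsOK SE ST nA off top l lv.1 lv.2 pos)
      (withLitB (Nat.add pos lv.2.length) fun pos' =>
        lvsOK SE ST nA off top (lv.1 :: l) rest pos')

theorem ptsOK_sound {SE ST nA off top : ℕ} {K : Subgroup (Equiv.Perm GolayPt)}
    (hent : ∀ n, refOK nA off top n = true → ∃ u ∈ K, Rep (fld2 SE 120 64 n) u)
    {l : List ℕ} (hl : ∀ f ∈ l, f < 24) {b : ℕ} (hb : b < 24) :
    ∀ (pts : List ℕ) (pos : ℕ), ptsOK SE ST nA off top l b pts pos = true →
      ∀ p ∈ pts, ∃ u ∈ fixSub K l, u (ptOf b) = ptOf p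
  | [], _, _ => fun p hp => absurd hp List.not_mem_nil
  | q :: ps, pos, h => by
    unfold ptsOK at h
    simp only [withLitB_eq, Bool.and_eq_true, List.all_eq_true] at h
    obtain ⟨⟨h1, h2, h3⟩, h4⟩ := h
    intro p hp
    rcases List.mem_cons.mp hp with rfl | hp'
    · obtain ⟨u, hu, hr⟩ := hent _ h1
      refine ⟨u, ⟨hu, fun f hf => ?_⟩, ?_⟩
      · apply idx_injective
        rw [hr (ptOf f), idx_ptOf (hl f hf)]
        exact Nat.eq_of_beq_eq_true (h3 f hf)
      · rw [← ptOf_idx (u (ptOf b)), hr (ptOf b), idx_ptOf hb, Nat.eq_of_beq_eq_true h2]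
    · exact ptsOK_sound hent hl hb ps _ h4 p hp'

theorem lvsOK_sound {SE ST nA off top : ℕ} {K : Subgroup (Equiv.Perm GolayPt)}
    (hent : ∀ n, refOK nA off top n = true → ∃ u ∈ K, Rep (fld2 SE 120 64 n) u) :
    ∀ (levels : List (ℕ × List ℕ)) (l : List ℕ) (pos : ℕ), (∀ f ∈ l, f < 24) →
      (∀ lv ∈ levels, lv.1 < 24) → lvsOK SE ST nA off top l levels pos = true →
      Chain K l levels
  | [], _, _, _, _, _ => trivial
  | lv :: rest, l, pos, hl, hv, h => by
    unfold lvsOK at h
    rw [Bool.and_eq_true, withLitB_eq] at h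
    have hb := hv lv List.mem_cons_self
    refine ⟨ptsOK_sound hent hl hb lv.2 pos h.1, ?_⟩
    refine lvsOK_sound hent rest (lv.1 :: l) _ ?_
      (fun x hx => hv x (List.mem_cons_of_mem _ hx)) h.2
    intro f hf
    rcases List.mem_cons.mp hf with rfl | hf'
    · exact hb
    · exact hl f hf'

/-- Program `m` is well formed and its transversal entries cover all levels. -/
def certOK (SE SO ST SR nA : ℕ) (levels : List (ℕ × List ℕ)) (tot m : ℕ) : Bool :=
  withLitB (cOff SR m) fun off =>
  withLitB (cLen SR m) fun len =>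
  and (allBelow (fun d => slpOK SE SO nA off (Nat.add off d)) len)
    (withLitB (Nat.add off len) fun top =>
      withLitB (Nat.mul m tot) fun pos => lvsOK SE ST nA off top [] levels pos)

/-- A subgroup containing the common entries and the leaf of a checked program has at least as
many elements as the product of the level sizes. -/
theorem cert_sound {SE SO ST SR nA tot m : ℕ} {levels : List (ℕ × List ℕ)}
    (h : certOK SE SO ST SR nA levels tot m = true) (hlv : lvValid levels)
    (K : Subgroup (Equiv.Perm GolayPt))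
    (hcommon : ∀ i < nA, ∃ u ∈ K, Rep (fld2 SE 120 64 i) u)
    (hleaf : ∃ u ∈ K, Rep (fld2 SE 120 64 (cOff SR m)) u) :
    lvProd levels ≤ Nat.card K := by
  unfold certOK at h
  simp only [withLitB_eq, Bool.and_eq_true] at h
  have hent := slp_sound K hcommon hleaf h.1
  have hch : Chain K [] levels :=
    lvsOK_sound hent levels [] _ (fun f hf => absurd hf List.not_mem_nil)
      (fun lv hlv' => (hlv lv hlv').1) h.2
  exact le_trans (hch.card_ge levels [] hlv) (Subgroup.card_le_of_le (fixSub_le K []))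

/-- The common entries of the table of programs are the identity and the generators. -/
theorem common_rep (gens : List (List ℕ × List ℕ)) (hv : ∀ g ∈ gens, ValidPerm g.1 g.2)
    (SE nA : ℕ)
    (hc : and (Nat.beq nA (Nat.succ gens.length)) (and (idOK (ent SE 0)) (allBelow (fun s =>
      allBelow (fun j => Nat.beq (dig (ent SE (Nat.succ s)) j)
        ((gens.getD s ([], [])).1.getD j 0)) 24) gens.length)) = true) :
    ∀ i < nA, ∃ u ∈ genSub gens, Rep (fld2 SE 120 64 i) u := by
  rw [Bool.and_eq_true, Bool.and_eq_true] at hc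
  obtain ⟨h0, h1, h2⟩ := hc
  have hn : nA = gens.length + 1 := Nat.eq_of_beq_eq_true h0
  intro i hi
  rw [fld2_ent _ _ _ (show 0 < 64 by norm_num)]
  cases i with
  | zero => exact ⟨1, (genSub gens).one_mem, rep_one h1⟩
  | succ s =>
    have hs : s < gens.length := by omega
    have hmem : gens.getD s ([], []) ∈ gens := by
      rw [List.getD_eq_getElem _ _ hs]
      exact List.getElem_mem hs
    exact ⟨_, genSub_mem hmem, rep_tperm (hv _ hmem) (allBelow_spec h2 s hs)⟩

/-! ### Decomposition of the conjugated representatives -/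

/-- The conjugate by the table `cC` (inverse `cI`) of representative `k` is the product of the
elements `i1`, `i2` of the enumeration `EA` around the leaf of program `m`. -/
def decOK (EA E SE SR DT cC cI nEA M k : ℕ) : Bool :=
  withLitB (fld2 DT 48 64 k) fun d =>
  withLitB (Nat.land d 65535) fun i1 =>
  withLitB (Nat.land (Nat.shiftRight d 16) 65535) fun m =>
  withLitB (Nat.shiftRight d 32) fun i2 =>
  and (Nat.blt i1 nEA) (and (Nat.blt i2 nEA) (and (Nat.blt m M)
    (withLitB (fld2 E 120 64 k) fun r =>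
     withLitB (fld2 EA 120 64 i1) fun a1 =>
     withLitB (fld2 EA 120 64 i2) fun a2 =>
     withLitB (fld2 SE 120 64 (cOff SR m)) fun g =>
       allBelow (fun t => and (Nat.blt (dig g t) 24)
         (Nat.beq (dig cC (dig r (dig cI t))) (dig a1 (dig g (dig a2 t))))) 24)))

theorem dec_sound {A : Subgroup (Equiv.Perm GolayPt)} {EA GcA TcA RtA nEA kA rA : ℕ}
    (hEA : EnumOK A EA GcA TcA RtA nEA kA rA)
    {c : Equiv.Perm GolayPt} {cC cI : ℕ} (hcC : Rep cC c) (hcI : Rep cI c⁻¹)
    {E SE SR DT M k : ℕ} (h : decOK EA E SE SR DT cC cI nEA M k = true)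
    {R : Equiv.Perm GolayPt} (hR : Rep (ent E k) R)
    (K : Subgroup (Equiv.Perm GolayPt)) (hAK : A ≤ K) (hP : c * R * c⁻¹ ∈ K) :
    ∃ m < M, ∃ gm ∈ K, Rep (fld2 SE 120 64 (cOff SR m)) gm := by
  unfold decOK at h
  simp only [withLitB_eq, Bool.and_eq_true, fld2_ent _ _ _ (show 0 < 64 by norm_num)] at h
  obtain ⟨h1, h2, h3, h4⟩ := h
  obtain ⟨m, hm⟩ : ∃ m, m = Nat.land (Nat.shiftRight (fld2 DT 48 64 k) 16) 65535 := ⟨_, rfl⟩
  rw [← hm] at h3 h4
  obtain ⟨a1, ha1, hr1⟩ := hEA.exists_rep _ (Nat.blt_eq.mp h1)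
  obtain ⟨a2, ha2, hr2⟩ := hEA.exists_rep _ (Nat.blt_eq.mp h2)
  refine ⟨m, Nat.blt_eq.mp h3, a1⁻¹ * (c * R * c⁻¹) * a2⁻¹,
    K.mul_mem (K.mul_mem (K.inv_mem (hAK ha1)) hP) (K.inv_mem (hAK ha2)), ?_⟩
  rw [fld2_ent _ _ _ (show 0 < 64 by norm_num)]
  intro p
  have h5 := allBelow_spec h4 (idx (a2⁻¹ p)) (idx_lt _)
  rw [Bool.and_eq_true] at h5
  have h8 := Nat.eq_of_beq_eq_true h5.2
  have h5' := allBelow_spec h4 (idx p) (idx_lt _)
  rw [Bool.and_eq_true] at h5'
  have h6 := Nat.blt_eq.mp h5'.1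
  rw [← hr2 (a2⁻¹ p), perm_apply_inv] at h8
  rw [← hcI (a2⁻¹ p), ← hR (c⁻¹ (a2⁻¹ p)), ← hcC (R (c⁻¹ (a2⁻¹ p)))] at h8
  have h9 : idx (a1 (ptOf (dig (ent SE (cOff SR m)) (idx p)))) =
      idx (c (R (c⁻¹ (a2⁻¹ p)))) := by
    rw [hr1 (ptOf _), idx_ptOf h6]
    exact h8.symm
  have h10 := idx_injective h9
  show idx (a1⁻¹ (c (R (c⁻¹ (a2⁻¹ p))))) = _
  rw [← h10, perm_inv_apply, idx_ptOf h6]

/-! ### The criterion -/

/-- Pair table check: the entry for `(p, q)` is an element of the enumeration mapping the index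
`p` to 23 and `q` to 0. -/
def pairOK (EA PT nEA p q : ℕ) : Bool :=
  withLitB (fld2 PT 16 64 (Nat.add (Nat.mul p 24) q)) fun i =>
  and (Nat.blt i nEA) (withLitB (fld2 EA 120 64 i) fun a =>
    and (Nat.beq (dig a p) 23) (Nat.beq (dig a q) 0))

theorem move_of_pair {A : Subgroup (Equiv.Perm GolayPt)} {EA GcA TcA RtA nEA kA rA : ℕ}
    (hEA : EnumOK A EA GcA TcA RtA nEA kA rA) (hA : A ≤ M24) {PT : ℕ}
    {g : Equiv.Perm GolayPt} (hg : g ∈ M24)
    (h : pairOK EA PT nEA (idx (g none)) (idx (g (some 0))) = true) :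
    ∃ a ∈ A, a * g ∈ Spor.M22 := by
  unfold pairOK at h
  simp only [withLitB_eq, Bool.and_eq_true, fld2_ent _ _ _ (show 0 < 64 by norm_num)] at h
  obtain ⟨h1, h2, h3⟩ := h
  obtain ⟨a, ha, hr⟩ := hEA.exists_rep _ (Nat.blt_eq.mp h1)
  refine ⟨a, ha, ⟨⟨M24.mul_mem (hA ha) hg, ?_⟩, ?_⟩⟩
  · show a (g none) = none
    apply idx_injective
    rw [hr (g none)]
    exact Nat.eq_of_beq_eq_true h2
  · show a (g (some 0)) = some 0
    apply idx_injective
    rw [hr (g (some 0))]
    exact Nat.eq_of_beq_eq_true h3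

theorem card_sporM23 : Nat.card Spor.M23 = 10200960 := by
  have h := Cfsg.Agent.Lib.helper9.card_stab_point none
  rw [← h, ← Subgroup.card_map_of_injective (Subgroup.subtype_injective M24)]
  congr 2
  ext g
  rw [Subgroup.mem_map]
  constructor
  · intro hg
    have hm : g ∈ M24 := hg.1
    have h1 : g none = none := hg.2
    exact ⟨⟨g, hm⟩, h1, rfl⟩
  · rintro ⟨k, hk, rfl⟩
    have h1 : (k : Equiv.Perm GolayPt) none = none := hk
    exact ⟨k.2, h1⟩

/-- A subgroup `A` of `T` containing a conjugate `β` of `x11` by an element of `Spor.M22` is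
maximal in `T`, given that `T` is covered by the translates of `Spor.M22` by `A`, that the
conjugates of the double coset representatives decompose through `A` and the leaves of programs,
and that each program shows that `A` and its leaf generate a subgroup with at least as many
elements as `T`. -/
theorem max_of_cert (T A : Subgroup (Equiv.Perm GolayPt)) (N : ℕ) (hT : Nat.card T ≤ N)
    (EA GcA TcA RtA nEA kA rA : ℕ) (hEA : EnumOK A EA GcA TcA RtA nEA kA rA)
    (c β : Equiv.Perm GolayPt) (cC cI : ℕ) (hc : c ∈ Spor.M22) (hcC : Rep cC c)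
    (hcI : Rep cI c⁻¹) (hβ : β ∈ A) (hcβ : c * x11 = β * c)
    (hmove : ∀ g ∈ T, ∃ a ∈ A, a * g ∈ Spor.M22)
    (E n r : ℕ) (hroot : idOK (ent E r) = true)
    (hM22 : ∀ h ∈ Spor.M22, ∃ k < n, ∃ i j : ℕ, ∃ g,
      Rep (ent E k) g ∧ h = x11 ^ i * g * x11 ^ j)
    (SE SO ST SR DT nA M tot : ℕ) (levels : List (ℕ × List ℕ))
    (hlv : lvValid levels) (hprod : lvProd levels = N)
    (hcommon : ∀ i < nA, ∃ u ∈ A, Rep (fld2 SE 120 64 i) u)
    (hdec : ∀ k < n, k ≠ r → decOK EA E SE SR DT cC cI nEA M k = true)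
    (hcert : ∀ m < M, certOK SE SO ST SR nA levels tot m = true) :
    ∀ K : Subgroup (Equiv.Perm GolayPt), A ≤ K → K ≤ T → K ≠ A → K = T := by
  intro K hAK hKT hne
  obtain ⟨g, hgK, hgA⟩ : ∃ g ∈ K, g ∉ A := by
    by_contra hcon
    push Not at hcon
    exact hne (le_antisymm hcon hAK)
  obtain ⟨a, haA, hag⟩ := hmove g (hKT hgK)
  have hhK : a * g ∈ K := K.mul_mem (hAK haA) hgK
  have hhA : a * g ∉ A := by
    intro h
    apply hgA
    have h1 := A.mul_mem (A.inv_mem haA) h
    rwa [inv_mul_cancel_left] at h1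
  have hh' : c⁻¹ * (a * g) * c ∈ Spor.M22 :=
    Spor.M22.mul_mem (Spor.M22.mul_mem (Spor.M22.inv_mem hc) hag) hc
  obtain ⟨k, hk, i, j, R, hR, e⟩ := hM22 _ hh'
  have hpow : ∀ i : ℕ, c * x11 ^ i = β ^ i * c := by
    intro i
    induction i with
    | zero => rw [pow_zero, pow_zero, mul_one, one_mul]
    | succ i ih => rw [pow_succ, ← mul_assoc, ih, mul_assoc, hcβ, ← mul_assoc, ← pow_succ]
  have e2 : a * g = β ^ i * (c * R * c⁻¹) * β ^ j := by
    have h1 : a * g = c * (c⁻¹ * (a * g) * c) * c⁻¹ := by group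
    have h2 : c * x11 ^ j * c⁻¹ = β ^ j := by rw [hpow, mul_inv_cancel_right]
    rw [h1, e]
    calc c * (x11 ^ i * R * x11 ^ j) * c⁻¹
        = (c * x11 ^ i) * R * c⁻¹ * (c * x11 ^ j * c⁻¹) := by group
      _ = β ^ i * (c * R * c⁻¹) * β ^ j := by rw [hpow i, h2]; group
  by_cases hkr : k = r
  · exfalso
    subst hkr
    have hR1 : R = 1 := hR.eq_one hroot
    apply hhA
    rw [e2, hR1, mul_one, mul_inv_cancel, mul_one]
    exact A.mul_mem (A.pow_mem hβ i) (A.pow_mem hβ j)
  · have hP : c * R * c⁻¹ ∈ K := by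
      have h1 : c * R * c⁻¹ = (β ^ i)⁻¹ * (a * g) * (β ^ j)⁻¹ := by rw [e2]; group
      rw [h1]
      exact K.mul_mem (K.mul_mem (K.inv_mem (K.pow_mem (hAK hβ) i)) hhK)
        (K.inv_mem (K.pow_mem (hAK hβ) j))
    obtain ⟨m, hm, gm, hgmK, hgm⟩ := dec_sound hEA hcC hcI (hdec k hk hkr) hR K hAK hP
    have hcard := cert_sound (hcert m hm) hlv K
      (fun i hi => by
        obtain ⟨u, hu, hr⟩ := hcommon i hi
        exact ⟨u, hAK hu, hr⟩) ⟨gm, hgmK, hgm⟩
    rw [hprod] at hcard
    exact Subgroup.eq_of_le_of_card_ge hKT (le_trans hT hcard)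

/-! ### Coatoms -/

theorem isCoatom_subgroupOf_of {G : Type*} [Group G] (H T : Subgroup G) (hHT : H ≤ T)
    (hne : H ≠ T) (h : ∀ K : Subgroup G, H ≤ K → K ≤ T → K ≠ H → K = T) :
    IsCoatom (H.subgroupOf T) := by
  constructor
  · intro e
    rw [Subgroup.subgroupOf_eq_top] at e
    exact hne (le_antisymm hHT e)
  · intro K' hlt
    have hKT : K'.map T.subtype ≤ T := by
      rintro x ⟨y, _, rfl⟩
      exact y.2
    have hHK : H ≤ K'.map T.subtype := by
      intro x hx
      exact ⟨⟨x, hHT hx⟩, hlt.le (Subgroup.mem_subgroupOf.mpr hx), rfl⟩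
    have hmem : ∀ y : ↥T, (y : G) ∈ K'.map T.subtype ↔ y ∈ K' := by
      intro y
      constructor
      · rintro ⟨z, hz, e2⟩
        have e3 : z = y := Subtype.ext e2
        rwa [e3] at hz
      · intro hy
        exact ⟨y, hy, rfl⟩
    have hKH : K'.map T.subtype ≠ H := by
      intro e
      apply hlt.ne'
      ext y
      rw [Subgroup.mem_subgroupOf, ← e, hmem]
    have h1 := h _ hHK hKT hKH
    rw [eq_top_iff]
    intro y _
    rw [← hmem, h1]
    exact y.2

theorem isCoatom_subgroupOf_subgroupOf {G : Type*} [Group G] (S B T : Subgroup G)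
    (T' : Subgroup ↥S) (hT' : ∀ x : ↥S, x ∈ T' ↔ (x : G) ∈ T) (hTS : T ≤ S) (hBT : B ≤ T)
    (hne : B ≠ T) (h : ∀ K : Subgroup G, B ≤ K → K ≤ T → K ≠ B → K = T) :
    IsCoatom ((B.subgroupOf S).subgroupOf T') := by
  apply isCoatom_subgroupOf_of
  · intro x hx
    rw [hT']
    exact hBT (Subgroup.mem_subgroupOf.mp hx)
  · intro e
    apply hne
    apply le_antisymm hBT
    intro y hy
    have h1 : (⟨y, hTS hy⟩ : ↥S) ∈ T' := (hT' _).mpr hy
    rw [← e] at h1
    exact Subgroup.mem_subgroupOf.mp h1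
  · intro K' hBK hKT hKne
    have hmem : ∀ y : ↥S, (y : G) ∈ K'.map S.subtype ↔ y ∈ K' := by
      intro y
      constructor
      · rintro ⟨z, hz, e2⟩
        have e3 : z = y := Subtype.ext e2
        rwa [e3] at hz
      · intro hy
        exact ⟨y, hy, rfl⟩
    have h1 : B ≤ K'.map S.subtype := by
      intro x hx
      exact ⟨⟨x, hTS (hBT hx)⟩, hBK (Subgroup.mem_subgroupOf.mpr hx), rfl⟩
    have h2 : K'.map S.subtype ≤ T := by
      rintro x ⟨y, hy, rfl⟩
      exact (hT' y).mp (hKT hy)
    have h3 : K'.map S.subtype ≠ B := by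
      intro e
      apply hKne
      ext y
      rw [Subgroup.mem_subgroupOf, ← e, hmem]
    have h4 := h _ h1 h2 h3
    ext y
    rw [hT', ← h4, hmem]

end Cfsg.Agent.Lib.helper34
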