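/-
helper34 shared library: the tables of `t ↦ t + 1`, `t ↦ 2 t`, `t ↦ -1/t` on the 24 points, and an
element of `Spor.M22` conjugating `x11` to `t ↦ 2 t` (generated data).
-/
import Cfsg.Agent.Lib.helper34.M22Max

set_option autoImplicit false

namespace Cfsg.Agent.Lib.helper34

open Cfsg

/-- Table of `t ↦ t + 1`. -/
def mxAtab : List ℕ := [1, 2, 3, 4, 5, 6, 7, 8, 9, 10, 11, 12, 13, 14, 15, 16, 17, 18, 19, 20, 21, 22, 0, 23]

def mxAinv : List ℕ := [22, 0, 1, 2, 3, 4, 5, 6, 7, 8, 9, 10, 11, 12, 13, 14, 15, 16, 17, 18, 19, 20, 21, 23]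

/-- Table of `t ↦ -1/t`. -/
def mxGtab : List ℕ := [23, 22, 11, 15, 17, 9, 19, 13, 20, 5, 16, 2, 21, 7, 18, 3, 10, 4, 14, 6, 8, 12, 1, 0]

def mxGinv : List ℕ := [23, 22, 11, 15, 17, 9, 19, 13, 20, 5, 16, 2, 21, 7, 18, 3, 10, 4, 14, 6, 8, 12, 1, 0]

/-- Table of `t ↦ 2 t`. -/
def mxBtab : List ℕ := [0, 2, 4, 6, 8, 10, 12, 14, 16, 18, 20, 22, 1, 3, 5, 7, 9, 11, 13, 15, 17, 19, 21, 23]

def mxBinv : List ℕ := [0, 12, 1, 13, 2, 14, 3, 15, 4, 16, 5, 17, 6, 18, 7, 19, 8, 20, 9, 21, 10, 22, 11, 23]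

/-- Table of an element conjugating `x11` to `t ↦ 2 t`. -/
def mxCtab : List ℕ := [0, 13, 20, 1, 2, 14, 11, 18, 9, 15, 21, 22, 3, 5, 12, 6, 19, 7, 17, 16, 4, 10, 8, 23]

def mxCinv : List ℕ := [0, 3, 4, 12, 20, 13, 15, 17, 22, 8, 21, 6, 14, 1, 5, 9, 19, 18, 7, 16, 2, 10, 11, 23]

theorem mxCtab_ok : GensOK [(mxCtab, mxCinv)] := by decide +kernel

theorem mxCtab_valid : ValidPerm mxCtab mxCinv :=
  (mxCtab_ok (mxCtab, mxCinv) (List.mem_singleton.2 rfl)).1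

/-- An element of `Spor.M22` conjugating `x11` to `t ↦ 2 t`. -/
def mxCel : Equiv.Perm GolayPt := tperm mxCtab mxCinv

theorem mxCel_mem : mxCel ∈ Spor.M22 :=
  tperm_mem_M22 mxCtab_valid (mxCtab_ok.mem_M24 (mxCtab, mxCinv) (List.mem_singleton.2 rfl)).2
    (by decide) (by decide)

def mxC : ℕ := nat_lit 0xba144844f3330a3b55e992dc20d1a0

def mxCI : ℕ := nat_lit 0xbad4281e534942e355168bdb461060

theorem mxCel_rep : Rep mxC mxCel := rep_tperm mxCtab_valid (by decide +kernel)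

theorem mxCel_repI : Rep mxCI mxCel⁻¹ := rep_inv mxCel_rep (by decide +kernel)

theorem mxBtab_valid : ValidPerm mxBtab mxBinv := by decide +kernel

/-- The permutation `t ↦ 2 t`. -/
def mxBel : Equiv.Perm GolayPt := tperm mxBtab mxBinv

def mxBc : ℕ := nat_lit 0xbd6717b56939461b52507314831040

theorem mxBel_rep : Rep mxBc mxBel := rep_tperm mxBtab_valid (by decide +kernel)

theorem mxCel_conj : mxCel * x11 = mxBel * mxCel :=
  Rep.conj mxCel_rep x11_rep1 mxBel_rep (by decide +kernel)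

end Cfsg.Agent.Lib.helper34
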