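/-
helper34 shared library: base-11 codes for 2×2 matrices over `ZMod 11`, with multiplication on
codes and decoding into `PSL(2, 11)`.
-/
import Cfsg.Agent.Lib.helper34.GolayEnum2

set_option autoImplicit false

namespace Cfsg.Agent.Lib.helper34

/-- The 2×2 matrix over `ZMod 11` with base-11 code `c` (entries in row-major order). -/
def m11 (c : ℕ) : Matrix (Fin 2) (Fin 2) (ZMod 11) :=
  !![((c % 11 : ℕ) : ZMod 11), ((c / 11 % 11 : ℕ) : ZMod 11);
     ((c / 121 % 11 : ℕ) : ZMod 11), ((c / 1331 % 11 : ℕ) : ZMod 11)]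

/-- The determinant of the matrix coded by `c`, as a residue. -/
def det11 (c : ℕ) : ℕ :=
  Nat.mod (Nat.add (Nat.mul (Nat.mod c 11) (Nat.mod (Nat.div c 1331) 11))
    (Nat.mul 10 (Nat.mul (Nat.mod (Nat.div c 11) 11) (Nat.mod (Nat.div c 121) 11)))) 11

/-- Product of matrix codes. -/
def mul11 (x y : ℕ) : ℕ :=
  Nat.add (Nat.add (Nat.add
    (Nat.mod (Nat.add (Nat.mul (Nat.mod x 11) (Nat.mod y 11))
      (Nat.mul (Nat.mod (Nat.div x 11) 11) (Nat.mod (Nat.div y 121) 11))) 11)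
    (Nat.mul 11 (Nat.mod (Nat.add (Nat.mul (Nat.mod x 11) (Nat.mod (Nat.div y 11) 11))
      (Nat.mul (Nat.mod (Nat.div x 11) 11) (Nat.mod (Nat.div y 1331) 11))) 11)))
    (Nat.mul 121 (Nat.mod (Nat.add (Nat.mul (Nat.mod (Nat.div x 121) 11) (Nat.mod y 11))
      (Nat.mul (Nat.mod (Nat.div x 1331) 11) (Nat.mod (Nat.div y 121) 11))) 11)))
    (Nat.mul 1331 (Nat.mod (Nat.add (Nat.mul (Nat.mod (Nat.div x 121) 11) (Nat.mod (Nat.div y 11) 11))
      (Nat.mul (Nat.mod (Nat.div x 1331) 11) (Nat.mod (Nat.div y 1331) 11))) 11))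

/-- Code of the negated matrix. -/
def neg11 (c : ℕ) : ℕ :=
  Nat.add (Nat.add (Nat.add
    (Nat.mod (Nat.sub 11 (Nat.mod c 11)) 11)
    (Nat.mul 11 (Nat.mod (Nat.sub 11 (Nat.mod (Nat.div c 11) 11)) 11)))
    (Nat.mul 121 (Nat.mod (Nat.sub 11 (Nat.mod (Nat.div c 121) 11)) 11)))
    (Nat.mul 1331 (Nat.mod (Nat.sub 11 (Nat.mod (Nat.div c 1331) 11)) 11))

/-- The smaller of the codes of a matrix and its negative. -/
def norm11 (c : ℕ) : ℕ := bif Nat.ble c (neg11 c) then c else neg11 c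

/-- Normalised product of matrix codes. -/
def nmul11 (x y : ℕ) : ℕ := norm11 (mul11 x y)

theorem mul11_eq (x y : ℕ) : mul11 x y =
    (x % 11 * (y % 11) + x / 11 % 11 * (y / 121 % 11)) % 11 +
    11 * ((x % 11 * (y / 11 % 11) + x / 11 % 11 * (y / 1331 % 11)) % 11) +
    121 * ((x / 121 % 11 * (y % 11) + x / 1331 % 11 * (y / 121 % 11)) % 11) +
    1331 * ((x / 121 % 11 * (y / 11 % 11) + x / 1331 % 11 * (y / 1331 % 11)) % 11) := rfl

theorem neg11_eq (c : ℕ) : neg11 c =
    (11 - c % 11) % 11 + 11 * ((11 - c / 11 % 11) % 11) + 121 * ((11 - c / 121 % 11) % 11) +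
    1331 * ((11 - c / 1331 % 11) % 11) := rfl

theorem m11_mul11 (x y : ℕ) : m11 (mul11 x y) = m11 x * m11 y := by
  rw [mul11_eq]
  generalize hp : (x % 11 * (y % 11) + x / 11 % 11 * (y / 121 % 11)) = p
  generalize hq : (x % 11 * (y / 11 % 11) + x / 11 % 11 * (y / 1331 % 11)) = q
  generalize hr : (x / 121 % 11 * (y % 11) + x / 1331 % 11 * (y / 121 % 11)) = r
  generalize hs : (x / 121 % 11 * (y / 11 % 11) + x / 1331 % 11 * (y / 1331 % 11)) = s
  have e1 : (p % 11 + 11 * (q % 11) + 121 * (r % 11) + 1331 * (s % 11)) % 11 = p % 11 := by omega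
  have e2 : (p % 11 + 11 * (q % 11) + 121 * (r % 11) + 1331 * (s % 11)) / 11 % 11 = q % 11 := by
    omega
  have e3 : (p % 11 + 11 * (q % 11) + 121 * (r % 11) + 1331 * (s % 11)) / 121 % 11 = r % 11 := by
    omega
  have e4 : (p % 11 + 11 * (q % 11) + 121 * (r % 11) + 1331 * (s % 11)) / 1331 % 11 = s % 11 := by
    omega
  unfold m11
  rw [e1, e2, e3, e4, ← hp, ← hq, ← hr, ← hs]
  ext i j
  fin_cases i <;> fin_cases j <;>
    simp [Matrix.mul_apply, Fin.sum_univ_two, ZMod.natCast_mod]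

theorem cast_neg11 (a : ℕ) : (((11 - a % 11) % 11 : ℕ) : ZMod 11) = -((a % 11 : ℕ) : ZMod 11) := by
  have h : a % 11 < 11 := Nat.mod_lt _ (by norm_num)
  rw [ZMod.natCast_mod (11 - a % 11) 11, Nat.cast_sub (le_of_lt h)]
  have e : ((11 : ℕ) : ZMod 11) = 0 := by decide
  rw [e, zero_sub]

theorem m11_neg11 (c : ℕ) : m11 (neg11 c) = -m11 c := by
  rw [neg11_eq]
  generalize hp : (11 - c % 11) = p
  generalize hq : (11 - c / 11 % 11) = q
  generalize hr : (11 - c / 121 % 11) = r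
  generalize hs : (11 - c / 1331 % 11) = s
  have e1 : (p % 11 + 11 * (q % 11) + 121 * (r % 11) + 1331 * (s % 11)) % 11 = p % 11 := by omega
  have e2 : (p % 11 + 11 * (q % 11) + 121 * (r % 11) + 1331 * (s % 11)) / 11 % 11 = q % 11 := by
    omega
  have e3 : (p % 11 + 11 * (q % 11) + 121 * (r % 11) + 1331 * (s % 11)) / 121 % 11 = r % 11 := by
    omega
  have e4 : (p % 11 + 11 * (q % 11) + 121 * (r % 11) + 1331 * (s % 11)) / 1331 % 11 = s % 11 := by
    omega
  unfold m11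
  rw [e1, e2, e3, e4, ← hp, ← hq, ← hr, ← hs]
  have f1 := cast_neg11 c
  have f2 := cast_neg11 (c / 11)
  have f3 := cast_neg11 (c / 121)
  have f4 := cast_neg11 (c / 1331)
  ext i j
  fin_cases i <;> fin_cases j <;> simp [f1, f2, f3, f4]

theorem det_m11 (c : ℕ) : (m11 c).det = ((det11 c : ℕ) : ZMod 11) := by
  have e : det11 c = (c % 11 * (c / 1331 % 11) + 10 * (c / 11 % 11 * (c / 121 % 11))) % 11 := rfl
  rw [e, Matrix.det_fin_two]
  simp only [m11, Matrix.of_apply, Matrix.cons_val', Matrix.cons_val_zero, Matrix.cons_val_one,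
    Matrix.cons_val_fin_one, ZMod.natCast_mod]
  push_cast
  simp only [ZMod.natCast_mod]
  have h2 : (10 : ZMod 11) = -1 := by decide
  rw [h2]
  ring

theorem det_one_of_det11 {c : ℕ} (h : Nat.beq (det11 c) 1 = true) : (m11 c).det = 1 := by
  rw [det_m11, Nat.eq_of_beq_eq_true h]
  rfl

theorem det11_of_det_one {c : ℕ} (h : (m11 c).det = 1) : Nat.beq (det11 c) 1 = true := by
  rw [det_m11] at h
  have hlt : det11 c < 11 := Nat.mod_lt _ (by norm_num)
  have e := congrArg ZMod.val h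
  rw [ZMod.val_natCast_of_lt hlt] at e
  rw [e]
  rfl

open scoped MatrixGroups

/-- The special linear matrix with code `c`. -/
def mkSL11 (c : ℕ) (h : (m11 c).det = 1) : SL(2, ZMod 11) := ⟨m11 c, h⟩

theorem mkSL11_val (c : ℕ) (h : (m11 c).det = 1) :
    ((mkSL11 c h : SL(2, ZMod 11)) : Matrix (Fin 2) (Fin 2) (ZMod 11)) = m11 c := rfl

/-- Decoding of a matrix code into the projective special linear group (`1` on codes of
determinant other than one). -/
noncomputable def dec11 (c : ℕ) : PSL(2, ZMod 11) :=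
  if h : (m11 c).det = 1 then (QuotientGroup.mk (mkSL11 c h) : PSL(2, ZMod 11)) else 1

theorem dec11_of {c : ℕ} (h : (m11 c).det = 1) :
    dec11 c = (QuotientGroup.mk (mkSL11 c h) : PSL(2, ZMod 11)) := dif_pos h

theorem det_mul11 {x y : ℕ} (hx : (m11 x).det = 1) (hy : (m11 y).det = 1) :
    (m11 (mul11 x y)).det = 1 := by rw [m11_mul11, Matrix.det_mul, hx, hy, one_mul]

theorem dec11_mul {x y : ℕ} (hx : (m11 x).det = 1) (hy : (m11 y).det = 1) :
    dec11 (mul11 x y) = dec11 x * dec11 y := by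
  have hxy := det_mul11 hx hy
  have e : mkSL11 (mul11 x y) hxy = mkSL11 x hx * mkSL11 y hy := by
    apply Subtype.val_injective
    show m11 (mul11 x y) = m11 x * m11 y
    exact m11_mul11 x y
  rw [dec11_of hx, dec11_of hy, dec11_of hxy, e]
  rfl

/-- The central element `-1`. -/
def negOne11 : SL(2, ZMod 11) := ⟨!![-1, 0; 0, -1], by simp [Matrix.det_fin_two]⟩

theorem negOne11_mem : negOne11 ∈ Subgroup.center (SL(2, ZMod 11)) := by
  rw [Matrix.SpecialLinearGroup.mem_center_iff]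
  refine ⟨-1, by simp, ?_⟩
  show Matrix.scalar (Fin 2) (-1 : ZMod 11) = !![-1, 0; 0, -1]
  ext i j
  fin_cases i <;> fin_cases j <;> simp

theorem det_neg11 {c : ℕ} (h : (m11 c).det = 1) : (m11 (neg11 c)).det = 1 := by
  rw [m11_neg11, Matrix.det_neg, h]
  simp

theorem dec11_neg {c : ℕ} (h : (m11 c).det = 1) : dec11 (neg11 c) = dec11 c := by
  have hn := det_neg11 h
  have e : mkSL11 (neg11 c) hn = negOne11 * mkSL11 c h := by
    apply Subtype.val_injective
    show m11 (neg11 c) = !![-1, 0; 0, -1] * m11 c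
    rw [m11_neg11]
    ext i j
    fin_cases i <;> fin_cases j <;> simp [Matrix.mul_apply, Fin.sum_univ_two]
  rw [dec11_of h, dec11_of hn, e]
  have e2 : (QuotientGroup.mk (negOne11 * mkSL11 c h) : PSL(2, ZMod 11)) =
      QuotientGroup.mk negOne11 * QuotientGroup.mk (mkSL11 c h) := rfl
  rw [e2, (QuotientGroup.eq_one_iff negOne11).mpr negOne11_mem, one_mul]

theorem det_norm11 {c : ℕ} (h : (m11 c).det = 1) : (m11 (norm11 c)).det = 1 := by
  unfold norm11
  cases Nat.ble c (neg11 c)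
  · exact det_neg11 h
  · exact h

theorem dec11_norm {c : ℕ} (h : (m11 c).det = 1) : dec11 (norm11 c) = dec11 c := by
  unfold norm11
  cases Nat.ble c (neg11 c)
  · exact dec11_neg h
  · rfl

theorem dec11_nmul {x y : ℕ} (hx : (m11 x).det = 1) (hy : (m11 y).det = 1) :
    dec11 (nmul11 x y) = dec11 x * dec11 y := by
  unfold nmul11
  rw [dec11_norm (det_mul11 hx hy), dec11_mul hx hy]

theorem m11_one : m11 1332 = 1 := by
  ext i j
  fin_cases i <;> fin_cases j <;> simp [m11]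

theorem dec11_one : dec11 1332 = 1 := by
  have h : (m11 1332).det = 1 := by rw [m11_one, Matrix.det_one]
  rw [dec11_of h]
  have e : mkSL11 1332 h = 1 := by
    apply Subtype.val_injective
    show m11 1332 = 1
    exact m11_one
  rw [e]
  rfl

theorem natCast_inj11 {a b : ℕ} (ha : a < 11) (hb : b < 11)
    (h : ((a : ℕ) : ZMod 11) = ((b : ℕ) : ZMod 11)) : a = b := by
  have e := congrArg ZMod.val h
  rwa [ZMod.val_natCast_of_lt ha, ZMod.val_natCast_of_lt hb] at e

theorem dec11_eq_one {c : ℕ} (hc : c < 14641) (h : (m11 c).det = 1) (h1 : dec11 c = 1) :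
    c = 1332 ∨ c = 13320 := by
  rw [dec11_of h] at h1
  have h1' := (QuotientGroup.eq_one_iff (mkSL11 c h)).mp h1
  rw [Matrix.SpecialLinearGroup.mem_center_iff] at h1'
  obtain ⟨r, hr, hs⟩ := h1'
  have hs' : Matrix.scalar (Fin 2) r = m11 c := hs
  have e00 := congrFun (congrFun hs' 0) 0
  have e01 := congrFun (congrFun hs' 0) 1
  have e10 := congrFun (congrFun hs' 1) 0
  have e11 := congrFun (congrFun hs' 1) 1
  simp [m11] at e00 e01 e10 e11
  have hr2 : ∀ r : ZMod 11, r ^ 2 = 1 → r = ((1 : ℕ) : ZMod 11) ∨ r = ((10 : ℕ) : ZMod 11) := by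
    decide
  have hr' : r ^ 2 = 1 := by simpa using hr
  have h0 : (0 : ZMod 11) = ((0 : ℕ) : ZMod 11) := by simp
  have l1 : c % 11 < 11 := Nat.mod_lt _ (by norm_num)
  have l2 : c / 11 % 11 < 11 := Nat.mod_lt _ (by norm_num)
  have l3 : c / 121 % 11 < 11 := Nat.mod_lt _ (by norm_num)
  have l4 : c / 1331 % 11 < 11 := Nat.mod_lt _ (by norm_num)
  have f01 : c / 11 % 11 = 0 := natCast_inj11 l2 (by norm_num) (by rw [ZMod.natCast_mod, ← h0]; exact e01.symm)
  have f10 : c / 121 % 11 = 0 := natCast_inj11 l3 (by norm_num) (by rw [ZMod.natCast_mod, ← h0]; exact e10.symm)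
  rcases hr2 r hr' with hr1 | hr1
  · have f00 : c % 11 = 1 := natCast_inj11 l1 (by norm_num) (by rw [ZMod.natCast_mod, ← e00, hr1])
    have f11 : c / 1331 % 11 = 1 := natCast_inj11 l4 (by norm_num) (by rw [ZMod.natCast_mod, ← e11, hr1])
    left
    omega
  · have f00 : c % 11 = 10 := natCast_inj11 l1 (by norm_num) (by rw [ZMod.natCast_mod, ← e00, hr1])
    have f11 : c / 1331 % 11 = 10 := natCast_inj11 l4 (by norm_num) (by rw [ZMod.natCast_mod, ← e11, hr1])
    right
    omega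

theorem dec11_surj (y : PSL(2, ZMod 11)) :
    ∃ c, c < 14641 ∧ (m11 c).det = 1 ∧ dec11 c = y := by
  obtain ⟨A, rfl⟩ := QuotientGroup.mk_surjective y
  have hv : ∀ x : ZMod 11, x.val < 11 := fun x => ZMod.val_lt x
  have ha := hv (A.1 0 0)
  have hb := hv (A.1 0 1)
  have hc := hv (A.1 1 0)
  have hd := hv (A.1 1 1)
  have hm : m11 ((A.1 0 0).val + 11 * (A.1 0 1).val + 121 * (A.1 1 0).val + 1331 * (A.1 1 1).val)
      = A.1 := by
    have e1 : ((A.1 0 0).val + 11 * (A.1 0 1).val + 121 * (A.1 1 0).val + 1331 * (A.1 1 1).val) % 11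
        = (A.1 0 0).val := by omega
    have e2 : ((A.1 0 0).val + 11 * (A.1 0 1).val + 121 * (A.1 1 0).val + 1331 * (A.1 1 1).val) / 11
        % 11 = (A.1 0 1).val := by omega
    have e3 : ((A.1 0 0).val + 11 * (A.1 0 1).val + 121 * (A.1 1 0).val + 1331 * (A.1 1 1).val) / 121
        % 11 = (A.1 1 0).val := by omega
    have e4 : ((A.1 0 0).val + 11 * (A.1 0 1).val + 121 * (A.1 1 0).val + 1331 * (A.1 1 1).val) / 1331
        % 11 = (A.1 1 1).val := by omega
    unfold m11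
    rw [e1, e2, e3, e4]
    ext i j
    fin_cases i <;> fin_cases j <;> simp
  have hdet : (m11 ((A.1 0 0).val + 11 * (A.1 0 1).val + 121 * (A.1 1 0).val +
      1331 * (A.1 1 1).val)).det = 1 := by
    rw [hm]
    exact A.2
  refine ⟨_, by omega, hdet, ?_⟩
  rw [dec11_of hdet]
  have e : mkSL11 _ hdet = A := Subtype.val_injective hm
  rw [e]

/-- Check that a table of matrix codes is multiplicative, up to sign, along the
right-multiplication table. -/
def PSL11HomOK (Cd Cg Rt n k : ℕ) : Bool :=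
  allBelow (fun i => and (Nat.beq (det11 (cd16 Cd i)) 1)
    (allBelow (fun s => and (Nat.beq (det11 (cd16 Cg s)) 1)
      (Nat.beq (cd16 Cd (rtab Rt k i s)) (nmul11 (cd16 Cd i) (cd16 Cg s)))) k)) n

theorem psl11_hom_ok {Cd Cg Rt n k : ℕ} (h : PSL11HomOK Cd Cg Rt n k = true) :
    ∀ i < n, ∀ s < k, dec11 (cd16 Cd (rtab Rt k i s)) = dec11 (cd16 Cd i) * dec11 (cd16 Cg s) := by
  intro i hi s hs
  have h1 := allBelow_spec h i hi
  rw [Bool.and_eq_true] at h1
  have h2 := allBelow_spec h1.2 s hs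
  rw [Bool.and_eq_true] at h2
  rw [Nat.eq_of_beq_eq_true h2.2, dec11_nmul (det_one_of_det11 h1.1) (det_one_of_det11 h2.1)]

/-- Check that every class of matrices of determinant one occurs in the table. -/
def PSL11SurjOK (Cd W n : ℕ) : Bool :=
  allBelow (fun c => bif Nat.beq (det11 c) 1 then
    and (Nat.blt (cd16 W c) n) (Nat.beq (cd16 Cd (cd16 W c)) (norm11 c)) else true) 14641

theorem psl11_surj_ok {Cd W n : ℕ} (h : PSL11SurjOK Cd W n = true) :
    ∀ y : PSL(2, ZMod 11), ∃ i, i < n ∧ dec11 (cd16 Cd i) = y := by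
  intro y
  obtain ⟨c, hc, hd, e⟩ := dec11_surj y
  have h1 := allBelow_spec h c hc
  rw [det11_of_det_one hd, cond_true, Bool.and_eq_true, Nat.blt_eq] at h1
  exact ⟨cd16 W c, h1.1, by rw [Nat.eq_of_beq_eq_true h1.2, dec11_norm hd, e]⟩

/-- Check that only the root has a central code. -/
def PSL11InjOK (Cd n r : ℕ) : Bool :=
  allBelow (fun i => and (and (Nat.beq (det11 (cd16 Cd i)) 1) (Nat.blt (cd16 Cd i) 14641))
    (bif or (Nat.beq (cd16 Cd i) 1332) (Nat.beq (cd16 Cd i) 13320) then Nat.beq i r else true)) n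

theorem psl11_inj_ok {Cd n r : ℕ} (h : PSL11InjOK Cd n r = true) :
    ∀ i < n, dec11 (cd16 Cd i) = 1 → i = r := by
  intro i hi h1
  have h2 := allBelow_spec h i hi
  rw [Bool.and_eq_true, Bool.and_eq_true, Nat.blt_eq] at h2
  have hc := dec11_eq_one h2.1.2 (det_one_of_det11 h2.1.1) h1
  have h3 := h2.2
  have e : or (Nat.beq (cd16 Cd i) 1332) (Nat.beq (cd16 Cd i) 13320) = true := by
    rcases hc with hc | hc <;> rw [hc] <;> rfl
  rw [e, cond_true] at h3
  exact Nat.eq_of_beq_eq_true h3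

namespace EnumOK

variable {T : Subgroup (Equiv.Perm GolayPt)} {E Gc Tc Rt n k r : ℕ}

theorem hom_injective {G' : Type*} [Group G'] (h : EnumOK T E Gc Tc Rt n k r) (F Fg : ℕ → G')
    (h1 : F r = 1) (h2 : ∀ i < n, ∀ s < k, F (rtab Rt k i s) = F i * Fg s)
    (hi : ∀ i < n, F i = 1 → i = r) : Function.Injective (h.hom F Fg h1 h2) := by
  rw [injective_iff_map_eq_one]
  intro g hg
  rw [hom_apply] at hg
  obtain ⟨l, rr⟩ := h.ix_spec g.2
  rw [hi _ l hg] at rr
  exact Subtype.ext (rr.eq_one h.root)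

end EnumOK

end Cfsg.Agent.Lib.helper34
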