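import Mathlib
import Cfsg.Agent.Lib.helper68.HallPet
import Cfsg.Agent.Lib.helper65.PearlDefs
import Cfsg.Agent.Lib.helper65.PearlBasic
import Cfsg.Agent.Lib.helper43.PearlD1

/-!
# Piece A1 of the S5238 lemma split (racer copy): removing an atom does not change the high
differences
-/

set_option autoImplicit false

namespace Cfsg.Agent.Lib.helper65.PearlPow

open Cfsg.Agent.Lib.helper68

variable {H : Type*} [Group H]

/-- The group identity behind one step of `h34_atom_aux`. -/
theorem h34_a1_id (A0 A1 rn rn1 : H) :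
    (A0⁻¹ * (rn⁻¹ * rn1))⁻¹ * ((A1⁻¹ * rn)⁻¹ * ((A0 * A1)⁻¹ * rn1)) =
      (rn⁻¹ * rn1)⁻¹ * com (A0⁻¹) rn * (rn⁻¹ * rn1) := by
  unfold com
  group

/-- The first `k` differences: the atom of degree `k - i` survives in front of `dl^[i] s`. -/
theorem h34_atom_aux {v : ℕ} (hv : 1 ≤ v) {s : ℕ → H} (hs : PolySeq v s) (k : ℕ)
    (a : H) (ha : a ∈ gam H (k + v)) :
    ∀ i ≤ k, Rel (v + i + 1) (fun n => (a ^ (n.choose (k - i)))⁻¹ * dl^[i] s n)
      (dl^[i] (fun n => (a ^ (n.choose k))⁻¹ * s n)) := by
  intro i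
  induction i with
  | zero =>
    intro _
    exact rel_of_eq _ rfl
  | succ i ih =>
    intro hik
    have hP := ih (by omega)
    have hrP : PolySeq (v + i) (dl^[i] s) := polyseq_dl_iter hs i
    have hatom : PolySeq (v + i) (fun n => a ^ (n.choose (k - i))) :=
      PolySeq.atom (k - i) (v + i) a (by
        have : k - i + (v + i) = k + v := by omega
        rw [this]; exact ha)
    have hX : PolySeq (v + i) (fun n => (a ^ (n.choose (k - i)))⁻¹ * dl^[i] s n) :=
      PolySeq.mul (PolySeq.inv hatom) hrP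
    have h1 := rel_dl hX hP
    have h2 : Rel (v + i + 1 + 1)
        (fun n => (a ^ (n.choose (k - (i + 1))))⁻¹ * dl (dl^[i] s) n)
        (dl (fun n => (a ^ (n.choose (k - i)))⁻¹ * dl^[i] s n)) := by
      unfold Rel
      have hatom' : PolySeq (v + i + 1) (fun n => a ^ (n.choose (k - (i + 1)))) :=
        PolySeq.atom (k - (i + 1)) (v + i + 1) a (by
          have : k - (i + 1) + (v + i + 1) = k + v := by omega
          rw [this]; exact ha)
      have hc : PolySeq (v + i + 1 + (v + i))
          (fun n => com ((a ^ (n.choose (k - (i + 1))))⁻¹) (dl^[i] s n)) :=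
        PolySeq.comm (PolySeq.inv hatom') hrP
      have hc' : PolySeq (v + i + 1 + 1)
          (fun n => com ((a ^ (n.choose (k - (i + 1))))⁻¹) (dl^[i] s n)) :=
        PolySeq.mono (by omega) hc
      have hdr : PolySeq (v + i + 1) (dl (dl^[i] s)) := by
        have := polyseq_dl_iter hs (i + 1)
        rwa [Function.iterate_succ_apply'] at this
      have hconj := polyseq_conj hc' hdr
      have e : (fun n => ((a ^ (n.choose (k - (i + 1))))⁻¹ * dl (dl^[i] s) n)⁻¹ *
            dl (fun n => (a ^ (n.choose (k - i)))⁻¹ * dl^[i] s n) n) =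
          (fun n => (dl (dl^[i] s) n)⁻¹ *
            com ((a ^ (n.choose (k - (i + 1))))⁻¹) (dl^[i] s n) * dl (dl^[i] s) n) := by
        funext n
        have hpas : a ^ ((n + 1).choose (k - i)) =
            a ^ (n.choose (k - (i + 1))) * a ^ (n.choose (k - i)) := by
          have : k - i = (k - (i + 1)) + 1 := by omega
          rw [this, Nat.choose_succ_succ, pow_add]
        show ((a ^ (n.choose (k - (i + 1))))⁻¹ * ((dl^[i] s n)⁻¹ * dl^[i] s (n + 1)))⁻¹ *
            (((a ^ (n.choose (k - i)))⁻¹ * dl^[i] s n)⁻¹ *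
              ((a ^ ((n + 1).choose (k - i)))⁻¹ * dl^[i] s (n + 1))) =
          ((dl^[i] s n)⁻¹ * dl^[i] s (n + 1))⁻¹ *
            com ((a ^ (n.choose (k - (i + 1))))⁻¹) (dl^[i] s n) *
              ((dl^[i] s n)⁻¹ * dl^[i] s (n + 1))
        rw [hpas]
        exact h34_a1_id _ _ _ _
      rw [e]
      exact hconj
    have h3 := rel_trans h2 h1
    rw [Function.iterate_succ_apply', Function.iterate_succ_apply']
    exact h3

/-- A1 (racer copy, verbatim statement of `atom_remove`). -/
theorem h34_atom_remove {v : ℕ} (hv : 1 ≤ v) {s : ℕ → H} (hs : PolySeq v s) (k : ℕ) (hk : 1 ≤ k)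
    (a : H) (ha : a ∈ gam H (k + v)) (j : ℕ) (hj : k + 1 ≤ j) :
    Rel (v + j + 1) (dl^[j] s) (dl^[j] (fun n => (a ^ (n.choose k))⁻¹ * s n)) := by
  induction j, hj using Nat.le_induction with
  | base =>
    have hP := h34_atom_aux hv hs k a ha k le_rfl
    have hX : PolySeq (v + k) (fun n => (a ^ (n.choose (k - k)))⁻¹ * dl^[k] s n) :=
      PolySeq.mul (PolySeq.inv (PolySeq.atom (k - k) (v + k) a (by
        have : k - k + (v + k) = k + v := by omega
        rw [this]; exact ha))) (polyseq_dl_iter hs k)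
    have h1 := rel_dl hX hP
    have e : dl (fun n => (a ^ (n.choose (k - k)))⁻¹ * dl^[k] s n) = dl (dl^[k] s) := by
      funext n
      show ((a ^ (n.choose (k - k)))⁻¹ * dl^[k] s n)⁻¹ *
          ((a ^ ((n + 1).choose (k - k)))⁻¹ * dl^[k] s (n + 1)) =
        (dl^[k] s n)⁻¹ * dl^[k] s (n + 1)
      simp only [Nat.sub_self, Nat.choose_zero_right, pow_one]
      group
    rw [e] at h1
    rw [Function.iterate_succ_apply', Function.iterate_succ_apply']
    exact h1
  | succ j hj ih =>
    have h1 := rel_dl (polyseq_dl_iter hs j) ih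
    rw [Function.iterate_succ_apply', Function.iterate_succ_apply']
    exact h1

end Cfsg.Agent.Lib.helper65.PearlPow
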