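import Mathlib
import Cfsg.Agent.Lib.helper68.HallPet
import Cfsg.Agent.Lib.helper65.PearlDefs
import Cfsg.Agent.Lib.helper65.PearlBasic

/-!
# Piece A3 of the S5238 lemma split (racer copy): Taylor expansion at `p`, with the statement of
piece A1 (`atom_remove`) as a hypothesis; piece A2 is proved here as `h34_dl_iter_vanish`.
-/

set_option autoImplicit false

namespace Cfsg.Agent.Lib.helper65.PearlPow

open Cfsg.Agent.Lib.helper68

variable {H : Type*} [Group H]

/-- A2, with the intermediate statement for every `j ≤ p`. -/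
theorem h34_dl_iter_aux (s : ℕ → H) (p : ℕ) (hs : ∀ i < p, s i = 1) :
    ∀ j ≤ p, (∀ i, i + j < p → dl^[j] s i = 1) ∧ dl^[j] s (p - j) = s p := by
  intro j
  induction j with
  | zero =>
    intro _
    exact ⟨fun i hi => hs i (by omega), rfl⟩
  | succ j ih =>
    intro hj
    obtain ⟨h1, h2⟩ := ih (by omega)
    refine ⟨fun i hi => ?_, ?_⟩
    · rw [Function.iterate_succ_apply']
      show (dl^[j] s i)⁻¹ * dl^[j] s (i + 1) = 1
      rw [h1 i (by omega), h1 (i + 1) (by omega)]
      group
    · rw [Function.iterate_succ_apply']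
      show (dl^[j] s (p - (j + 1)))⁻¹ * dl^[j] s (p - (j + 1) + 1) = s p
      have e : p - (j + 1) + 1 = p - j := by omega
      rw [h1 (p - (j + 1)) (by omega), e, h2]
      group

/-- A2 (racer copy, verbatim statement of `dl_iter_vanish`). -/
theorem h34_dl_iter_vanish (s : ℕ → H) (p : ℕ) (hs : ∀ i < p, s i = 1) : dl^[p] s 0 = s p := by
  have h := (h34_dl_iter_aux s p hs p le_rfl).2
  rwa [Nat.sub_self] at h

/-- A3 with the statement of A1 as a hypothesis. -/
theorem h34_taylor_top_core
    (hA1 : ∀ {v : ℕ} (_ : 1 ≤ v) {s : ℕ → H} (_ : PolySeq v s) (k : ℕ) (_ : 1 ≤ k)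
      (a : H) (_ : a ∈ gam H (k + v)) (j : ℕ) (_ : k + 1 ≤ j),
      Rel (v + j + 1) (dl^[j] s) (dl^[j] (fun n => (a ^ (n.choose k))⁻¹ * s n)))
    {w : ℕ} (hw : 1 ≤ w) (p : ℕ) (hp : p.Prime) (hnil : gam H (w + 1 + p) = ⊥)
    (hexp : ∀ y ∈ gam H (w + 2), y ^ p = 1) {s : ℕ → H} (hs : PolySeq w s) (h0 : s 0 = 1) :
    s p = (s 1) ^ p * dl^[p] s 0 := by
  have hp2 : 2 ≤ p := hp.two_le
  have key : ∀ k, 1 ≤ k → k ≤ p - 1 → ∃ r : ℕ → H, PolySeq w r ∧ (∀ i ≤ k, r i = 1) ∧
      s p = (s 1) ^ p * r p ∧ Rel (w + p + 1) (dl^[p] s) (dl^[p] r) := by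
    intro k hk
    induction k, hk using Nat.le_induction with
    | base =>
      intro _
      have ha : s 1 ∈ gam H (1 + w) := by
        have := PolySeq.vanish 1 hs (fun i hi => by
          have : i = 0 := by omega
          subst this; exact h0)
        rwa [add_comm] at this
      refine ⟨fun n => ((s 1) ^ (n.choose 1))⁻¹ * s n, ?_, ?_, ?_, ?_⟩
      · exact PolySeq.mul (PolySeq.inv (PolySeq.atom 1 w (s 1) ha)) hs
      · intro i hi
        have hi' : i = 0 ∨ i = 1 := by omega
        rcases hi' with rfl | rfl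
        · simp [h0]
        · simp
      · simp only [Nat.choose_one_right]
        group
      · exact hA1 hw hs 1 le_rfl (s 1) ha p (by omega)
    | succ k hk ih =>
      intro hkp
      obtain ⟨r, hr, hr1, hsp, hrel⟩ := ih (by omega)
      have ha : r (k + 1) ∈ gam H (k + 1 + w) := by
        have := PolySeq.vanish (k + 1) hr (fun i hi => hr1 i (by omega))
        rwa [add_comm] at this
      have hap : r (k + 1) ^ p = 1 :=
        hexp _ (gam_antitone (by omega) ha)
      have hchoose : r (k + 1) ^ (p.choose (k + 1)) = 1 := by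
        obtain ⟨c, hc⟩ := hp.dvd_choose_self (Nat.succ_ne_zero k) (by omega)
        rw [hc, pow_mul, hap, one_pow]
      refine ⟨fun n => ((r (k + 1)) ^ (n.choose (k + 1)))⁻¹ * r n, ?_, ?_, ?_, ?_⟩
      · exact PolySeq.mul (PolySeq.inv (PolySeq.atom (k + 1) w (r (k + 1)) ha)) hr
      · intro i hi
        rcases Nat.lt_or_ge i (k + 1) with hlt | hge
        · simp only [Nat.choose_eq_zero_of_lt hlt, pow_zero, inv_one, one_mul]
          exact hr1 i (by omega)
        · have : i = k + 1 := by omega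
          subst this
          simp
      · simp only [hchoose, inv_one, one_mul]
        exact hsp
      · exact rel_trans hrel (hA1 hw hr (k + 1) (by omega) (r (k + 1)) ha p (by omega))
  obtain ⟨r, hr, hr1, hsp, hrel⟩ := key (p - 1) (by omega) le_rfl
  have hrp : dl^[p] r 0 = r p := h34_dl_iter_vanish r p (fun i hi => hr1 i (by omega))
  have hmem := PolySeq.mem hrel 0
  have hbot : (dl^[p] s 0)⁻¹ * dl^[p] r 0 = 1 := by
    have e : w + p + 1 = w + 1 + p := by omega
    rw [e, hnil] at hmem
    exact (Subgroup.mem_bot).1 hmem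
  have heq : dl^[p] s 0 = dl^[p] r 0 := by
    have := inv_mul_eq_one.1 hbot
    exact this
  rw [heq, hrp]
  exact hsp

end Cfsg.Agent.Lib.helper65.PearlPow
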