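import Mathlib
import Cfsg.Agent.Lib.helper68.HallPet
import Cfsg.Agent.Lib.helper65.PearlDefs
import Cfsg.Agent.Lib.helper65.PearlBasic
import Cfsg.Agent.Lib.helper34.PearlA3core
import Cfsg.Agent.Lib.helper34.PearlA1

/-!
# Piece A3 of the S5238 lemma split (racer copy): Taylor expansion at `p`
-/

set_option autoImplicit false

namespace Cfsg.Agent.Lib.helper65.PearlPow

open Cfsg.Agent.Lib.helper68

variable {H : Type*} [Group H]

/-- A3 (racer copy, verbatim statement of `taylor_top`). -/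
theorem h34_taylor_top {w : ℕ} (hw : 1 ≤ w) (p : ℕ) (hp : p.Prime) (hnil : gam H (w + 1 + p) = ⊥)
    (hexp : ∀ y ∈ gam H (w + 2), y ^ p = 1) {s : ℕ → H} (hs : PolySeq w s) (h0 : s 0 = 1) :
    s p = (s 1) ^ p * dl^[p] s 0 :=
  h34_taylor_top_core (fun hv _ hs k hk a ha j hj => h34_atom_remove hv hs k hk a ha j hj)
    hw p hp hnil hexp hs h0

end Cfsg.Agent.Lib.helper65.PearlPow
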