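import Mathlib

/-!
# Piece FC of the S5238 fusion-side split (racer copy): a nonabelian pearl of exponent `p` gives
an element of order dividing `p` whose centralizer has order `p²`
-/

set_option autoImplicit false

namespace Cfsg.Agent.Lib.helper88.PearlF

/-- FC (racer copy, verbatim statement of `pearl_x_nonab`). -/
theorem h34_pearl_x_nonab {G : Type*} [Group G] [Finite G] (p : ℕ) [Fact p.Prime] (n : ℕ)
    (hG : Nat.card G = p ^ n) (E : Subgroup G) (hE : Nat.card E = p ^ 3)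
    (hna : ¬ IsMulCommutative E) (hexp : ∀ x ∈ E, x ^ p = 1)
    (hC : Subgroup.centralizer (E : Set G) ≤ E) :
    ∃ x : G, x ^ p = 1 ∧ Nat.card (Subgroup.centralizer ({x} : Set G)) = p ^ 2 := by
  classical
  have hp : p.Prime := Fact.out
  have hGp : IsPGroup p G := IsPGroup.of_card hG
  obtain ⟨a₀, ha₀, b₀, hb₀, hab₀⟩ : ∃ a ∈ E, ∃ b ∈ E, a * b ≠ b * a := by
    by_contra hcon
    push Not at hcon
    apply hna
    exact ⟨⟨fun x y => Subtype.ext (hcon x.1 x.2 y.1 y.2)⟩⟩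
  have hZK : Subgroup.center G ≤ Subgroup.centralizer (E : Set G) :=
    Subgroup.center_le_centralizer _
  have hZE : Subgroup.center G ≤ E := hZK.trans hC
  have hGnt : Nontrivial G := ⟨⟨a₀, b₀, by rintro rfl; exact hab₀ rfl⟩⟩
  have hZnt : Nontrivial (Subgroup.center G) := hGp.center_nontrivial
  have hZbot : Subgroup.center G ≠ ⊥ := (Subgroup.nontrivial_iff_ne_bot _).mp hZnt
  -- the centralizer of `E` has order at most `p`
  obtain ⟨j, hj1, hKc⟩ : ∃ j ≤ 1, Nat.card (Subgroup.centralizer (E : Set G)) = p ^ j := by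
    obtain ⟨j, hj3, hj⟩ := (Nat.dvd_prime_pow hp).1 (hE ▸ Subgroup.card_dvd_of_le hC)
    refine ⟨j, ?_, hj⟩
    by_contra hj1
    have hCa_le : E ⊓ Subgroup.centralizer ({a₀} : Set G) ≤ E := inf_le_left
    obtain ⟨i, hi3, hi⟩ := (Nat.dvd_prime_pow hp).1 (hE ▸ Subgroup.card_dvd_of_le hCa_le)
    have hi3' : i ≠ 3 := by
      intro h3
      have heq := Subgroup.eq_of_le_of_card_ge hCa_le (by rw [hi, h3, hE])
      have hb : b₀ ∈ E ⊓ Subgroup.centralizer ({a₀} : Set G) := by rw [heq]; exact hb₀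
      exact hab₀ ((Subgroup.mem_centralizer_iff.mp (Subgroup.mem_inf.mp hb).2) a₀
        (Set.mem_singleton a₀))
    have hKle : Subgroup.centralizer (E : Set G) ≤ E ⊓ Subgroup.centralizer ({a₀} : Set G) := by
      refine le_inf hC ?_
      intro g hg
      rw [Subgroup.mem_centralizer_iff] at hg ⊢
      intro h hh
      rw [Set.mem_singleton_iff] at hh
      rw [hh]; exact hg a₀ ha₀
    have heq := Subgroup.eq_of_le_of_card_ge hKle
      (by rw [hi, hj]; exact Nat.pow_le_pow_right hp.pos (by omega))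
    have ha : a₀ ∈ Subgroup.centralizer (E : Set G) := by
      rw [heq]
      refine Subgroup.mem_inf.mpr ⟨ha₀, ?_⟩
      rw [Subgroup.mem_centralizer_iff]
      intro h hh
      rw [Set.mem_singleton_iff] at hh
      rw [hh]
    exact hab₀ ((Subgroup.mem_centralizer_iff.mp ha) b₀ hb₀).symm
  have hZcard : Nat.card (Subgroup.center G) = p := by
    obtain ⟨i, hi, hZc⟩ := (Nat.dvd_prime_pow hp).1 (hKc ▸ Subgroup.card_dvd_of_le hZK)
    have hi0 : i ≠ 0 := by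
      intro h0
      apply hZbot
      rw [h0, pow_zero] at hZc
      exact Subgroup.eq_bot_of_card_eq _ hZc
    have hi1 : i = 1 := by omega
    rw [hZc, hi1, pow_one]
  have hKZ : Subgroup.centralizer (E : Set G) = Subgroup.center G := by
    symm
    apply Subgroup.eq_of_le_of_card_ge hZK
    rw [hKc, hZcard]
    calc p ^ j ≤ p ^ 1 := Nat.pow_le_pow_right hp.pos hj1
      _ = p := pow_one p
  have hF3 : ∀ g : G, (∀ e ∈ E, e * g = g * e) → g ∈ Subgroup.center G := by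
    intro g hg
    rw [← hKZ, Subgroup.mem_centralizer_iff]
    exact hg
  -- commutators of elements of `E` are central
  have hF2 : ∀ a ∈ E, ∀ b ∈ E, a * b * a⁻¹ * b⁻¹ ∈ Subgroup.center G := by
    intro a ha b hb
    have hcardsub : Nat.card ((Subgroup.center G).subgroupOf E) = p := by
      rw [Nat.card_congr (Subgroup.subgroupOfEquivOfLe hZE).toEquiv, hZcard]
    have hidx : ((Subgroup.center G).subgroupOf E).index = p ^ 2 := by
      have h1 := ((Subgroup.center G).subgroupOf E).card_mul_index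
      rw [hcardsub, hE] at h1
      have h2 : p * ((Subgroup.center G).subgroupOf E).index = p * p ^ 2 := by rw [h1]; ring
      exact Nat.eq_of_mul_eq_mul_left hp.pos h2
    have hq : Nat.card (↥E ⧸ (Subgroup.center G).subgroupOf E) = p ^ 2 := by
      rw [← Subgroup.index_eq_card]; exact hidx
    have hqc := IsPGroup.commutative_of_card_eq_prime_sq hq
    have h1 : (QuotientGroup.mk' ((Subgroup.center G).subgroupOf E))
        ((⟨a, ha⟩ : E) * ⟨b, hb⟩ * (⟨a, ha⟩ : E)⁻¹ * (⟨b, hb⟩ : E)⁻¹) = 1 := by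
      rw [map_mul, map_mul, map_mul, map_inv, map_inv,
        hqc (QuotientGroup.mk' _ ⟨a, ha⟩) (QuotientGroup.mk' _ ⟨b, hb⟩)]
      group
    rw [QuotientGroup.mk'_apply, QuotientGroup.eq_one_iff, Subgroup.mem_subgroupOf] at h1
    simpa using h1
  -- an element of the second centre outside the centre
  obtain ⟨w₀, hw₀Z, hw₀c⟩ : ∃ w₀ : G, w₀ ∉ Subgroup.center G ∧
      ∀ g : G, g * w₀ * g⁻¹ * w₀⁻¹ ∈ Subgroup.center G := by
    have hQnt : Nontrivial (G ⧸ Subgroup.center G) := by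
      refine ⟨⟨QuotientGroup.mk a₀, 1, ?_⟩⟩
      intro h
      rw [QuotientGroup.eq_one_iff] at h
      exact hab₀ ((Subgroup.mem_center_iff.mp h b₀).symm)
    have hQp : IsPGroup p (G ⧸ Subgroup.center G) := hGp.to_quotient _
    have hcnt : Nontrivial (Subgroup.center (G ⧸ Subgroup.center G)) := hQp.center_nontrivial
    obtain ⟨⟨c, hc⟩, hc1⟩ := exists_ne (1 : Subgroup.center (G ⧸ Subgroup.center G))
    obtain ⟨w, rfl⟩ := QuotientGroup.mk_surjective c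
    refine ⟨w, ?_, ?_⟩
    · intro hw
      apply hc1
      apply Subtype.ext
      show (QuotientGroup.mk w : G ⧸ Subgroup.center G) = 1
      rw [QuotientGroup.eq_one_iff]; exact hw
    · intro g
      rw [← QuotientGroup.eq_one_iff]
      have h1 := Subgroup.mem_center_iff.mp hc (QuotientGroup.mk g)
      show ((g * w * g⁻¹ * w⁻¹ : G) : G ⧸ Subgroup.center G) = 1
      rw [QuotientGroup.mk_mul, QuotientGroup.mk_mul, QuotientGroup.mk_mul, QuotientGroup.mk_inv,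
        QuotientGroup.mk_inv, h1]
      group
  have hcz : ∀ g h : G, h * (g * w₀ * g⁻¹ * w₀⁻¹) = (g * w₀ * g⁻¹ * w₀⁻¹) * h :=
    fun g h => Subgroup.mem_center_iff.mp (hw₀c g) h
  let φ : G →* Subgroup.center G :=
    { toFun := fun g => ⟨g * w₀ * g⁻¹ * w₀⁻¹, hw₀c g⟩
      map_one' := by
        apply Subtype.ext
        show (1 : G) * w₀ * (1 : G)⁻¹ * w₀⁻¹ = 1
        group
      map_mul' := by
        intro g g'
        apply Subtype.ext
        show (g * g') * w₀ * (g * g')⁻¹ * w₀⁻¹ =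
          (g * w₀ * g⁻¹ * w₀⁻¹) * (g' * w₀ * g'⁻¹ * w₀⁻¹)
        have h1 := hcz g' g
        calc (g * g') * w₀ * (g * g')⁻¹ * w₀⁻¹
            = (g * (g' * w₀ * g'⁻¹ * w₀⁻¹)) * (w₀ * g⁻¹ * w₀⁻¹) := by group
          _ = ((g' * w₀ * g'⁻¹ * w₀⁻¹) * g) * (w₀ * g⁻¹ * w₀⁻¹) := by rw [h1]
          _ = (g' * w₀ * g'⁻¹ * w₀⁻¹) * (g * w₀ * g⁻¹ * w₀⁻¹) := by group
          _ = (g * w₀ * g⁻¹ * w₀⁻¹) * (g' * w₀ * g'⁻¹ * w₀⁻¹) :=
            (hcz g' (g * w₀ * g⁻¹ * w₀⁻¹)).symm }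
  have hφv : ∀ g : G, ((φ g : Subgroup.center G) : G) = g * w₀ * g⁻¹ * w₀⁻¹ := fun g => rfl
  have hφ1 : ∀ g : G, φ g = 1 ↔ g * w₀ = w₀ * g := by
    intro g
    constructor
    · intro h
      have h1 : g * w₀ * g⁻¹ * w₀⁻¹ = 1 := congrArg Subtype.val h
      calc g * w₀ = (g * w₀ * g⁻¹ * w₀⁻¹) * (w₀ * g) := by group
        _ = w₀ * g := by rw [h1, one_mul]
    · intro h
      apply Subtype.ext
      show g * w₀ * g⁻¹ * w₀⁻¹ = 1
      rw [h]; group
  have hker_idx : φ.ker.index ≤ p := by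
    rw [Subgroup.index_ker]
    calc Nat.card φ.range ≤ Nat.card (Subgroup.center G) := Subgroup.card_le_card_group _
      _ = p := hZcard
  have hgen : ∀ ζ ∈ Subgroup.center G, ζ ≠ 1 → ∀ z ∈ Subgroup.center G, ∃ k : ℕ, ζ ^ k = z := by
    intro ζ hζ hζ1 z hz
    have h1 : Subgroup.zpowers (⟨ζ, hζ⟩ : Subgroup.center G) = ⊤ :=
      zpowers_eq_top_of_prime_card hZcard (by intro h; exact hζ1 (congrArg Subtype.val h))
    have h2 : (⟨z, hz⟩ : Subgroup.center G) ∈ Subgroup.zpowers (⟨ζ, hζ⟩ : Subgroup.center G) := by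
      rw [h1]; trivial
    rw [← mem_powers_iff_mem_zpowers, Submonoid.mem_powers_iff] at h2
    obtain ⟨k, hk⟩ := h2
    exact ⟨k, congrArg Subtype.val hk⟩
  -- `⟨u⟩ Z` has order at least `p²` for `u ∉ Z`
  have hU2 : ∀ u : G, u ∉ Subgroup.center G → ∀ i : ℕ,
      Nat.card ↥(Subgroup.zpowers u ⊔ Subgroup.center G) = p ^ i → 2 ≤ i := by
    intro u huZ i hi
    by_contra hcon
    have hZU : Subgroup.center G ≤ Subgroup.zpowers u ⊔ Subgroup.center G := le_sup_right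
    have : Subgroup.center G = Subgroup.zpowers u ⊔ Subgroup.center G :=
      Subgroup.eq_of_le_of_card_ge hZU (by
        rw [hi, hZcard]
        calc p ^ i ≤ p ^ 1 := Nat.pow_le_pow_right hp.pos (by omega)
          _ = p := pow_one p)
    apply huZ
    rw [this]
    exact (le_sup_left : Subgroup.zpowers u ≤ _) (Subgroup.mem_zpowers u)
  have gen : ∀ u ∈ E, ∀ v ∈ E, u ∉ Subgroup.center G →
      v ∉ Subgroup.zpowers u ⊔ Subgroup.center G →
      Subgroup.zpowers u ⊔ Subgroup.zpowers v ⊔ Subgroup.center G = E := by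
    intro u hu v hv huZ hvU
    have hUE : Subgroup.zpowers u ⊔ Subgroup.center G ≤ E :=
      sup_le (by rw [Subgroup.zpowers_le]; exact hu) hZE
    have hVE : Subgroup.zpowers u ⊔ Subgroup.zpowers v ⊔ Subgroup.center G ≤ E :=
      sup_le (sup_le (by rw [Subgroup.zpowers_le]; exact hu)
        (by rw [Subgroup.zpowers_le]; exact hv)) hZE
    have hUV : Subgroup.zpowers u ⊔ Subgroup.center G ≤
        Subgroup.zpowers u ⊔ Subgroup.zpowers v ⊔ Subgroup.center G :=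
      sup_le (le_sup_left.trans le_sup_left) le_sup_right
    obtain ⟨i, hi3, hi⟩ := (Nat.dvd_prime_pow hp).1 (hE ▸ Subgroup.card_dvd_of_le hUE)
    obtain ⟨l, hl3, hl⟩ := (Nat.dvd_prime_pow hp).1 (hE ▸ Subgroup.card_dvd_of_le hVE)
    have hi2 : 2 ≤ i := hU2 u huZ i hi
    have hl3' : 3 ≤ l := by
      by_contra hcon
      have : Subgroup.zpowers u ⊔ Subgroup.center G =
          Subgroup.zpowers u ⊔ Subgroup.zpowers v ⊔ Subgroup.center G :=
        Subgroup.eq_of_le_of_card_ge hUV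
          (by rw [hi, hl]; exact Nat.pow_le_pow_right hp.pos (by omega))
      apply hvU
      rw [this]
      exact (le_sup_left : Subgroup.zpowers u ⊔ Subgroup.zpowers v ≤ _)
        ((le_sup_right : Subgroup.zpowers v ≤ Subgroup.zpowers u ⊔ Subgroup.zpowers v)
          (Subgroup.mem_zpowers v))
    exact Subgroup.eq_of_le_of_card_ge hVE
      (by rw [hl, hE]; exact Nat.pow_le_pow_right hp.pos hl3')
  have comm_gen : ∀ u ∈ E, ∀ v ∈ E, u ∉ Subgroup.center G →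
      v ∉ Subgroup.zpowers u ⊔ Subgroup.center G → ∀ g : G, g * u = u * g → g * v = v * g →
      ∀ e ∈ E, e * g = g * e := by
    intro u hu v hv huZ hvU g hgu hgv e he
    have hle : E ≤ Subgroup.centralizer ({g} : Set G) := by
      rw [← gen u hu v hv huZ hvU]
      refine sup_le (sup_le ?_ ?_) (Subgroup.center_le_centralizer _)
      · rw [Subgroup.zpowers_le, Subgroup.mem_centralizer_iff]
        intro h hh
        rw [Set.mem_singleton_iff] at hh
        rw [hh]; exact hgu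
      · rw [Subgroup.zpowers_le, Subgroup.mem_centralizer_iff]
        intro h hh
        rw [Set.mem_singleton_iff] at hh
        rw [hh]; exact hgv
    have h1 := hle he
    rw [Subgroup.mem_centralizer_iff] at h1
    exact (h1 g (Set.mem_singleton g)).symm
  -- `⟨u⟩ Z` is commutative
  have hUab : ∀ u : G, ∀ a ∈ Subgroup.zpowers u ⊔ Subgroup.center G,
      ∀ b ∈ Subgroup.zpowers u ⊔ Subgroup.center G, a * b = b * a := by
    intro u a ha b hb
    have hUu : Subgroup.zpowers u ⊔ Subgroup.center G ≤ Subgroup.centralizer ({u} : Set G) := by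
      refine sup_le ?_ (Subgroup.center_le_centralizer _)
      rw [Subgroup.zpowers_le, Subgroup.mem_centralizer_iff]
      intro h hh
      rw [Set.mem_singleton_iff] at hh
      rw [hh]
    have hbu : u * b = b * u := (Subgroup.mem_centralizer_iff.mp (hUu hb)) u (Set.mem_singleton u)
    have hUb : Subgroup.zpowers u ⊔ Subgroup.center G ≤ Subgroup.centralizer ({b} : Set G) := by
      refine sup_le ?_ (Subgroup.center_le_centralizer _)
      rw [Subgroup.zpowers_le, Subgroup.mem_centralizer_iff]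
      intro h hh
      rw [Set.mem_singleton_iff] at hh
      rw [hh]; exact hbu.symm
    exact ((Subgroup.mem_centralizer_iff.mp (hUb ha)) b (Set.mem_singleton b)).symm
  -- an element `e₁` of `E` not commuting with `w₀`
  obtain ⟨e₁, he₁, hφe₁⟩ : ∃ e₁ ∈ E, φ e₁ ≠ 1 := by
    by_contra hcon
    push Not at hcon
    apply hw₀Z
    apply hF3
    intro e he
    exact (hφ1 e).1 (hcon e he)
  have he₁w : ¬ e₁ * w₀ = w₀ * e₁ := fun h => hφe₁ ((hφ1 e₁).2 h)
  have he₁Z : e₁ ∉ Subgroup.center G := by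
    intro h
    exact he₁w ((Subgroup.mem_center_iff.mp h w₀).symm)
  have hζZ : e₁ * w₀ * e₁⁻¹ * w₀⁻¹ ∈ Subgroup.center G := hw₀c e₁
  have hζ1 : e₁ * w₀ * e₁⁻¹ * w₀⁻¹ ≠ 1 := by
    intro h
    apply hφe₁
    apply Subtype.ext
    exact h
  -- an element `e₂` of `E` outside `⟨e₁⟩ Z`
  obtain ⟨e₂, he₂, he₂U⟩ : ∃ e₂ ∈ E, e₂ ∉ Subgroup.zpowers e₁ ⊔ Subgroup.center G := by
    by_contra hcon
    push Not at hcon
    exact hab₀ (hUab e₁ a₀ (hcon a₀ ha₀) b₀ (hcon b₀ hb₀))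
  obtain ⟨i, hi⟩ := hgen _ hζZ hζ1 _ (hw₀c e₂)
  -- `a := e₂ e₁⁻ⁱ` commutes with `w₀`
  have haE : e₂ * (e₁ ^ i)⁻¹ ∈ E := E.mul_mem he₂ (E.inv_mem (E.pow_mem he₁ i))
  have haw : (e₂ * (e₁ ^ i)⁻¹) * w₀ = w₀ * (e₂ * (e₁ ^ i)⁻¹) := by
    rw [← hφ1, map_mul, map_inv, map_pow]
    apply Subtype.ext
    show (e₂ * w₀ * e₂⁻¹ * w₀⁻¹) * ((e₁ * w₀ * e₁⁻¹ * w₀⁻¹) ^ i)⁻¹ = 1
    rw [hi]; group
  have haU : e₂ * (e₁ ^ i)⁻¹ ∉ Subgroup.zpowers e₁ ⊔ Subgroup.center G := by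
    intro h
    apply he₂U
    have h1 : e₁ ^ i ∈ Subgroup.zpowers e₁ ⊔ Subgroup.center G :=
      (le_sup_left : Subgroup.zpowers e₁ ≤ _) (Subgroup.pow_mem _ (Subgroup.mem_zpowers e₁) i)
    have h2 := Subgroup.mul_mem _ h h1
    have h3 : e₂ * (e₁ ^ i)⁻¹ * e₁ ^ i = e₂ := by group
    rwa [h3] at h2
  obtain ⟨a, haE', haw', haU'⟩ : ∃ a ∈ E, a * w₀ = w₀ * a ∧
      a ∉ Subgroup.zpowers e₁ ⊔ Subgroup.center G := ⟨_, haE, haw, haU⟩
  have hηZ : e₁ * a * e₁⁻¹ * a⁻¹ ∈ Subgroup.center G := hF2 e₁ he₁ a haE'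
  have hη1 : e₁ * a * e₁⁻¹ * a⁻¹ ≠ 1 := by
    intro h
    have hea : e₁ * a = a * e₁ := by
      calc e₁ * a = (e₁ * a * e₁⁻¹ * a⁻¹) * (a * e₁) := by group
        _ = a * e₁ := by rw [h, one_mul]
    have h1 := comm_gen e₁ he₁ a haE' he₁Z haU' a hea.symm rfl
    have h2 := hF3 a h1
    exact haU' ((le_sup_right : Subgroup.center G ≤ _) h2)
  obtain ⟨k, hk⟩ := hgen _ hηZ hη1 _ hζZ
  -- `w' := w₀ a⁻ᵏ` centralizes `E`
  have hζc : ∀ g : G, g * (e₁ * w₀ * e₁⁻¹ * w₀⁻¹) = (e₁ * w₀ * e₁⁻¹ * w₀⁻¹) * g :=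
    fun g => Subgroup.mem_center_iff.mp hζZ g
  have hηc : ∀ g : G, g * (e₁ * a * e₁⁻¹ * a⁻¹) = (e₁ * a * e₁⁻¹ * a⁻¹) * g :=
    fun g => Subgroup.mem_center_iff.mp hηZ g
  have h1 : e₁ * w₀ = (e₁ * w₀ * e₁⁻¹ * w₀⁻¹) * (w₀ * e₁) := by group
  have hconj : e₁ * a ^ k * e₁⁻¹ = (e₁ * w₀ * e₁⁻¹ * w₀⁻¹) * a ^ k := by
    have e1 : e₁ * a * e₁⁻¹ = (e₁ * a * e₁⁻¹ * a⁻¹) * a := by group
    have e2 : Commute (e₁ * a * e₁⁻¹ * a⁻¹) a := (hηc a).symm
    rw [← conj_pow, e1, e2.mul_pow, hk]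
  have h2 : (a ^ k)⁻¹ * e₁ = (e₁ * w₀ * e₁⁻¹ * w₀⁻¹) * (e₁ * (a ^ k)⁻¹) := by
    have e3 : e₁ * a ^ k = (e₁ * w₀ * e₁⁻¹ * w₀⁻¹) * a ^ k * e₁ := by
      calc e₁ * a ^ k = (e₁ * a ^ k * e₁⁻¹) * e₁ := by group
        _ = (e₁ * w₀ * e₁⁻¹ * w₀⁻¹) * a ^ k * e₁ := by rw [hconj]
    calc (a ^ k)⁻¹ * e₁ = (a ^ k)⁻¹ * (e₁ * a ^ k) * (a ^ k)⁻¹ := by group
      _ = (a ^ k)⁻¹ * ((e₁ * w₀ * e₁⁻¹ * w₀⁻¹) * a ^ k * e₁) * (a ^ k)⁻¹ := by rw [← e3]
      _ = ((a ^ k)⁻¹ * (e₁ * w₀ * e₁⁻¹ * w₀⁻¹)) * (a ^ k * e₁ * (a ^ k)⁻¹) := by group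
      _ = ((e₁ * w₀ * e₁⁻¹ * w₀⁻¹) * (a ^ k)⁻¹) * (a ^ k * e₁ * (a ^ k)⁻¹) := by rw [hζc]
      _ = (e₁ * w₀ * e₁⁻¹ * w₀⁻¹) * (e₁ * (a ^ k)⁻¹) := by group
  have hw'e : (w₀ * (a ^ k)⁻¹) * e₁ = e₁ * (w₀ * (a ^ k)⁻¹) := by
    have hL : e₁ * (w₀ * (a ^ k)⁻¹) = (e₁ * w₀ * e₁⁻¹ * w₀⁻¹) * (w₀ * e₁ * (a ^ k)⁻¹) := by
      group
    have hR : (w₀ * (a ^ k)⁻¹) * e₁ = (e₁ * w₀ * e₁⁻¹ * w₀⁻¹) * (w₀ * e₁ * (a ^ k)⁻¹) := by
      rw [mul_assoc, h2, ← mul_assoc w₀, hζc w₀]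
      group
    rw [hL, hR]
  have hw'a : (w₀ * (a ^ k)⁻¹) * a = a * (w₀ * (a ^ k)⁻¹) := by
    have c1 : Commute a w₀ := haw'
    have c2 : Commute a ((a ^ k)⁻¹) := ((Commute.refl a).pow_right k).inv_right
    exact (c1.mul_right c2).symm
  have hw'Z : w₀ * (a ^ k)⁻¹ ∈ Subgroup.center G :=
    hF3 _ (comm_gen e₁ he₁ a haE' he₁Z haU' _ hw'e hw'a)
  have hw₀E : w₀ ∈ E := by
    have h3 := E.mul_mem (hZE hw'Z) (E.pow_mem haE' k)
    have h4 : w₀ * (a ^ k)⁻¹ * a ^ k = w₀ := by group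
    rwa [h4] at h3
  -- the centralizer of `x := e₁`
  refine ⟨e₁, hexp e₁ he₁, ?_⟩
  have he₁W : e₁ ∉ Subgroup.zpowers w₀ ⊔ Subgroup.center G := by
    intro h
    have hle : Subgroup.zpowers w₀ ⊔ Subgroup.center G ≤ Subgroup.centralizer ({w₀} : Set G) := by
      refine sup_le ?_ (Subgroup.center_le_centralizer _)
      rw [Subgroup.zpowers_le, Subgroup.mem_centralizer_iff]
      intro h hh
      rw [Set.mem_singleton_iff] at hh
      rw [hh]
    have h5 := (Subgroup.mem_centralizer_iff.mp (hle h)) w₀ (Set.mem_singleton w₀)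
    exact he₁w h5.symm
  have hD : φ.ker ⊓ Subgroup.centralizer ({e₁} : Set G) ≤ Subgroup.center G := by
    intro g hg
    have hg' := Subgroup.mem_inf.mp hg
    have hgw : g * w₀ = w₀ * g := (hφ1 g).1 (MonoidHom.mem_ker.mp hg'.1)
    have hge : g * e₁ = e₁ * g :=
      ((Subgroup.mem_centralizer_iff.mp hg'.2) e₁ (Set.mem_singleton e₁)).symm
    exact hF3 g (comm_gen w₀ hw₀E e₁ he₁ hw₀Z he₁W g hgw hge)
  have hDcard : Nat.card ↥(φ.ker ⊓ Subgroup.centralizer ({e₁} : Set G)) ≤ p := by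
    calc Nat.card ↥(φ.ker ⊓ Subgroup.centralizer ({e₁} : Set G))
        ≤ Nat.card (Subgroup.center G) := Subgroup.card_le_of_le hD
      _ = p := hZcard
  have hrel : φ.ker.relIndex (Subgroup.centralizer ({e₁} : Set G)) ≤ p := by
    have hdvd := Subgroup.relIndex_dvd_index_of_normal φ.ker (Subgroup.centralizer ({e₁} : Set G))
    have hpos : 0 < φ.ker.index := Nat.pos_of_ne_zero (Subgroup.index_ne_zero_of_finite)
    exact (Nat.le_of_dvd hpos hdvd).trans hker_idx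
  have hprod : Nat.card ↥(φ.ker ⊓ Subgroup.centralizer ({e₁} : Set G)) *
      φ.ker.relIndex (Subgroup.centralizer ({e₁} : Set G)) =
      Nat.card ↥(Subgroup.centralizer ({e₁} : Set G)) := by
    have h6 := Subgroup.relIndex_mul_relIndex (⊥ : Subgroup G)
      (φ.ker ⊓ Subgroup.centralizer ({e₁} : Set G)) (Subgroup.centralizer ({e₁} : Set G))
      bot_le inf_le_right
    rw [Subgroup.relIndex_bot_left, Subgroup.relIndex_bot_left, Subgroup.inf_relIndex_right] at h6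
    exact h6
  have hle2 : Nat.card ↥(Subgroup.centralizer ({e₁} : Set G)) ≤ p ^ 2 := by
    rw [← hprod, pow_two]
    exact Nat.mul_le_mul hDcard hrel
  obtain ⟨l, hln, hl⟩ := (Nat.dvd_prime_pow hp).1
    (hG ▸ Subgroup.card_subgroup_dvd_card (Subgroup.centralizer ({e₁} : Set G)))
  have hUC : Subgroup.zpowers e₁ ⊔ Subgroup.center G ≤ Subgroup.centralizer ({e₁} : Set G) := by
    refine sup_le ?_ (Subgroup.center_le_centralizer _)
    rw [Subgroup.zpowers_le, Subgroup.mem_centralizer_iff]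
    intro h hh
    rw [Set.mem_singleton_iff] at hh
    rw [hh]
  obtain ⟨i', hi'l, hi'⟩ := (Nat.dvd_prime_pow hp).1 (hl ▸ Subgroup.card_dvd_of_le hUC)
  have hi'2 : 2 ≤ i' := hU2 e₁ he₁Z i' hi'
  have hl2 : l ≤ 2 := by
    rw [hl] at hle2
    exact (Nat.pow_le_pow_iff_right hp.one_lt).1 hle2
  have : l = 2 := by omega
  rw [hl, this]

end Cfsg.Agent.Lib.helper88.PearlF
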