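import Mathlib
import Cfsg.Prelude.Def_GeometricClasses

/-!
# Piece KAPPA of block C of S5977 / S5978 (racer copy): a generator `κ` of a quadratic field
subalgebra with `κ² = δ` a non-square scalar
-/

set_option autoImplicit false

namespace Cfsg.Agent.Lib.helper2

open Cfsg.Geo Matrix

/-- KAPPA (racer copy, verbatim statement of `qfc_kappa`). -/
theorem h34_qfc_kappa {F : Type*} [Field F] {ι : Type} [Fintype ι] [DecidableEq ι]
    (h2 : (2 : F) ≠ 0) (K : Subalgebra F (Matrix ι ι F)) (hK : IsFieldSubalgebra 2 K) :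
    ∃ κ ∈ K, ∃ δ : F, (∀ r : F, r ^ 2 ≠ δ + 0 * r) ∧ κ * κ = δ • (1 : Matrix ι ι F) ∧
      ∀ k ∈ K, ∃ a b : F, k = a • (1 : Matrix ι ι F) + b • κ := by
  classical
  have hfr : Module.finrank F K = 2 := hK.finrank_eq
  have hfin : Module.Finite F K := Module.finite_of_finrank_pos (by rw [hfr]; norm_num)
  -- an element of `K` that is not a scalar
  obtain ⟨k₀, hk₀⟩ : ∃ k₀ : K, ∀ a : F, a • (1 : K) ≠ k₀ := by
    by_contra hcon
    push Not at hcon
    have := finrank_le_one (1 : K) hcon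
    omega
  have hli : LinearIndependent F ![k₀, (1 : K)] := by
    rw [linearIndependent_fin2]
    refine ⟨?_, fun a => ?_⟩
    · intro h1
      have h1' : (1 : K) = 0 := h1
      refine hk₀ 0 ?_
      rw [zero_smul]
      calc (0 : K) = k₀ * 0 := (mul_zero _).symm
        _ = k₀ * 1 := by rw [h1']
        _ = k₀ := mul_one _
    · exact hk₀ a
  have hspan := hli.span_eq_top_of_card_eq_finrank' (by simp [hfr])
  have hrep : ∀ k : K, ∃ a b : F, k = a • (1 : K) + b • k₀ := by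
    intro k
    have hk : k ∈ Submodule.span F (Set.range ![k₀, (1 : K)]) := by rw [hspan]; trivial
    rw [Matrix.range_cons_cons_empty, Submodule.mem_span_pair] at hk
    obtain ⟨b, a, hab⟩ := hk
    exact ⟨a, b, by rw [← hab, add_comm]⟩
  -- matrix level
  have hκ₀K : (k₀ : Matrix ι ι F) ∈ K := k₀.2
  have hns : ∀ a : F, a • (1 : Matrix ι ι F) ≠ (k₀ : Matrix ι ι F) := by
    intro a ha
    exact hk₀ a (Subtype.ext (by simpa using ha))
  have hrepM : ∀ k ∈ K, ∃ a b : F, k = a • (1 : Matrix ι ι F) + b • (k₀ : Matrix ι ι F) := by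
    intro k hk
    obtain ⟨a, b, hab⟩ := hrep ⟨k, hk⟩
    refine ⟨a, b, ?_⟩
    have := congrArg Subtype.val hab
    simpa using this
  obtain ⟨t, s, hts⟩ := hrepM _ (K.mul_mem hκ₀K hκ₀K)
  set κ₀ : Matrix ι ι F := (k₀ : Matrix ι ι F) with hκ₀
  obtain ⟨c, hc⟩ : ∃ c : F, s = c + c := ⟨s / 2, by field_simp; ring⟩
  rw [hc] at hts
  have hκK : κ₀ - c • (1 : Matrix ι ι F) ∈ K := K.sub_mem hκ₀K (K.smul_mem K.one_mem c)
  have hsq : (κ₀ - c • (1 : Matrix ι ι F)) * (κ₀ - c • (1 : Matrix ι ι F)) =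
      (t + c * c) • (1 : Matrix ι ι F) := by
    have e1 : (κ₀ - c • (1 : Matrix ι ι F)) * (κ₀ - c • (1 : Matrix ι ι F)) =
        κ₀ * κ₀ - c • κ₀ - (c • κ₀ - (c * c) • (1 : Matrix ι ι F)) := by
      simp only [sub_mul, mul_sub, mul_smul_comm, smul_mul_assoc, mul_one, one_mul]
      module
    rw [e1, hts]
    module
  refine ⟨κ₀ - c • (1 : Matrix ι ι F), hκK, t + c * c, ?_, hsq, ?_⟩
  · intro r hr
    have hr' : r * r = t + c * c := by rw [← pow_two, hr]; ring
    have hxK : κ₀ - c • (1 : Matrix ι ι F) - r • (1 : Matrix ι ι F) ∈ K :=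
      K.sub_mem hκK (K.smul_mem K.one_mem r)
    have hyK : κ₀ - c • (1 : Matrix ι ι F) + r • (1 : Matrix ι ι F) ∈ K :=
      K.add_mem hκK (K.smul_mem K.one_mem r)
    have hxy : (κ₀ - c • (1 : Matrix ι ι F) - r • (1 : Matrix ι ι F)) *
        (κ₀ - c • (1 : Matrix ι ι F) + r • (1 : Matrix ι ι F)) = 0 := by
      have e2 : (κ₀ - c • (1 : Matrix ι ι F) - r • (1 : Matrix ι ι F)) *
          (κ₀ - c • (1 : Matrix ι ι F) + r • (1 : Matrix ι ι F)) =
          (κ₀ - c • (1 : Matrix ι ι F)) * (κ₀ - c • (1 : Matrix ι ι F)) -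
            (r * r) • (1 : Matrix ι ι F) := by
        simp only [sub_mul, mul_sub, mul_add, mul_smul_comm, smul_mul_assoc, mul_one, one_mul]
        module
      rw [e2, hsq, hr', sub_self]
    by_cases hx0 : κ₀ - c • (1 : Matrix ι ι F) - r • (1 : Matrix ι ι F) = 0
    · refine hns (c + r) ?_
      have : κ₀ = c • (1 : Matrix ι ι F) + r • (1 : Matrix ι ι F) := by
        have h3 := sub_eq_zero.mp hx0
        have h4 := sub_eq_iff_eq_add.mp h3
        rw [h4]; module
      rw [this, add_smul]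
    · obtain ⟨z, hzK, hz⟩ := hK.inv _ hxK hx0
      have hcomm := hK.comm _ hxK _ hzK
      have hy0 : κ₀ - c • (1 : Matrix ι ι F) + r • (1 : Matrix ι ι F) = 0 := by
        calc κ₀ - c • (1 : Matrix ι ι F) + r • (1 : Matrix ι ι F)
            = 1 * (κ₀ - c • (1 : Matrix ι ι F) + r • (1 : Matrix ι ι F)) := (one_mul _).symm
          _ = z * ((κ₀ - c • (1 : Matrix ι ι F) - r • (1 : Matrix ι ι F)) *
                (κ₀ - c • (1 : Matrix ι ι F) + r • (1 : Matrix ι ι F))) := by
              rw [← mul_assoc, ← hcomm, hz]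
          _ = 0 := by rw [hxy, mul_zero]
      refine hns (c - r) ?_
      have : κ₀ = c • (1 : Matrix ι ι F) - r • (1 : Matrix ι ι F) := by
        have h3 := add_eq_zero_iff_eq_neg.mp hy0
        have h4 := sub_eq_iff_eq_add.mp h3
        rw [h4]; module
      rw [this, sub_smul]
  · intro k hk
    obtain ⟨a, b, hab⟩ := hrepM k hk
    refine ⟨a + b * c, b, ?_⟩
    rw [hab]
    module

end Cfsg.Agent.Lib.helper2
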