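/-
helper34 shared library: `5 × 5` matrices over `ZMod 2` as 25-bit codes (entry `(i, j)` is bit
`5 * i + j`), with a kernel-friendly product, and the embedding of an enumerated permutation
group into `SL(5, 2)` given by a table of codes.
-/
import Cfsg.Agent.Lib.helper34.GolayEnumFast
import Cfsg.Prelude.Def_Solvable

set_option autoImplicit false

namespace Cfsg.Agent.Lib.helper34

open Cfsg

/-- Bit `s` of `c`, as a number. -/
def tbit (c s : ℕ) : ℕ := Nat.land (Nat.shiftRight c s) (nat_lit 1)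

/-- The Boolean-to-`ZMod 2` map. -/
def bz (β : Bool) : ZMod 2 := if β then 1 else 0

theorem bz_xor (p q : Bool) : bz (xor p q) = bz p + bz q := by
  revert p q; decide

theorem bz_and (p q : Bool) : bz (p && q) = bz p * bz q := by
  revert p q; decide

theorem bz_inj {p q : Bool} (h : bz p = bz q) : p = q := by
  revert p q; decide

/-- The matrix of a code. -/
def m5 (c : ℕ) : Matrix (Fin 5) (Fin 5) (ZMod 2) :=
  Matrix.of fun i j => bz (c.testBit (5 * i.1 + j.1))

/-- Row `i` of the product `a * b`, the offsets `s0 … s4` being the bit positions of row `i`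
of `a`. -/
def mrow (a b s0 s1 s2 s3 s4 : ℕ) : ℕ :=
  Nat.xor (Nat.mul (tbit a s0) (dg b 0))
    (Nat.xor (Nat.mul (tbit a s1) (dg b 5))
      (Nat.xor (Nat.mul (tbit a s2) (dg b 10))
        (Nat.xor (Nat.mul (tbit a s3) (dg b 15)) (Nat.mul (tbit a s4) (dg b 20)))))

/-- The code of the product of two matrices. -/
def mul5 (a b : ℕ) : ℕ :=
  Nat.lor (mrow a b 0 1 2 3 4)
    (Nat.lor (Nat.shiftLeft (mrow a b 5 6 7 8 9) 5)
      (Nat.lor (Nat.shiftLeft (mrow a b 10 11 12 13 14) 10)
        (Nat.lor (Nat.shiftLeft (mrow a b 15 16 17 18 19) 15)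
          (Nat.shiftLeft (mrow a b 20 21 22 23 24) 20))))

theorem tbit_eq (c s : ℕ) : tbit c s = (c.testBit s).toNat := by
  show (c >>> s) &&& 1 = _
  rw [Nat.and_one_is_mod, Nat.toNat_testBit, Nat.shiftRight_eq_div_pow]

theorem dg_testBit (b t j : ℕ) : (dg b t).testBit j = (decide (j < 5) && b.testBit (t + j)) := by
  show ((b >>> t) &&& 31).testBit j = _
  rw [Nat.testBit_and, Nat.testBit_shiftRight, show (31 : ℕ) = 2 ^ 5 - 1 from rfl,
    Nat.testBit_two_pow_sub_one, Bool.and_comm]

theorem term_testBit (a b s t j : ℕ) : (Nat.mul (tbit a s) (dg b t)).testBit j =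
    (decide (j < 5) && (a.testBit s && b.testBit (t + j))) := by
  rw [tbit_eq]
  cases a.testBit s
  · show (0 * dg b t).testBit j = _
    simp
  · show (1 * dg b t).testBit j = _
    rw [Nat.one_mul, dg_testBit]
    simp

theorem testBit_nxor (x y i : ℕ) :
    (Nat.xor x y).testBit i = xor (x.testBit i) (y.testBit i) := Nat.testBit_xor x y i

theorem testBit_nlor (x y i : ℕ) :
    (Nat.lor x y).testBit i = (x.testBit i || y.testBit i) := Nat.testBit_or x y i

theorem testBit_nshl (x s i : ℕ) :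
    (Nat.shiftLeft x s).testBit i = (decide (s ≤ i) && x.testBit (i - s)) := by
  show (x <<< s).testBit i = _
  rw [Nat.testBit_shiftLeft]

theorem mrow_testBit (a b s0 s1 s2 s3 s4 j : ℕ) : (mrow a b s0 s1 s2 s3 s4).testBit j =
    (decide (j < 5) && xor (a.testBit s0 && b.testBit (0 + j))
      (xor (a.testBit s1 && b.testBit (5 + j)) (xor (a.testBit s2 && b.testBit (10 + j))
        (xor (a.testBit s3 && b.testBit (15 + j)) (a.testBit s4 && b.testBit (20 + j)))))) := by
  unfold mrow
  simp only [testBit_nxor, term_testBit]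
  cases decide (j < 5) <;> simp

theorem mul5_testBit (a b : ℕ) (i j : Fin 5) : (mul5 a b).testBit (5 * i.1 + j.1) =
    xor (a.testBit (5 * i.1 + 0) && b.testBit (5 * 0 + j.1))
      (xor (a.testBit (5 * i.1 + 1) && b.testBit (5 * 1 + j.1))
        (xor (a.testBit (5 * i.1 + 2) && b.testBit (5 * 2 + j.1))
          (xor (a.testBit (5 * i.1 + 3) && b.testBit (5 * 3 + j.1))
            (a.testBit (5 * i.1 + 4) && b.testBit (5 * 4 + j.1))))) := by
  unfold mul5
  simp only [testBit_nlor, testBit_nshl, mrow_testBit]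
  fin_cases i <;> fin_cases j <;> simp

theorem m5_mul (a b : ℕ) : m5 (mul5 a b) = m5 a * m5 b := by
  ext i j
  rw [Matrix.mul_apply, Fin.sum_univ_five]
  simp only [m5, Matrix.of_apply]
  rw [mul5_testBit, bz_xor, bz_xor, bz_xor, bz_xor, bz_and, bz_and, bz_and, bz_and, bz_and]
  simp only [add_assoc]
  rfl

/-- The code of the identity matrix. -/
def one5 : ℕ := 17043521

/-- The code of the transvection `1 + E₀₁`. -/
def ts5 : ℕ := 17043523

theorem m5_one : m5 one5 = 1 := by
  have h : ∀ i j : Fin 5, one5.testBit (5 * i.1 + j.1) = decide (i = j) := by decide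
  ext i j
  simp only [m5, Matrix.of_apply, h, Matrix.one_apply, bz]
  by_cases e : i = j <;> simp [e]

theorem m5_ts : m5 ts5 = Matrix.transvection 0 1 1 := by
  have h : ∀ i j : Fin 5, ts5.testBit (5 * i.1 + j.1) =
      (decide (i = j) || (decide (i = 0) && decide (j = 1))) := by decide
  ext i j
  simp only [m5, Matrix.of_apply, h, Matrix.transvection, Matrix.add_apply, Matrix.one_apply, bz]
  fin_cases i <;> fin_cases j <;> simp [Matrix.single]

theorem m5_inj {a b : ℕ} (ha : a < 2 ^ 25) (hb : b < 2 ^ 25) (h : m5 a = m5 b) : a = b := by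
  apply Nat.eq_of_testBit_eq
  intro m
  by_cases hm : m < 25
  · have h1 := congrFun (congrFun h ⟨m / 5, by omega⟩) ⟨m % 5, Nat.mod_lt _ (by norm_num)⟩
    simp only [m5, Matrix.of_apply] at h1
    have h2 := bz_inj h1
    have e : 5 * (m / 5) + m % 5 = m := Nat.div_add_mod m 5
    rw [e] at h2
    exact h2
  · have h25 : 2 ^ 25 ≤ 2 ^ m := Nat.pow_le_pow_right (by norm_num) (by omega)
    rw [Nat.testBit_lt_two_pow (lt_of_lt_of_le ha h25),
      Nat.testBit_lt_two_pow (lt_of_lt_of_le hb h25)]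

theorem det_m5_of_mul {a b : ℕ} (h : mul5 a b = one5) : (m5 a).det = 1 := by
  have h1 : m5 a * m5 b = 1 := by rw [← m5_mul, h, m5_one]
  have h2 := congrArg Matrix.det h1
  rw [Matrix.det_mul, Matrix.det_one] at h2
  have h3 : ∀ x y : ZMod 2, x * y = 1 → x = 1 := by decide
  exact h3 _ _ h2

/-- 25-bit entry `i` of a packed table of codes. -/
def cd25 (C i : ℕ) : ℕ :=
  Nat.land (Nat.shiftRight C (Nat.mul (nat_lit 25) i)) (nat_lit 33554431)

theorem cd25_lt (C i : ℕ) : cd25 C i < 2 ^ 25 := by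
  show (C >>> (25 * i)) &&& 33554431 < 2 ^ 25
  exact lt_of_le_of_lt Nat.and_le_right (by norm_num)

/-- The element of `SL(5, 2)` of a code (the identity when the determinant is not `1`). -/
noncomputable def mkS (c : ℕ) : Matrix.SpecialLinearGroup (Fin 5) (ZMod 2) :=
  if h : (m5 c).det = 1 then ⟨m5 c, h⟩ else 1

theorem mkS_val {c : ℕ} (h : (m5 c).det = 1) : (mkS c).1 = m5 c := by
  have e : mkS c = ⟨m5 c, h⟩ := dif_pos h
  rw [e]

namespace EnumOK

variable {T : Subgroup (Equiv.Perm GolayPt)} {E Gc Tc Rt n k r : ℕ}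

/-- Induction along right multiplication by the generators. -/
theorem induction (h : EnumOK T E Gc Tc Rt n k r) (P : ℕ → Prop) (h1 : P r)
    (h2 : ∀ i < n, ∀ s < k, P i → P (rtab Rt k i s)) : ∀ i < n, P i := by
  have key : ∀ d, ∀ i < n, eDepth (certEntry Tc i) = d → P i := by
    intro d
    induction d using Nat.strong_induction_on with
    | _ d ih =>
      intro i hi hd
      have hi' := allBelow_spec h.tree i hi
      unfold treeOK at hi'
      cases h0 : Nat.beq (eDepth (certEntry Tc i)) 0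
      · rw [h0] at hi'
        simp only [cond_false, Bool.and_eq_true] at hi'
        obtain ⟨e1, e2, e3, e4⟩ := hi'
        rw [Nat.blt_eq] at e1 e2 e3
        obtain ⟨x', -, hx'⟩ := h.exists_rep _ e1
        obtain ⟨s, -, hs⟩ := h.gens _ e3
        have ih1 := ih _ (hd ▸ e2) _ e1 rfl
        obtain ⟨l3, c3⟩ := h.rt_spec e1 e3
        have e6 := h.index_inj l3 hi (hx'.mul hs c3) (hx'.mul hs e4)
        rw [← e6]
        exact h2 _ e1 _ e3 ih1
      · rw [h0] at hi'
        simp only [cond_true] at hi'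
        rw [Nat.eq_of_beq_eq_true hi']
        exact h1
  intro i hi
  exact key _ i hi rfl

/-- The embedding into `SL(5, 2)` of an enumerated group, from a table of codes compatible with
right multiplication by the generators. -/
theorem sl5_embedding (h : EnumOK T E Gc Tc Rt n k r) (cc gc : ℕ → ℕ)
    (hr : cc r = one5)
    (hg : ∀ s < k, ∃ b, mul5 (gc s) b = one5)
    (hm : ∀ i < n, ∀ s < k, cc (rtab Rt k i s) = mul5 (cc i) (gc s))
    (hlt : ∀ i < n, cc i < 2 ^ 25)
    (hinj : ∀ i < n, cc i = one5 → i = r)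
    (hcomm : ∀ i < n, mul5 (cc i) ts5 = mul5 ts5 (cc i))
    (t : Matrix.SpecialLinearGroup (Fin 5) (ZMod 2))
    (ht : (t : Matrix (Fin 5) (Fin 5) (ZMod 2)) = Matrix.transvection 0 1 1) :
    ∃ Φ : ↥T →* Matrix.SpecialLinearGroup (Fin 5) (ZMod 2), Function.Injective Φ ∧
      ∀ g, Φ g ∈ Subgroup.centralizer ({t} : Set (Matrix.SpecialLinearGroup (Fin 5) (ZMod 2))) := by
  have hgd : ∀ s < k, (m5 (gc s)).det = 1 := by
    intro s hs
    obtain ⟨b, hb⟩ := hg s hs
    exact det_m5_of_mul hb
  have hdet : ∀ i < n, (m5 (cc i)).det = 1 := by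
    apply h.induction
    · rw [hr, m5_one, Matrix.det_one]
    · intro i hi s hs hP
      rw [hm i hi s hs, m5_mul, Matrix.det_mul, hP, hgd s hs, one_mul]
  have h1 : mkS (cc r) = 1 := by
    apply Subtype.ext
    rw [mkS_val (hdet r h.rlt), hr, m5_one]
    rfl
  have h2 : ∀ i < n, ∀ s < k, mkS (cc (rtab Rt k i s)) = mkS (cc i) * mkS (gc s) := by
    intro i hi s hs
    obtain ⟨l, -⟩ := h.rt_spec hi hs
    apply Subtype.ext
    rw [mkS_val (hdet _ l), hm i hi s hs, m5_mul]
    show _ = (mkS (cc i)).1 * (mkS (gc s)).1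
    rw [mkS_val (hdet i hi), mkS_val (hgd s hs)]
  refine ⟨h.hom (fun i => mkS (cc i)) (fun s => mkS (gc s)) h1 h2, ?_, ?_⟩
  · rw [injective_iff_map_eq_one]
    intro g hg1
    rw [hom_apply] at hg1
    obtain ⟨l, rr⟩ := h.ix_spec g.2
    have e1 := congrArg Subtype.val hg1
    rw [mkS_val (hdet _ l)] at e1
    have e2 : m5 (cc (ix E n g.1)) = m5 one5 := by
      rw [e1, m5_one]
      rfl
    have e3 := hinj _ l (m5_inj (hlt _ l) (by norm_num [one5]) e2)
    rw [e3] at rr
    exact Subtype.ext (rr.eq_one h.root)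
  · intro g
    rw [Subgroup.mem_centralizer_singleton_iff]
    obtain ⟨l, -⟩ := h.ix_spec g.2
    rw [hom_apply]
    apply Subtype.ext
    show (mkS (cc (ix E n g.1))).1 * t.1 = t.1 * (mkS (cc (ix E n g.1))).1
    have ht' : t.1 = m5 ts5 := by rw [m5_ts]; exact ht
    rw [mkS_val (hdet _ l), ht', ← m5_mul, ← m5_mul, hcomm _ l]

end EnumOK

/-- The order of a group with a complement to its largest normal `2`-subgroup is at most the
product of the orders. -/
theorem card_le_of_pCore_sup {G : Type*} [Group G] [Finite G] (C K : Subgroup G) (hK : K ≤ C)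
    (h : (Cfsg.pCore 2 ↥C).map C.subtype ⊔ K = C) :
    Nat.card ↥C ≤ Nat.card ↥((Cfsg.pCore 2 ↥C).map C.subtype) * Nat.card ↥K := by
  have : (Cfsg.pCore 2 ↥C).Normal := Subgroup.sSup_normal _ (fun _ h => h.1)
  have h1 : Cfsg.pCore 2 ↥C ⊔ K.subgroupOf C = ⊤ := by
    apply Subgroup.map_injective C.subtype_injective
    rw [Subgroup.map_sup, Subgroup.map_subgroupOf_eq_of_le hK, h, ← MonoidHom.range_eq_map,
      Subgroup.range_subtype]
  have h2 : Function.Surjective
      (fun p : ↥(Cfsg.pCore 2 ↥C) × ↥(K.subgroupOf C) => (p.1 : ↥C) * p.2) := by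
    intro c
    have hc : c ∈ (↑(Cfsg.pCore 2 ↥C ⊔ K.subgroupOf C) : Set ↥C) := by
      rw [h1]
      trivial
    rw [Subgroup.normal_mul] at hc
    obtain ⟨a, ha, b, hb, e⟩ := Set.mem_mul.1 hc
    exact ⟨(⟨a, ha⟩, ⟨b, hb⟩), e⟩
  have h3 := Nat.card_le_card_of_surjective _ h2
  rw [Nat.card_prod] at h3
  rw [← Nat.card_congr ((Cfsg.pCore 2 ↥C).equivMapOfInjective C.subtype
    C.subtype_injective).toEquiv, ← Nat.card_congr (Subgroup.subgroupOfEquivOfLe hK).toEquiv]
  exact h3

end Cfsg.Agent.Lib.helper34
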