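import Mathlib
import Cfsg.Prelude.Def_Classical
import Cfsg.Prelude.Def_GeometricClasses

/-!
# Piece KAPPAJ of block A of S5977 / S5978 (racer copy): a self-adjoint square root of `δ`
anticommuting with an isometry `x` with `x * x = -1`
-/

set_option autoImplicit false

namespace Cfsg.Agent.Lib.helper59.Sfk

open Matrix Cfsg.Geo

/-- In a finite field with `2 ≠ 0` every element is a sum of two squares. -/
theorem h34_two_sq {F : Type*} [Field F] [Fintype F] (h2 : (2 : F) ≠ 0) (t : F) :
    ∃ x y : F, x ^ 2 + y ^ 2 = t := by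
  classical
  have hchar : ringChar F ≠ 2 := by
    intro h
    apply h2
    have := CharP.cast_eq_zero F (ringChar F)
    rw [h] at this
    exact_mod_cast this
  have hf : (Polynomial.X ^ 2 - Polynomial.C t : Polynomial F).degree = 2 :=
    Polynomial.degree_X_pow_sub_C (by norm_num) _
  have hg : (Polynomial.X ^ 2 : Polynomial F).degree = 2 := Polynomial.degree_X_pow 2
  obtain ⟨x, y, hxy⟩ := FiniteField.exists_root_sum_quadratic hf hg
    (FiniteField.odd_card_of_char_ne_two hchar)
  refine ⟨x, y, ?_⟩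
  simp at hxy
  linear_combination hxy

/-- KAPPAJ (racer copy, verbatim statement of `sfk_kappa_neg`). -/
theorem h34_sfk_kappa_neg {F : Type*} [Field F] [Fintype F] {ι : Type} [Fintype ι] [DecidableEq ι]
    (h2 : (2 : F) ≠ 0) (Q : QuadraticForm F (ι → F))
    (hQ : (QuadraticMap.polarBilin Q).Nondegenerate) (δ : F)
    (x : GL ι F) (hx : x ∈ Cfsg.isometryGroup F (⇑Q))
    (hxx : (x : Matrix ι ι F) * (x : Matrix ι ι F) = -1)
    (m : ℕ) (e : Fin m → (ι → F))
    (hli : LinearIndependent F (Sum.elim e (fun i => (x : Matrix ι ι F) *ᵥ e i)))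
    (hcard : Fintype.card ι = 2 * m)
    (ho1 : ∀ i j, i ≠ j → QuadraticMap.polar (⇑Q) (e i) (e j) = 0)
    (ho2 : ∀ i j, QuadraticMap.polar (⇑Q) (e i) ((x : Matrix ι ι F) *ᵥ e j) = 0)
    (hne : ∀ i, Q (e i) ≠ 0) :
    ∃ (κ' : Matrix ι ι F) (α β : F), κ' * κ' = δ • (1 : Matrix ι ι F) ∧
      (∀ u v : ι → F, QuadraticMap.polar (⇑Q) (κ' *ᵥ u) v = QuadraticMap.polar (⇑Q) u (κ' *ᵥ v)) ∧
      (x : Matrix ι ι F) * κ' = -(κ' * (x : Matrix ι ι F)) ∧
      ∀ i, κ' *ᵥ e i = α • e i + β • ((x : Matrix ι ι F) *ᵥ e i) := by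
  classical
  obtain ⟨α, β, hαβ⟩ := h34_two_sq h2 δ
  set X : Matrix ι ι F := (x : Matrix ι ι F) with hX
  have hQx : ∀ v, Q (X *ᵥ v) = Q v := fun v => hx v v
  have hBx : ∀ u v, QuadraticMap.polarBilin Q (X *ᵥ u) (X *ᵥ v) = QuadraticMap.polarBilin Q u v := by
    intro u v
    simp only [QuadraticMap.polarBilin_apply_apply, QuadraticMap.polar, ← Matrix.mulVec_add, hQx]
  have hB1 : ∀ i j, QuadraticMap.polarBilin Q (e i) (X *ᵥ e j) = 0 := fun i j => by
    rw [QuadraticMap.polarBilin_apply_apply]; exact ho2 i j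
  have hB2 : ∀ i j, QuadraticMap.polarBilin Q (X *ᵥ e i) (e j) = 0 := fun i j => by
    rw [QuadraticMap.polarBilin_apply_apply, QuadraticMap.polar_comm]; exact ho2 j i
  have hxxv : ∀ v, X *ᵥ (X *ᵥ v) = -v := by
    intro v
    rw [Matrix.mulVec_mulVec, hxx, Matrix.neg_mulVec, Matrix.one_mulVec]
  -- the basis `e_1, .., e_m, x e_1, .., x e_m`
  have hcard' : Fintype.card (Fin m ⊕ Fin m) = Module.finrank F (ι → F) := by
    rw [Module.finrank_fintype_fun_eq_card, hcard, Fintype.card_sum, Fintype.card_fin, two_mul]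
  have hspan := hli.span_eq_top_of_card_eq_finrank' hcard'
  let b : Module.Basis (Fin m ⊕ Fin m) F (ι → F) := Module.Basis.mk hli hspan.ge
  have hb : ∀ s, b s = Sum.elim e (fun i => X *ᵥ e i) s := fun s => by
    simp [b]
  let f : Fin m ⊕ Fin m → (ι → F) :=
    Sum.elim (fun i => α • e i + β • (X *ᵥ e i)) (fun i => β • e i - α • (X *ᵥ e i))
  let T : (ι → F) →ₗ[F] (ι → F) := b.constr F f
  have hTl : ∀ i, T (e i) = α • e i + β • (X *ᵥ e i) := by
    intro i
    have := b.constr_basis F f (Sum.inl i)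
    rw [hb] at this
    simpa [T, f] using this
  have hTr : ∀ i, T (X *ᵥ e i) = β • e i - α • (X *ᵥ e i) := by
    intro i
    have := b.constr_basis F f (Sum.inr i)
    rw [hb] at this
    simpa [T, f] using this
  have hκv : ∀ v, LinearMap.toMatrix' T *ᵥ v = T v := by
    intro v
    rw [← Matrix.toLin'_apply, Matrix.toLin'_toMatrix']
  refine ⟨LinearMap.toMatrix' T, α, β, ?_, ?_, ?_, ?_⟩
  · -- square
    have hTT : T ∘ₗ T = δ • LinearMap.id := by
      apply b.ext
      intro s
      rw [hb]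
      rcases s with i | i
      · simp only [Sum.elim_inl, LinearMap.comp_apply, LinearMap.smul_apply, LinearMap.id_apply,
          hTl, map_add, map_smul, hTr]
        rw [← hαβ]; module
      · simp only [Sum.elim_inr, LinearMap.comp_apply, LinearMap.smul_apply, LinearMap.id_apply,
          hTr, map_sub, map_smul, hTl]
        rw [← hαβ]; module
    have h3 := congrArg LinearMap.toMatrix' hTT
    rw [LinearMap.toMatrix'_comp, map_smul, LinearMap.toMatrix'_id] at h3
    exact h3
  · -- self-adjoint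
    intro u v
    rw [hκv, hκv]
    have hEq : (QuadraticMap.polarBilin Q).comp T = (QuadraticMap.polarBilin Q).compl₂ T := by
      apply LinearMap.ext_basis b b
      intro s s'
      simp only [LinearMap.comp_apply, LinearMap.compl₂_apply, hb]
      rcases s with i | i <;> rcases s' with j | j <;>
        simp only [Sum.elim_inl, Sum.elim_inr, hTl, hTr, map_add, map_sub, map_smul,
          LinearMap.add_apply, LinearMap.sub_apply, LinearMap.smul_apply, smul_eq_mul, hB1, hB2,
          hBx] <;> ring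
    have h4 := congrArg (fun B => B u v) hEq
    simpa using h4
  · -- anticommutes with `x`
    apply Matrix.toLin'.injective
    apply b.ext
    intro s
    simp only [Matrix.toLin'_apply, map_neg, LinearMap.neg_apply,
      ← Matrix.mulVec_mulVec, hκv, hb]
    rcases s with i | i
    · simp only [Sum.elim_inl, hTl, hTr, Matrix.mulVec_add, Matrix.mulVec_smul, hxxv]
      module
    · simp only [Sum.elim_inr, hTl, hTr, Matrix.mulVec_sub, Matrix.mulVec_smul, hxxv, map_neg]
      module
  · intro i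
    rw [hκv, hTl]

end Cfsg.Agent.Lib.helper59.Sfk
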